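import Cfsg.Prelude.Def_GeometricClasses
import Cfsg.Agent.MaxSub.SubfieldSp

/-!
Unitary subfield groups of index two are maximal for `n ≥ 4` (proof of S5660, helper24).
-/

set_option autoImplicit false
open Cfsg

namespace Cfsg.Agent.SU4Geo98

theorem sp_isMaximalIn_four {F : Type*} [Field F] [Fintype F] (n q : ℕ) (hF : Fintype.card F = q ^ 2) (hn : 4 ≤ n) (F₀ : Subfield F) (hcard : Fintype.card F = Nat.card F₀ ^ 2) (ζ : F) (hζ0 : ζ ≠ 0) (hζ : ζ + ζ ^ q = 0) (P : Matrix.GeneralLinearGroup (Fin n) F) (hP : Cfsg.Geo.IsFormRationalStructure (Cfsg.hermForm n F q) F₀ ζ P) (halt : ∀ u : Fin n → F, (∀ i, u i ∈ F₀) → Cfsg.hermForm n F q (Matrix.mulVec (P : Matrix (Fin n) (Fin n) F) u) (Matrix.mulVec (P : Matrix (Fin n) (Fin n) F) u) = 0) : Cfsg.Geo.IsMaximalIn (Cfsg.GU n F q ⊓ Cfsg.Geo.specialLinear (Fin n) F) (Cfsg.Geo.subfieldSubgroup F₀ P ⊓ (Cfsg.GU n F q ⊓ Cfsg.Geo.specialLinear (Fin n) F)) := by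
  classical
  obtain ⟨σ, hσ, hf⟩ := HermStab.exists_setup (n := n) hF
  have hq : Nat.card F₀ = q := Nat.pow_left_injective two_ne_zero (hcard.symm.trans hF)
  obtain ⟨ε, hε⟩ : ∃ a, σ a ≠ a := by
    by_contra h
    simp only [not_exists, not_not] at h
    exact hf.ne_refl (RingEquiv.ext h)
  have hfix : ∀ a : F, a ∈ F₀ ↔ σ a = a := fun a => by
    haveI := Fintype.ofFinite F₀
    have hle : ∀ b ∈ F₀, σ b = b := fun b hb => by
      have h := congrArg Subtype.val (FiniteField.pow_card (⟨b, hb⟩ : F₀))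
      rw [← Nat.card_eq_fintype_card, hq] at h
      rw [hσ]
      simpa using h
    refine ⟨hle a, fun ha => ?_⟩
    let φ : F₀ → {x : F // x ^ q = x} := fun b => ⟨b, by rw [← hσ]; exact hle b b.2⟩
    have hinj : Function.Injective φ := fun b c h => by
      simpa [φ] using h
    obtain ⟨b, hb⟩ := (Nat.bijective_iff_injective_and_card φ).mpr
      ⟨hinj, by rw [hq, Unitary.card_fixed hF]⟩ |>.surjective ⟨a, by rw [← hσ]; exact ha⟩
    have hb' : (b : F) = a := congrArg Subtype.val hb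
    exact hb' ▸ b.2
  have hd : SubfieldTwo.IsIndexTwo F₀ σ ε := ⟨hfix, hf.involutive, hε⟩
  have hrat : ∀ x y, SubfieldTwo.Rat F₀ P x → SubfieldTwo.Rat F₀ P y →
      Cfsg.hermForm n F q x y + σ (Cfsg.hermForm n F q x y) = 0 := fun x y hx hy => by
    obtain ⟨u, hu, rfl⟩ := SubfieldTwo.rat_iff.mp hx
    obtain ⟨w, hw, rfl⟩ := SubfieldTwo.rat_iff.mp hy
    have h := (hfix _).mp (hP u w hu hw)
    rw [map_mul, hσ ζ, eq_neg_of_add_eq_zero_right hζ] at h
    have h2 : ζ * (Cfsg.hermForm n F q ((P : Matrix (Fin n) (Fin n) F).mulVec u)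
        ((P : Matrix (Fin n) (Fin n) F).mulVec w) + σ (Cfsg.hermForm n F q
          ((P : Matrix (Fin n) (Fin n) F).mulVec u) ((P : Matrix (Fin n) (Fin n) F).mulVec w))) = 0 := by
      linear_combination -h
    exact (mul_eq_zero.mp h2).resolve_left hζ0
  have hiso : ∀ x, SubfieldTwo.Rat F₀ P x → Cfsg.hermForm n F q x x = 0 := fun x hx => by
    obtain ⟨u, hu, rfl⟩ := SubfieldTwo.rat_iff.mp hx
    exact halt u hu
  rw [← HermStab.su_eq]
  refine MaxSub.isMaximalIn_of inf_le_right ?_ fun M hHM hMG g hg hgH => ?_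
  · -- a transvection at a non-rational isotropic vector
    set x := (P : Matrix (Fin n) (Fin n) F).mulVec (Pi.single ⟨0, by omega⟩ 1) with hxdef
    have hx : SubfieldTwo.Rat F₀ P x := SubfieldTwo.rat_col _
    have hx0 : x ≠ 0 := MaxSub.mulVec_ne_zero P (by simp)
    obtain ⟨y, hy, hxy, hyn⟩ : ∃ y, SubfieldTwo.Rat F₀ P y ∧ Cfsg.hermForm n F q x y = 0 ∧
        y ∉ Submodule.span F {x} := by
      obtain ⟨w, hw, hwn⟩ := SetLike.not_le_iff_exists.mp
        fun h : LinearMap.ker (MaxSub.hl hf x) ≤ Submodule.span F {x} => by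
          have h1 := LinearMap.finrank_range_add_finrank_ker (MaxSub.hl hf x)
          have h2 := Submodule.finrank_le (LinearMap.range (MaxSub.hl hf x))
          have h3 := Submodule.finrank_mono h
          rw [finrank_span_singleton hx0] at h3
          simp at h1 h2
          omega
      obtain ⟨a, b, ha, hb, rfl⟩ := SubfieldTwo.exists_rat_split (P := P) hd w
      have h0 : Cfsg.hermForm n F q a x + ε * Cfsg.hermForm n F q b x = 0 := by
        simpa [hf.add_left, hf.smul_left] using hw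
      have hb0 : Cfsg.hermForm n F q b x = 0 := by
        have h1 := congrArg σ h0
        rw [map_add, map_mul, map_zero, eq_neg_of_add_eq_zero_right (hrat a x ha hx),
          eq_neg_of_add_eq_zero_right (hrat b x hb hx)] at h1
        have : (σ ε - ε) * Cfsg.hermForm n F q b x = 0 := by linear_combination -h1 - h0
        exact (mul_eq_zero.mp this).resolve_left (sub_ne_zero.mpr hε)
      have ha0 : Cfsg.hermForm n F q a x = 0 := by simpa [hb0] using h0
      by_cases hb' : b ∈ Submodule.span F {x}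
      · refine ⟨a, ha, MaxSub.hswap_zero hf ha0, fun ha' => hwn ?_⟩
        exact add_mem ha' (Submodule.smul_mem _ _ hb')
      · exact ⟨b, hb, MaxSub.hswap_zero hf hb0, hb'⟩
    set u := x + ε • y with hu
    have hxu : Cfsg.hermForm n F q x u = 0 := by
      rw [hu, MaxSub.hadd_right hf, MaxSub.hsmul_right hf, hiso x hx, hxy, mul_zero, add_zero]
    have huu : Cfsg.hermForm n F q u u = 0 := by
      rw [hu, hf.add_left, MaxSub.hadd_right hf, MaxSub.hadd_right hf, hf.smul_left, hf.smul_left,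
        MaxSub.hsmul_right hf, MaxSub.hsmul_right hf, hiso x hx, hiso y hy, hxy,
        MaxSub.hswap_zero hf hxy]
      ring
    have hu0 : u ≠ 0 := fun h => hx0 (SubfieldTwo.rat_eq_zero_of_add hd hx hy h).1
    obtain ⟨r, hr, hru⟩ : ∃ r, SubfieldTwo.Rat F₀ P r ∧ Cfsg.hermForm n F q r u ≠ 0 := by
      by_contra hc
      simp only [not_exists, not_and, not_not] at hc
      obtain ⟨z, hz⟩ := (hf.nondegenerate u hu0).1
      exact hz (SubfieldTwo.eq_zero_of_rat (MaxSub.hl hf u) hc z)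
    obtain ⟨c, hc0, hc⟩ := MaxSub.exists_skew hf
    refine ⟨MaxSub.ut (Cfsg.hermForm n F q) u c, HermStab.ut_mem_su hf huu hc, fun h => ?_⟩
    obtain ⟨a, ha, hag⟩ := SubfieldTwo.rat_of_mem h.1
    have haF : a ∈ F₀ := by
      have h1 := hag x hx ⟨0, by omega⟩
      rw [MaxSub.ut_mulVec hf huu, hxu, mul_zero, zero_smul, add_zero, Matrix.mulVec_smul, hxdef,
        MaxSub.inv_mulVec_mulVec] at h1
      simpa using h1
    have h2 := hag r hr
    rw [MaxSub.ut_mulVec hf huu, smul_add, smul_smul] at h2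
    have h3 := SubfieldTwo.rat_sub h2 (SubfieldTwo.rat_smul haF hr)
    rw [add_sub_cancel_left] at h3
    set e := a * (c * Cfsg.hermForm n F q r u) with he
    have he0 : e ≠ 0 := mul_ne_zero ha (mul_ne_zero hc0 hru)
    set w := e • u with hw
    obtain ⟨s, hs, t, ht, hst⟩ := SubfieldTwo.exists_split hd e⁻¹
    have h4 : (x - s • w) + ε • (y - t • w) = 0 := by
      have : u = (s + ε * t) • w := by rw [hst, hw, smul_smul, inv_mul_cancel₀ he0, one_smul]
      rw [add_smul, mul_smul, hu] at this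
      rw [smul_sub, ← sub_eq_zero.mpr this]
      abel
    obtain ⟨e1, e2⟩ := SubfieldTwo.rat_eq_zero_of_add hd
      (SubfieldTwo.rat_sub hx (SubfieldTwo.rat_smul hs h3))
      (SubfieldTwo.rat_sub hy (SubfieldTwo.rat_smul ht h3)) h4
    rw [sub_eq_zero] at e1 e2
    have hs0 : s ≠ 0 := fun h => hx0 (by rw [e1, h, zero_smul])
    exact hyn (Submodule.mem_span_singleton.mpr
      ⟨t / s, by rw [e1, e2, smul_smul, div_mul_cancel₀ _ hs0]⟩)
  · have hC : ∀ v, SubfieldTwo.Rat F₀ P v → HermStab.Centre σ (Cfsg.hermForm n F q) M v :=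
      fun v hv => ⟨hiso v hv, fun c hc => hHM ⟨SubfieldTwo.mem_of_rat one_ne_zero fun x hx => by
        rw [one_smul]; exact SubfieldTwo.rat_ut hf hd hrat hv (hiso v hv) hc hx,
        HermStab.ut_mem_su hf (hiso v hv) hc⟩⟩
    obtain ⟨v, hv, hne⟩ := SubfieldTwo.exists_nonrat hd (g := g) fun h => hgH ⟨h, hMG hg⟩
    exact HermStab.le_of_centres hF hσ hf (by omega)
      (SubfieldTwo.centre_all hf hd hrat hiso hC hv hg (hMG hg).1 hne)

/-- Clause (7) of the geometric maximal subgroups of `SU 4 q`. -/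
theorem sp_maximal {F : Type*} [Field F] [Fintype F] (q : ℕ) (hF : Fintype.card F = q ^ 2) :
    (∀ (F₀ : Subfield F) (P : Matrix.GeneralLinearGroup (Fin 4) F) (ζ : F), Fintype.card F = Nat.card F₀ ^ 2 → ζ ≠ 0 → ζ + ζ ^ q = 0 → Cfsg.Geo.IsFormRationalStructure (Cfsg.hermForm 4 F q) F₀ ζ P → (∀ u : Fin 4 → F, (∀ i, u i ∈ F₀) → (Cfsg.hermForm 4 F q) (Matrix.mulVec (P : Matrix (Fin 4) (Fin 4) F) u) (Matrix.mulVec (P : Matrix (Fin 4) (Fin 4) F) u) = 0) → Cfsg.Geo.IsMaximalIn (Cfsg.GU 4 F q ⊓ Cfsg.Geo.specialLinear (Fin 4) F) (Cfsg.Geo.subfieldSubgroup F₀ P ⊓ (Cfsg.GU 4 F q ⊓ Cfsg.Geo.specialLinear (Fin 4) F))) :=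
  fun F₀ P ζ hcard hζ0 hζ hP halt =>
    sp_isMaximalIn_four 4 q hF (le_refl 4) F₀ hcard ζ hζ0 hζ P hP halt

end Cfsg.Agent.SU4Geo98
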