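import Cfsg.Agent.MaxSub.HermStab

/-!
`HermStab.centre_of_radical` in every dimension (helper98).
-/

set_option autoImplicit false
set_option linter.unusedSectionVars false

namespace Cfsg.Agent.SU4Geo98

open Matrix Cfsg.Agent.MaxSub Cfsg.Agent.HermStab

variable {ι : Type} [Fintype ι] [DecidableEq ι] {F : Type*} [Field F] [Finite F]
variable {σ : F ≃+* F} {f : (ι → F) → (ι → F) → F} {M : Subgroup (GL ι F)}
variable (hf : Geo.IsUnitaryForm σ f)
include hf

/-- A centre `e` with its whole radical and a centre not orthogonal to it give all centres. -/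
theorem centre_of_radical_any {e : ι → F} (hce : Centre σ f M e)
    (hrad : ∀ w b, f w e = 0 → b + σ b = -f w w → qe f e w b ∈ M)
    {y : ι → F} (hyc : Centre σ f M y) (hye : f y e ≠ 0) :
    ∀ v, f v v = 0 → Centre σ f M v := by
  classical
  have hee := hce.1
  -- everything not orthogonal to `e`
  have step : ∀ v, f v v = 0 → f v e ≠ 0 → Centre σ f M v := by
    intro v hv hve
    set y' := (f v e / f y e) • y with hy'
    have hy'c : Centre σ f M y' := centre_smul hf hyc _
    set s := f v e with hs
    have hy'e : f y' e = s := by rw [hy', hf.smul_left, div_mul_cancel₀ _ hye]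
    set w := s⁻¹ • (v - y') with hw
    have hwe : f w e = 0 := by rw [hw, hf.smul_left, hsub_left hf, hy'e, ← hs, sub_self, mul_zero]
    obtain ⟨b, hb⟩ := exists_trace hf (r := -f w w) (by rw [map_neg, ← hf.herm])
    have hk : qe f e w b ∈ M := hrad w b hwe hb
    have h1 := centre_map hf hy'c hk (qe_mem_su hf hee hwe hb).1
    set δ := b * s - f y' w with hδ
    have himg : (qe f e w b : Matrix ι ι F) *ᵥ y' = v + δ • e := by
      rw [qe_mulVec hf hee hwe, hy'e, hδ, hw, smul_smul, mul_inv_cancel₀ hve, one_smul]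
      module
    rw [himg] at h1
    have hv1 := h1.1
    rw [hf.add_left, hadd_right hf, hadd_right hf, hf.smul_left, hsmul_right hf, hf.smul_left,
      hsmul_right hf, hee, hv, ← hs, hf.herm e v, ← hs] at hv1
    have hc : -δ / s + σ (-δ / s) = 0 := by
      have : σ s ≠ 0 := (map_ne_zero σ).mpr hve
      rw [map_div₀, map_neg]
      field_simp
      linear_combination -hv1
    have h2 := centre_move hf hce h1 hc
    rw [hf.add_left, hf.smul_left, hee, mul_zero, add_zero, ← hs, div_mul_cancel₀ _ hve] at h2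
    rwa [neg_smul, add_neg_cancel_right] at h2
  intro v hv
  by_cases hve : f v e ≠ 0
  · exact step v hv hve
  simp only [not_not] at hve
  by_cases hv0 : v = 0
  · rw [hv0]; exact centre_zero hf
  by_cases hvs : v ∈ Submodule.span F {e}
  · obtain ⟨r, rfl⟩ := Submodule.mem_span_singleton.mp hvs
    exact centre_smul hf hce r
  have he0 : e ≠ 0 := fun h => hye (by rw [h, hzero_right hf])
  have hev : e ∉ Submodule.span F {v} := fun h => by
    obtain ⟨r, hr⟩ := Submodule.mem_span_singleton.mp h
    exact hvs (Submodule.mem_span_singleton.mpr ⟨r⁻¹, by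
      rw [← hr, smul_smul, inv_mul_cancel₀ fun h0 => he0 (by rw [← hr, h0, zero_smul]), one_smul]⟩)
  obtain ⟨z₁, hz₁, hz₁e⟩ := exists_dual hf hvs
  obtain ⟨z₂, hz₂, hz₂v⟩ := exists_dual hf hev
  have hev0 := hswap_zero hf hve
  obtain ⟨t, ht⟩ := exists_trace hf (r := -f (z₁ + z₂) (z₁ + z₂)) (by rw [map_neg, ← hf.herm])
  set z₀ := z₁ + z₂ with hz₀
  have h0e : f z₀ e = 1 := by
    rw [hz₀, hf.add_left, (hz₁e e (Submodule.mem_span_singleton_self e)).1, hz₂, zero_add]
  have h0v : f z₀ v = 1 := by
    rw [hz₀, hf.add_left, hz₁, (hz₂v v (Submodule.mem_span_singleton_self v)).1, add_zero]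
  clear hz₀
  clear_value z₀
  set z := z₀ + t • e with hzdef
  have hze : f z e = 1 := by rw [hzdef, hf.add_left, hf.smul_left, hee, h0e, mul_zero, add_zero]
  have hzv : f z v = 1 := by rw [hzdef, hf.add_left, hf.smul_left, hev0, h0v, mul_zero, add_zero]
  have hzz : f z z = 0 := by
    rw [hzdef, hf.add_left, hadd_right hf, hadd_right hf, hf.smul_left, hsmul_right hf,
      hf.smul_left, hsmul_right hf, hee, hf.herm e z₀, h0e, map_one]
    linear_combination ht
  obtain ⟨c, hc0, hc⟩ := exists_skew hf
  have hzC : Centre σ f M z := step z hzz (by rw [hze]; exact one_ne_zero)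
  have hk := hzC.2 c hc
  have hki := ut_mem_isom hf hzz hc
  have h1 := centre_map hf (step _ ((mem_isom.mp hki v v).trans hv) (by
    rw [ut_mulVec hf hzz, hf.add_left, hf.smul_left, hve, zero_add, hze, mul_one]
    exact mul_ne_zero hc0 (hswap_ne_zero hf (by rw [hzv]; exact one_ne_zero))))
    (inv_mem hk) (inv_mem hki)
  rwa [inv_mulVec_mulVec] at h1

end Cfsg.Agent.SU4Geo98
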