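import Cfsg.Agent.MaxSub.HermStabStd
import Cfsg.Agent.SU4Geo98.Radical

/-!
Stabilisers of totally isotropic subspaces and of non-isotropic points are maximal in `SU₄`
(helper60, after `MaxSub.HermStab`).
-/

set_option autoImplicit false
set_option linter.unusedSectionVars false

namespace Cfsg.Agent.SU4Geo98

open Matrix Cfsg.Agent.MaxSub Cfsg.Agent.HermStab

section Core

variable {ι : Type} [Fintype ι] [DecidableEq ι] {F : Type*} [Field F] [Finite F]
variable {σ : F ≃+* F} {f : (ι → F) → (ι → F) → F} {M : Subgroup (GL ι F)}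
variable (hf : Geo.IsUnitaryForm σ f)
include hf

/-- `centre_of_singular_stab` in every dimension. -/
theorem centre_of_singular_stab_any {W : Submodule F (ι → F)}
    (hW : ∀ x ∈ W, ∀ y ∈ W, f x y = 0) (hMG : M ≤ su f)
    (hH : ∀ g ∈ su f, (∀ x ∈ W, (g : Matrix ι ι F) *ᵥ x ∈ W) → g ∈ M)
    {g : GL ι F} (hg : g ∈ M) (hgW : ¬ ∀ x ∈ W, (g : Matrix ι ι F) *ᵥ x ∈ W) :
    ∀ v, f v v = 0 → Centre σ f M v := by
  classical
  have hperp : ∀ v, f v v = 0 → (∀ w ∈ W, f w v = 0) → Centre σ f M v := fun v hv hvW =>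
    ⟨hv, fun c hc => hH _ (ut_mem_su hf hv hc) fun x hx => by
      rw [ut_mulVec hf hv, hvW x hx, mul_zero, zero_smul, add_zero]; exact hx⟩
  have hgi : g ∈ isom f := (hMG hg).1
  -- `e ∈ W` and a centre not orthogonal to it
  obtain ⟨e, he, a, ha, hga⟩ :
      ∃ e ∈ W, ∃ a, a ∉ W ∧ (g : Matrix ι ι F) *ᵥ a = e := by
    by_contra hc
    simp only [not_exists, not_and] at hc
    have hinv : ∀ x ∈ W, ((g⁻¹ : GL ι F) : Matrix ι ι F) *ᵥ x ∈ W := fun x hx => by
      by_contra h; exact hc x hx _ h (mulVec_inv_mulVec g x)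
    exact hgW fun x hx => (inv_mem (mem_subspaceStabilizer hinv) x).mp hx |> fun h => by
      simpa using h
  have hee := hW e he e he
  have haa : f a a = 0 := by rw [← mem_isom.mp hgi a a, hga]; exact hee
  obtain ⟨z, hzc, hza⟩ : ∃ z, Centre σ f M z ∧ f z a ≠ 0 := by
    by_cases hc : ∃ w ∈ W, f a w ≠ 0
    · obtain ⟨w, hw, haw⟩ := hc
      exact ⟨w, hperp w (hW w hw w hw) fun x hx => hW x hx w hw, hswap_ne_zero hf haw⟩
    simp only [not_exists, not_and, not_not] at hc
    obtain ⟨z₀, hz₀, hz₀W⟩ := exists_dual hf ha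
    obtain ⟨t, ht⟩ := exists_trace hf (r := -f z₀ z₀) (by rw [map_neg, ← hf.herm])
    refine ⟨z₀ + t • a, hperp _ ?_ fun x hx => ?_, ?_⟩
    · rw [hf.add_left, hadd_right hf, hadd_right hf, hf.smul_left, hsmul_right hf, hf.smul_left,
        hsmul_right hf, haa, hz₀, hf.herm a z₀, hz₀, map_one]
      linear_combination ht
    · rw [hadd_right hf, hsmul_right hf, (hz₀W x hx).2, hswap_zero hf (hc x hx)]
      simp
    · rw [hf.add_left, hf.smul_left, hz₀, haa, mul_zero, add_zero]
      exact one_ne_zero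
  obtain ⟨y, hyc, hye⟩ : ∃ y, Centre σ f M y ∧ f y e ≠ 0 :=
    ⟨_, centre_map hf hzc hg hgi, by rw [← hga, mem_isom.mp hgi]; exact hza⟩
  exact centre_of_radical_any hf (hperp e hee fun x hx => hW x hx e he)
    (fun w b hwe hb => hH _ (qe_mem_su hf hee hwe hb) fun x hx => by
      rw [qe_mulVec hf hee hwe, hW x hx e he, zero_smul, add_zero, mul_zero, zero_smul, add_zero]
      exact sub_mem hx (W.smul_mem _ he)) hyc hye

/-- The quasi-reflection `d ↦ lam d`. -/
theorem exists_refl {d : ι → F} (hd : f d d ≠ 0) {lam : F} (hlam : σ lam * lam = 1) :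
    ∃ k : GL ι F, (k : Matrix ι ι F).det = lam ∧ k ∈ isom f ∧
      ∀ x, (k : Matrix ι ι F) *ᵥ x = x + ((lam - 1) / f d d * f x d) • d := by
  set c := (lam - 1) / f d d with hc
  have hdet : (1 + vecMulVec d (c • rep f d)).det = lam := by
    rw [vecMulVec_eq Unit, det_one_add_replicateCol_mul_replicateRow, smul_dotProduct,
      hrep_dot hf, smul_eq_mul, hc, div_mul_cancel₀ _ hd, add_sub_cancel]
  have hne : (1 + vecMulVec d (c • rep f d)).det ≠ 0 := by
    rw [hdet]; exact fun h => zero_ne_one (α := F) (by rw [← hlam, h, mul_zero])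
  have hval : ∀ x, (1 + vecMulVec d (c • rep f d)) *ᵥ x = x + (c * f x d) • d := fun x => by
    rw [add_mulVec, one_mulVec, vecMulVec_mulVec, op_smul_eq_smul, smul_dotProduct, hrep_dot hf,
      smul_eq_mul]
  refine ⟨GeneralLinearGroup.mkOfDetNeZero _ hne, hdet, fun x y => ?_, hval⟩
  show f ((1 + vecMulVec d (c • rep f d)) *ᵥ x) ((1 + vecMulVec d (c • rep f d)) *ᵥ y) = f x y
  rw [hval, hval]
  simp only [hf.add_left, hadd_right hf, hf.smul_left, hsmul_right hf, map_mul, ← hf.herm d y]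
  have hfix : σ (f d d) = f d d := (hf.herm d d).symm
  have key : c + σ c + c * σ c * f d d = 0 := by
    rw [hc, map_div₀, map_sub, map_one, hfix]
    field_simp
    linear_combination hlam
  linear_combination (f x d * f d y) * key

/-- An isometry moving `b` to `b'` and fixing everything orthogonal to both. -/
theorem exists_move {b b' : ι → F} (hb : f b b ≠ 0) (hn : f b b = f b' b') :
    ∃ k : GL ι F, σ (k : Matrix ι ι F).det * (k : Matrix ι ι F).det = 1 ∧ k ∈ isom f ∧
      (k : Matrix ι ι F) *ᵥ b = b' ∧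
      ∀ x, f x b = 0 → f x b' = 0 → (k : Matrix ι ι F) *ᵥ x = x := by
  have hdet1 : ∀ k : GL ι F, k ∈ Geo.specialLinear ι F →
      σ (k : Matrix ι ι F).det * (k : Matrix ι ι F).det = 1 := fun k hk => by
    have h : GeneralLinearGroup.det k = 1 := hk
    rw [← GeneralLinearGroup.val_det_apply, h, Units.val_one, map_one, one_mul]
  by_cases hbb : b' = b
  · exact ⟨1, hdet1 1 (one_mem _), one_mem _, by simp [hbb], fun x _ _ => by simp⟩
  set d := b' - b with hd
  have hxd : ∀ x, f x b = 0 → f x b' = 0 → f x d = 0 := fun x h1 h2 => by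
    rw [hd, hsub_right hf, h1, h2, sub_zero]
  have hn' : f b d + f d b + f d d = 0 := by
    have e : b' = b + d := by rw [hd, add_sub_cancel]
    have := hn
    rw [e, hf.add_left, hadd_right hf, hadd_right hf] at this
    linear_combination -this
  by_cases hbd : f b d = 0
  · -- `d` is isotropic and orthogonal to `b`
    have hdd : f d d = 0 := by rw [hbd, hswap_zero hf hbd, zero_add, zero_add] at hn'; exact hn'
    set z := (-(f b b)⁻¹) • b with hz
    have hzd : f z d = 0 := by rw [hz, hf.smul_left, hbd, mul_zero]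
    have hfix : σ (f b b) = f b b := (hf.herm b b).symm
    obtain ⟨β, hβ⟩ := exists_trace hf (r := -f z z) (by rw [map_neg, ← hf.herm])
    refine ⟨qe f d z β, hdet1 _ (qe_det d z β), (qe_mem_su hf hdd hzd hβ).1, ?_, fun x h1 h2 => ?_⟩
    · rw [qe_mulVec hf hdd hzd, hbd, zero_smul, mul_zero, zero_smul, add_zero, add_zero, hz,
        hsmul_right hf, map_neg, map_inv₀, hfix, neg_mul, inv_mul_cancel₀ hb, neg_smul, one_smul,
        sub_neg_eq_add, hd, add_sub_cancel]
    · rw [qe_mulVec hf hdd hzd, hxd x h1 h2, zero_smul, mul_zero, zero_smul, add_zero, add_zero,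
        hz, hsmul_right hf, h1, mul_zero, zero_smul, sub_zero]
  by_cases hdd : f d d = 0
  · have hc : (f b d)⁻¹ + σ (f b d)⁻¹ = 0 := by
      have : σ (f b d) ≠ 0 := (map_ne_zero σ).mpr hbd
      rw [map_inv₀]
      field_simp
      rw [hdd, hf.herm d b] at hn'
      linear_combination hn'
    refine ⟨ut f d (f b d)⁻¹, hdet1 _ (tv_mem_specialLinear _ _), ut_mem_isom hf hdd hc, ?_, fun x h1 h2 => ?_⟩
    · rw [ut_mulVec hf hdd, inv_mul_cancel₀ hbd, one_smul, hd, add_sub_cancel]
    · rw [ut_mulVec hf hdd, hxd x h1 h2, mul_zero, zero_smul, add_zero]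
  have hlam : σ (1 + f d d / f b d) * (1 + f d d / f b d) = 1 := by
    have : σ (f b d) ≠ 0 := (map_ne_zero σ).mpr hbd
    rw [map_add, map_one, map_div₀, (hf.herm d d).symm]
    field_simp
    rw [hf.herm d b] at hn'
    linear_combination (f d d) * hn'
  obtain ⟨k, hkd, hki, hk⟩ := exists_refl hf hdd hlam
  refine ⟨k, by rw [hkd]; exact hlam, hki, ?_, fun x h1 h2 => ?_⟩
  · rw [hk, add_sub_cancel_left, show f d d / f b d / f d d * f b d = 1 by field_simp, one_smul,
      hd, add_sub_cancel]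
  · rw [hk, hxd x h1 h2, mul_zero, zero_smul, add_zero]

/-- A subgroup with the stabiliser of a non-isotropic point of a four-space and one more
element. -/
theorem centre_of_point_stab {w : ι → F} (hw : f w w ≠ 0) (h4 : Fintype.card ι = 4)
    (hMG : M ≤ su f)
    (hH : ∀ g ∈ su f, (∃ r : F, (g : Matrix ι ι F) *ᵥ w = r • w) → g ∈ M)
    {g : GL ι F} (hg : g ∈ M) (hgw : ¬ ∃ r : F, (g : Matrix ι ι F) *ᵥ w = r • w) :
    ∀ v, f v v = 0 → Centre σ f M v := by
  classical
  set W := Submodule.span F {w} with hW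
  set U := perp hf W with hU
  have hw0 : w ≠ 0 := fun h => hw (by rw [h, hzero_left hf])
  have hmemU : ∀ x, x ∈ U ↔ f x w = 0 := fun x => by
    refine ⟨fun h => (mem_perp hf).mp h w (Submodule.mem_span_singleton_self w),
      fun h => (mem_perp hf).mpr fun u hu => ?_⟩
    obtain ⟨r, rfl⟩ := Submodule.mem_span_singleton.mp hu
    rw [hsmul_right hf, h, mul_zero]
  have hdec : ∀ x, ∃ a : F, ∃ b, f b w = 0 ∧ a • w + b = x := fun x =>
    ⟨f x w / f w w, x - (f x w / f w w) • w,
      by rw [hsub_left hf, hf.smul_left, div_mul_cancel₀ _ hw, sub_self], add_sub_cancel _ x⟩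
  have hUnd : IsNd hf U := fun b hb hall => by
    by_contra hb0
    obtain ⟨y, hy⟩ := (hf.nondegenerate b hb0).2
    obtain ⟨a, c, hc, rfl⟩ := hdec y
    rw [hadd_right hf, hsmul_right hf, (hmemU b).mp hb, mul_zero, zero_add,
      hall c ((hmemU c).mpr hc)] at hy
    exact hy rfl
  have hUdim : 3 ≤ Module.finrank F U := by
    have hWn : IsNd hf W := fun x hx hall => by
      obtain ⟨r, rfl⟩ := Submodule.mem_span_singleton.mp hx
      have := hall w (Submodule.mem_span_singleton_self w)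
      rw [hf.smul_left, mul_eq_zero] at this
      rw [this.resolve_right hw, zero_smul]
    have h := Submodule.finrank_sup_add_finrank_inf_eq W U
    have htop : W ⊔ U = ⊤ := eq_top_iff.mpr fun x _ => by
      obtain ⟨p, hp, hxp⟩ := exists_proj hf hWn x
      simpa using Submodule.add_mem_sup hp hxp
    rw [htop, finrank_top, Module.finrank_fintype_fun_eq_card, h4] at h
    have h1 : Module.finrank F W = 1 := finrank_span_singleton hw0
    omega
  have hgi := (hMG hg).1
  have hC : ∀ v, f v w = 0 → f v v = 0 → Centre σ f M v := fun v hv hvv =>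
    ⟨hvv, fun c hc => hH _ (ut_mem_su hf hvv hc) ⟨1, by
      rw [ut_mulVec hf hvv, hswap_zero hf hv, mul_zero, zero_smul, add_zero, one_smul]⟩⟩
  -- a mixed centre
  obtain ⟨b₀, hb₀, hc₀⟩ : ∃ b, f b w = 0 ∧ Centre σ f M (w + b) := by
    obtain ⟨e, he, hee, hge⟩ : ∃ e, f e w = 0 ∧ f e e = 0 ∧
        f ((g : Matrix ι ι F) *ᵥ e) w ≠ 0 := by
      by_contra hc
      simp only [not_exists, not_and, not_not] at hc
      have hle := le_of_iso_mem hf hUnd (by omega)
        (S := U.comap (Matrix.mulVecLin (g : Matrix ι ι F)))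
        fun x hx hxx => (hmemU _).mpr (hc x ((hmemU x).mp hx) hxx)
      have hinv : ∀ x ∈ U, ((g⁻¹ : GL ι F) : Matrix ι ι F) *ᵥ x ∈ U := fun x hx => by
        exact (inv_mem (mem_subspaceStabilizer (g := g) hle) x).mp hx
      obtain ⟨a, b, hb, hab⟩ := hdec ((g : Matrix ι ι F) *ᵥ w)
      refine hgw ⟨a, ?_⟩
      suffices b = 0 by rw [← hab, this, add_zero]
      refine hUnd b ((hmemU b).mpr hb) fun y hy => ?_
      have h1 : f ((g : Matrix ι ι F) *ᵥ w) y = 0 := by
        rw [← mulVec_inv_mulVec g y, mem_isom.mp hgi]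
        exact hswap_zero hf ((hmemU _).mp (hinv y hy))
      rwa [← hab, hf.add_left, hf.smul_left, hswap_zero hf ((hmemU y).mp hy), mul_zero,
        zero_add] at h1
    obtain ⟨a, b, hb, hab⟩ := hdec ((g : Matrix ι ι F) *ᵥ e)
    have ha : a ≠ 0 := fun h => by
      rw [← hab, h, zero_smul, zero_add] at hge
      exact hge hb
    have h1 := centre_smul hf (centre_map hf (hC e he hee) hg hgi) a⁻¹
    refine ⟨a⁻¹ • b, by rw [hf.smul_left, hb, mul_zero], ?_⟩
    rwa [← hab, smul_add, smul_smul, inv_mul_cancel₀ ha, one_smul] at h1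
  have hnb : ∀ b, f b w = 0 → f (w + b) (w + b) = 0 → f b b = -f w w := fun b hb h => by
    rw [hf.add_left, hadd_right hf, hadd_right hf, hb, hswap_zero hf hb] at h
    linear_combination h
  -- all mixed centres
  have hfill : ∀ b, f b w = 0 → f (w + b) (w + b) = 0 → Centre σ f M (w + b) := by
    intro b hb hiso
    have hn₀ := hnb b₀ hb₀ hc₀.1
    have hn := hnb b hb hiso
    obtain ⟨k, hkn, hki, hkb, hkfix⟩ := exists_move hf (b := b₀) (b' := b)
      (by rw [hn₀]; simpa using hw) (by rw [hn₀, hn])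
    have hkw : (k : Matrix ι ι F) *ᵥ w = w :=
      hkfix w (hswap_zero hf hb₀) (hswap_zero hf hb)
    obtain ⟨z, hzU, hzb, hzz⟩ := exists_norm_in hf hUnd (LinearMap.pi ![hl hf b])
      (Or.inl (by omega)) (zero_mem U) (map_one σ)
    have hzb' : f z b = 0 := by simpa [hzero_left hf] using congrFun hzb 0
    set δ := (k : Matrix ι ι F).det with hδ
    have hδ0 : δ ≠ 0 := by
      rw [hδ, ← GeneralLinearGroup.val_det_apply]; exact Units.ne_zero _
    have hδn : σ δ * δ = 1 := hkn
    have hlam : σ δ⁻¹ * δ⁻¹ = 1 := by rw [map_inv₀, ← mul_inv, hδn, inv_one]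
    obtain ⟨r, hrd, hri, hr⟩ := exists_refl hf (d := z) (by rw [hzz]; exact one_ne_zero) hlam
    have hrw : (r : Matrix ι ι F) *ᵥ w = w := by
      rw [hr, hswap_zero hf ((hmemU z).mp hzU), mul_zero, zero_smul, add_zero]
    have hrb : (r : Matrix ι ι F) *ᵥ b = b := by
      rw [hr, hswap_zero hf hzb', mul_zero, zero_smul, add_zero]
    have hrk : r * k ∈ su f := by
      refine ⟨mul_mem hri hki, ?_⟩
      show Matrix.GeneralLinearGroup.det (r * k) = 1
      refine Units.ext ?_
      rw [map_mul, Units.val_mul, GeneralLinearGroup.val_det_apply,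
        GeneralLinearGroup.val_det_apply, hrd, ← hδ, inv_mul_cancel₀ hδ0, Units.val_one]
    have hrkw : ((r * k : GL ι F) : Matrix ι ι F) *ᵥ w = w := by
      rw [Units.val_mul, ← mulVec_mulVec, hkw, hrw]
    have h1 := centre_map hf hc₀ (hH _ hrk ⟨1, by rw [hrkw, one_smul]⟩) hrk.1
    rwa [mulVec_add, hrkw, Units.val_mul, ← mulVec_mulVec, hkb, hrb] at h1
  intro v hv
  obtain ⟨a, b, hb, rfl⟩ := hdec v
  by_cases ha : a = 0
  · subst ha
    rw [zero_smul, zero_add] at hv ⊢
    exact hC b hb hv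
  · have hiso : f (w + a⁻¹ • b) (w + a⁻¹ • b) = 0 := by
      have e : w + a⁻¹ • b = a⁻¹ • (a • w + b) := by
        rw [smul_add, smul_smul, inv_mul_cancel₀ ha, one_smul]
      rw [e, hf.smul_left, hsmul_right hf, hv, mul_zero, mul_zero]
    have h1 := centre_smul hf (hfill _ (by rw [hf.smul_left, hb, mul_zero]) hiso) a
    rwa [smul_add, smul_smul, mul_inv_cancel₀ ha, one_smul] at h1

end Core

variable {F : Type*} [Field F] [Fintype F]

/-- Stabilisers of totally isotropic subspaces are maximal in `SU₄`. -/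
theorem singular_maximal (q : ℕ) (hF : Fintype.card F = q ^ 2) :
    ∀ W : Submodule F (Fin 4 → F), W ≠ ⊥ → Cfsg.Geo.IsTotallySingularFor (Cfsg.hermForm 4 F q) W → Cfsg.Geo.IsMaximalIn (Cfsg.GU 4 F q ⊓ Cfsg.Geo.specialLinear (Fin 4) F) (Cfsg.Geo.subspaceStabilizer W ⊓ (Cfsg.GU 4 F q ⊓ Cfsg.Geo.specialLinear (Fin 4) F)) := by
  intro W hW0 hW
  obtain ⟨σ, hσ, hf⟩ := exists_setup (n := 4) hF
  rw [← su_eq]
  refine isMaximalIn_of inf_le_right ?_ fun M hHM hMG g hg hgH => ?_
  · obtain ⟨e, he, he0⟩ := W.ne_bot_iff.mp hW0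
    obtain ⟨z₀, hz₀, -⟩ := exists_dual hf (U := ⊥) (by simpa using he0)
    obtain ⟨z, hz, hzz⟩ := exists_isotropic_coset hf (LinearMap.pi ![hl hf e]) (by simp) z₀
    have hze : hermForm 4 F q z e = 1 := by simpa [hz₀] using congrFun hz 0
    obtain ⟨c, hc0, hc⟩ := exists_skew hf
    refine ⟨ut _ z c, ut_mem_su hf hzz hc, fun h => ?_⟩
    have h1 := (h.1 e).mp he
    change (ut (hermForm 4 F q) z c : Matrix (Fin 4) (Fin 4) F) *ᵥ e ∈ W at h1
    rw [ut_mulVec hf hzz] at h1
    have h2 := (Submodule.add_mem_iff_right W he).mp h1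
    rw [Submodule.smul_mem_iff W (mul_ne_zero hc0
      (hswap_ne_zero hf (by rw [hze]; exact one_ne_zero)))] at h2
    exact one_ne_zero (hze.symm.trans (hW z h2 e he))
  · exact le_of_centres hF hσ hf le_rfl (centre_of_singular_stab_any hf hW hMG
      (fun k hk hs => hHM ⟨mem_subspaceStabilizer hs, hk⟩) hg
      fun hs => hgH ⟨mem_subspaceStabilizer hs, hMG hg⟩)

/-- Stabilisers of non-isotropic points are maximal in `SU₄`. -/
theorem point_maximal (q : ℕ) (hF : Fintype.card F = q ^ 2) :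
    ∀ W : Submodule F (Fin 4 → F), W ≠ ⊥ → Cfsg.Geo.IsNondegenerateOn (Cfsg.hermForm 4 F q) W → 2 * Module.finrank F W < 4 → Cfsg.Geo.IsMaximalIn (Cfsg.GU 4 F q ⊓ Cfsg.Geo.specialLinear (Fin 4) F) (Cfsg.Geo.subspaceStabilizer W ⊓ (Cfsg.GU 4 F q ⊓ Cfsg.Geo.specialLinear (Fin 4) F)) := by
  intro W hW0 hW hdim
  obtain ⟨σ, hσ, hf⟩ := exists_setup (n := 4) hF
  rw [← su_eq]
  obtain ⟨w, hwW, hw0⟩ := W.ne_bot_iff.mp hW0
  have hW1 : W = Submodule.span F {w} := by
    refine (Submodule.eq_of_le_of_finrank_le (Submodule.span_le.mpr (by simpa using hwW)) ?_).symm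
    rw [finrank_span_singleton hw0]
    omega
  have hww : hermForm 4 F q w w ≠ 0 := by
    obtain ⟨y, hy, hy'⟩ := (hW w hwW hw0).2
    rw [hW1] at hy
    obtain ⟨r, rfl⟩ := Submodule.mem_span_singleton.mp hy
    intro h
    exact hy' (by rw [hsmul_right hf, h, mul_zero])
  refine isMaximalIn_of inf_le_right ?_ fun M hHM hMG g hg hgH => ?_
  · obtain ⟨z₀, hz₀, -⟩ := exists_dual hf (U := ⊥) (by simpa using hw0)
    obtain ⟨z, hz, hzz⟩ := exists_isotropic_coset hf (LinearMap.pi ![hl hf w]) (by simp) z₀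
    have hzw : hermForm 4 F q z w = 1 := by simpa [hz₀] using congrFun hz 0
    obtain ⟨c, hc0, hc⟩ := exists_skew hf
    refine ⟨ut _ z c, ut_mem_su hf hzz hc, fun h => ?_⟩
    have h1 := (h.1 w).mp hwW
    change (ut (hermForm 4 F q) z c : Matrix (Fin 4) (Fin 4) F) *ᵥ w ∈ W at h1
    rw [ut_mulVec hf hzz] at h1
    have h2 := (Submodule.add_mem_iff_right W hwW).mp h1
    rw [Submodule.smul_mem_iff W (mul_ne_zero hc0
      (hswap_ne_zero hf (by rw [hzw]; exact one_ne_zero))), hW1] at h2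
    obtain ⟨r, hr⟩ := Submodule.mem_span_singleton.mp h2
    have h3 : r • w = z := hr
    rw [← h3, hf.smul_left, hsmul_right hf] at hzz
    have hr0 : r = 0 := by simpa [hww] using hzz
    rw [← h3, hr0, zero_smul, hzero_left hf] at hzw
    exact zero_ne_one hzw
  · refine le_of_centres hF hσ hf le_rfl (centre_of_point_stab hf hww (by simp) hMG
      (fun k hk hs => hHM ⟨mem_subspaceStabilizer fun x hx => ?_, hk⟩) hg
      fun hs => hgH ⟨mem_subspaceStabilizer fun x hx => ?_, hMG hg⟩)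
    all_goals
      obtain ⟨r, hr⟩ := hs
      rw [hW1] at hx ⊢
      obtain ⟨s, rfl⟩ := Submodule.mem_span_singleton.mp hx
      rw [mulVec_smul, hr]
      exact Submodule.smul_mem _ _ (Submodule.smul_mem _ _ (Submodule.mem_span_singleton_self w))

end Cfsg.Agent.SU4Geo98
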