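import Cfsg.Agent.UDec18.Main

/-!
Clause (4) of S5783: stabilisers of decompositions of a four-dimensional unitary space into two
mutually orthogonal non-degenerate planes are maximal in `SU_4(q)`, `q ≥ 3` (helper34).
-/

set_option autoImplicit false
open Cfsg

namespace Cfsg.Agent.SU4Geo98

/-- Two mutually orthogonal non-degenerate planes. -/
theorem blocks_maximal {F : Type*} [Field F] [Fintype F] (q : ℕ) (hF : Fintype.card F = q ^ 2) :
    3 ≤ q → ∀ D : Fin 2 → Submodule F (Fin 4 → F),
      Cfsg.Geo.IsNondegenerateMDecomposition (Cfsg.hermForm 4 F q) 2 D →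
      Cfsg.Geo.IsMaximalIn (Cfsg.GU 4 F q ⊓ Cfsg.Geo.specialLinear (Fin 4) F)
        (Cfsg.Geo.decompositionStabilizer D ⊓ (Cfsg.GU 4 F q ⊓ Cfsg.Geo.specialLinear (Fin 4) F)) :=
  fun hq _ hD => UDec18.decomposition_isMaximalIn_ge_four hF le_rfl (fun h => absurd h (by omega))
    (fun h => absurd h (by omega)) hD (by omega)

end Cfsg.Agent.SU4Geo98
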