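import Cfsg.Agent.MaxSub.LagrangianHerm

/-!
The stabiliser of a pair of complementary totally isotropic planes is maximal in `SU_4(q)`,
`q ≥ 4` (helper34; the hermitian version of `Sp4Odd.Lag`).
-/

set_option autoImplicit false
set_option linter.unusedSectionVars false

namespace Cfsg.Agent.SU4Geo98.LagCore

open Matrix Cfsg.Agent.MaxSub

variable {ι : Type} [Fintype ι] [DecidableEq ι] {F : Type*} [Field F]
variable {s : F →+* F} {f : (ι → F) → (ι → F) → F}
variable (hf : LagPair.IsPairForm s (-1 : F) f)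
include hf

theorem swap_eq (x y : ι → F) : s (f y x) = f x y := by rw [hf.swap, neg_neg, one_mul]

theorem conj_left {g : GL ι F} (hg : g ∈ isom f) (x z : ι → F) :
    f (((g⁻¹ : GL ι F) : Matrix ι ι F) *ᵥ x) z = f x ((g : Matrix ι ι F) *ᵥ z) := by
  conv_rhs => rw [← mulVec_inv_mulVec g x, mem_isom.mp hg]

theorem T_add {v : ι → F} (hv : f v v = 0) (a b : F) :
    LagPair.T f v a * LagPair.T f v b = LagPair.T f v (a + b) := by
  refine gl_ext fun x => ?_
  rw [Units.val_mul, ← mulVec_mulVec, LagPair.T_mulVec hf hv, LagPair.T_mulVec hf hv,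
    LagPair.T_mulVec hf hv, hf.add_left, hf.smul_left, hv, mul_zero, add_zero]
  module

theorem T_smul {v : ι → F} (hv : f v v = 0) (r a : F) :
    LagPair.T f (r • v) a = LagPair.T f v (a * (r * s r)) := by
  refine gl_ext fun x => ?_
  rw [LagPair.T_mulVec hf (by rw [hf.smul_left, hf.smul_right, hv]; ring),
    LagPair.T_mulVec hf hv, hf.smul_right]
  module

variable {G : Subgroup (GL ι F)}
variable (hTG : ∀ v a, f v v = 0 → (-1 : F) * s a = a → LagPair.T f v a ∈ G)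
variable {θ : F} (hθ : θ ≠ 0) (hθc : (-1 : F) * s θ = θ)
include hTG hθ hθc

/-- The dilation of a hyperbolic plane. -/
theorem exists_dil {a b : ι → F} (ha : f a a = 0) (hb : f b b = 0) (hab : f a b = 1) {l : F}
    (hl : l ≠ 0) (hls : s l = l) :
    ∃ k ∈ G, ∀ x, (k : Matrix ι ι F) *ᵥ x =
      x + ((l - 1) * f x b) • a + ((l⁻¹ - 1) * f x a) • b := by
  have hba : f b a = 1 := by rw [← swap_eq hf, hab, map_one]
  have hsθ : s θ = -θ := by linear_combination (-1 : F) * hθc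
  have c1 : ∀ t, s t = t → (-1 : F) * s (t * θ) = t * θ := fun t ht => by
    rw [map_mul, ht, hsθ]; ring
  have c2 : ∀ t, s t = t → (-1 : F) * s (-(t * θ)⁻¹) = -(t * θ)⁻¹ := fun t ht => by
    rw [map_neg, map_inv₀, map_mul, ht, hsθ]
    simp [inv_neg]
  have hm1 : s (-1 : F) = -1 := by rw [map_neg, map_one]
  refine ⟨LagPair.T f a (l * θ) * LagPair.T f b (-(l * θ)⁻¹) * LagPair.T f a (l * θ) *
    (LagPair.T f a ((-1) * θ) * LagPair.T f b (-((-1) * θ)⁻¹) * LagPair.T f a ((-1) * θ)),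
    mul_mem (mul_mem (mul_mem (hTG _ _ ha (c1 l hls)) (hTG _ _ hb (c2 l hls)))
      (hTG _ _ ha (c1 l hls)))
      (mul_mem (mul_mem (hTG _ _ ha (c1 _ hm1)) (hTG _ _ hb (c2 _ hm1))) (hTG _ _ ha (c1 _ hm1))),
    fun x => ?_⟩
  simp only [Units.val_mul, ← mulVec_mulVec, LagPair.T_mulVec hf ha, LagPair.T_mulVec hf hb,
    hf.add_left, hf.smul_left, ha, hb, hab, hba]
  match_scalars <;> field_simp <;> ring

variable (hGi : G ≤ isom f) {L L₀ : Submodule F (ι → F)} (hp : LagPair.IsPair f 2 L L₀) [Finite F]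
include hGi hp

/-- A scalar on each of the two summands. -/
theorem exists_scalar {l : F} (hl : l ≠ 0) (hls : s l = l) :
    ∃ k ∈ G, (∀ x ∈ L, (k : Matrix ι ι F) *ᵥ x = l • x) ∧
      ∀ y ∈ L₀, (k : Matrix ι ι F) *ᵥ y = l⁻¹ • y := by
  obtain ⟨a₁, ha₁, ha₁'⟩ := LagPair.exists_notMem hf hp (U := (⊥ : Submodule F (ι → F)))
    (by rw [finrank_bot]; omega)
  obtain ⟨b₁, hb₁, e11, -⟩ := LagPair.exists_dual_mem hf hp (U := ⊥) ha₁ ha₁'
  obtain ⟨a₂, ha₂, ha₂0, e21⟩ : ∃ a₂ ∈ L, a₂ ≠ 0 ∧ f a₂ b₁ = 0 := by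
    let φ : L →ₗ[F] F := (LagPair.lm hf b₁).comp L.subtype
    have e := LinearMap.finrank_range_add_finrank_ker φ
    have e' := (LinearMap.range φ).finrank_le
    rw [hp.fin₁] at e
    rw [Module.finrank_self] at e'
    obtain ⟨x, hx, hx0⟩ := (LinearMap.ker φ).ne_bot_iff.mp fun h => by
      rw [h, finrank_bot] at e; omega
    exact ⟨x, x.2, fun h => hx0 (Subtype.ext h), hx⟩
  have hn12 : a₂ ∉ Submodule.span F {a₁} := fun h => by
    obtain ⟨r, rfl⟩ := Submodule.mem_span_singleton.mp h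
    rw [hf.smul_left, e11, mul_one] at e21
    exact ha₂0 (by rw [e21, zero_smul])
  obtain ⟨b₂, hb₂, e22, he⟩ := LagPair.exists_dual_mem hf hp ha₂ hn12
  have e12 : f a₁ b₂ = 0 := he _ ha₁ (Submodule.mem_span_singleton_self _)
  have hL : ∀ x ∈ L, x = f x b₁ • a₁ + f x b₂ • a₂ := by
    intro x hx
    have hli : LinearIndependent F ![a₁, a₂] := LinearIndependent.pair_iff.mpr fun p r h => by
      have h1 := congrArg (fun z => f z b₁) h
      have h2 := congrArg (fun z => f z b₂) h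
      simp only [hf.add_left, hf.smul_left, e11, e21, e12, e22, LagPair.zero_left hf] at h1 h2
      exact ⟨by linear_combination h1, by linear_combination h2⟩
    have hspan : Submodule.span F (Set.range ![a₁, a₂]) = L := by
      refine Submodule.eq_of_le_of_finrank_eq (Submodule.span_le.mpr ?_) ?_
      · rintro _ ⟨i, rfl⟩
        fin_cases i
        · exact ha₁
        · exact ha₂
      · rw [finrank_span_eq_card hli, hp.fin₁]; simp
    rw [← hspan, Submodule.mem_span_range_iff_exists_fun] at hx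
    obtain ⟨c, rfl⟩ := hx
    simp [Fin.sum_univ_two, hf.add_left, hf.smul_left, e11, e21, e12, e22]
  have h11 : f b₁ a₁ = 1 := by rw [← swap_eq hf, e11, map_one]
  have h22 : f b₂ a₂ = 1 := by rw [← swap_eq hf, e22, map_one]
  have h21 : f b₁ a₂ = 0 := LagPair.eq_zero_comm hf e21
  have h12 : f b₂ a₁ = 0 := LagPair.eq_zero_comm hf e12
  have hL0 : ∀ y ∈ L₀, y = f y a₁ • b₁ + f y a₂ • b₂ := by
    intro y hy
    refine sub_eq_zero.mp (hf.nondeg _ fun z => ?_)
    obtain ⟨x, hx, y', hy', rfl⟩ := hp.exists_add z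
    rw [hf.add_left, hp.iso₂ y' hy' _ (sub_mem hy (add_mem (L₀.smul_mem _ hb₁) (L₀.smul_mem _ hb₂))),
      add_zero]
    nth_rw 1 [hL x hx]
    simp only [hf.add_left, hf.smul_left, LagPair.sub_right hf, hf.add_right, hf.smul_right,
      swap_eq hf, e11, e12, e21, e22]
    ring
  obtain ⟨k₁, hk₁, hk₁x⟩ := exists_dil hf hTG hθ hθc (hp.iso₁ _ ha₁ _ ha₁) (hp.iso₂ _ hb₁ _ hb₁)
    e11 hl hls
  obtain ⟨k₂, hk₂, hk₂x⟩ := exists_dil hf hTG hθ hθc (hp.iso₁ _ ha₂ _ ha₂) (hp.iso₂ _ hb₂ _ hb₂)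
    e22 hl hls
  refine ⟨k₁ * k₂, mul_mem hk₁ hk₂, fun x hx => ?_, fun y hy => ?_⟩
  · simp only [Units.val_mul, ← mulVec_mulVec, hk₁x, hk₂x, hf.add_left, hf.smul_left, e21,
      hp.iso₁ x hx a₁ ha₁, hp.iso₁ x hx a₂ ha₂, hp.iso₁ a₂ ha₂ a₁ ha₁, h12]
    linear_combination (norm := module) (1 - l) • hL x hx
  · simp only [Units.val_mul, ← mulVec_mulVec, hk₁x, hk₂x, hf.add_left, hf.smul_left, h12,
      hp.iso₂ y hy b₁ hb₁, hp.iso₂ y hy b₂ hb₂, hp.iso₂ b₂ hb₂ b₁ hb₁, e21]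
    linear_combination (norm := module) (1 - l⁻¹) • hL0 y hy

variable {M : Subgroup (GL ι F)} (hM : ∀ g ∈ G, (∀ x ∈ L, (g : Matrix ι ι F) *ᵥ x ∈ L) →
  (∀ y ∈ L₀, (g : Matrix ι ι F) *ᵥ y ∈ L₀) → g ∈ M)
include hM

/-- A non-trivial element centralising `L` with image in `L`. -/
theorem exists_unipotent {h : GL ι F} (hh : h ∈ M) (hhi : h ∈ isom f)
    (h1 : ∀ x ∈ L, (h : Matrix ι ι F) *ᵥ x ∈ L)
    (h2 : ¬ ∀ y ∈ L₀, (h : Matrix ι ι F) *ᵥ y ∈ L₀) {l : F} (hl : l ≠ 0) (hls : s l = l)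
    (hl2 : l * l ≠ 1) :
    ∃ n ∈ M, n ∈ isom f ∧ (∀ x ∈ L, (n : Matrix ι ι F) *ᵥ x = x) ∧
      (∀ x, (n : Matrix ι ι F) *ᵥ x - x ∈ L) ∧ ∃ y ∈ L₀, (n : Matrix ι ι F) *ᵥ y ≠ y := by
  obtain ⟨c, hcG, hcL, hc0⟩ := exists_scalar hf hTG hθ hθc hGi hp hl hls
  have hc := hGi hcG
  have hcM : c ∈ M := hM c hcG (fun x hx => by rw [hcL x hx]; exact L.smul_mem _ hx)
    fun y hy => by rw [hc0 y hy]; exact L₀.smul_mem _ hy
  have hiL : ∀ x ∈ L, ((c⁻¹ : GL ι F) : Matrix ι ι F) *ᵥ x = l⁻¹ • x := fun x hx => by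
    have e : (c : Matrix ι ι F) *ᵥ (l⁻¹ • x) = x := by
      rw [mulVec_smul, hcL x hx, smul_smul, inv_mul_cancel₀ hl, one_smul]
    conv_lhs => rw [← e, inv_mulVec_mulVec]
  have hi0 : ∀ y ∈ L₀, ((c⁻¹ : GL ι F) : Matrix ι ι F) *ᵥ y = l • y := fun y hy => by
    have e : (c : Matrix ι ι F) *ᵥ (l • y) = y := by
      rw [mulVec_smul, hc0 y hy, smul_smul, mul_inv_cancel₀ hl, one_smul]
    conv_lhs => rw [← e, inv_mulVec_mulVec]
  have hhinv := LagPair.inv_mem_of_forall h1 le_rfl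
  set n := h * c * h⁻¹ * c⁻¹ with hn
  have hnL : ∀ x ∈ L, (n : Matrix ι ι F) *ᵥ x = x := fun x hx => by
    simp only [hn, Units.val_mul, ← mulVec_mulVec, hiL x hx, mulVec_smul]
    rw [hcL _ (hhinv x hx), mulVec_smul, mulVec_inv_mulVec, smul_smul, inv_mul_cancel₀ hl,
      one_smul]
  have key : ∀ y ∈ L₀, ∃ u ∈ L, ∃ v ∈ L₀, u + v = ((h⁻¹ : GL ι F) : Matrix ι ι F) *ᵥ y ∧
      (n : Matrix ι ι F) *ᵥ y = y + (l * l - 1) • ((h : Matrix ι ι F) *ᵥ u) := by
    intro y hy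
    obtain ⟨u, hu, v, hv, huv⟩ := hp.exists_add (((h⁻¹ : GL ι F) : Matrix ι ι F) *ᵥ y)
    refine ⟨u, hu, v, hv, huv, ?_⟩
    have hy' : y = (h : Matrix ι ι F) *ᵥ u + (h : Matrix ι ι F) *ᵥ v := by
      rw [← mulVec_add, huv, mulVec_inv_mulVec]
    simp only [hn, Units.val_mul, ← mulVec_mulVec, hi0 y hy, mulVec_smul, ← huv, mulVec_add,
      hcL u hu, hc0 v hv]
    rw [hy']
    match_scalars
    · ring
    · field_simp
  refine ⟨n, mul_mem (mul_mem (mul_mem hh hcM) (inv_mem hh)) (inv_mem hcM),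
    mul_mem (mul_mem (mul_mem hhi hc) (inv_mem hhi)) (inv_mem hc), hnL, fun x => ?_, ?_⟩
  · obtain ⟨u, hu, y, hy, rfl⟩ := hp.exists_add x
    obtain ⟨u', hu', v', -, -, e⟩ := key y hy
    rw [mulVec_add, hnL u hu, e, add_sub_add_left_eq_sub, add_sub_cancel_left]
    exact L.smul_mem _ (h1 u' hu')
  · by_contra hc'
    simp only [not_exists, not_and, not_not] at hc'
    refine h2 (inv_inv h ▸ LagPair.inv_mem_of_forall (g := h⁻¹) (fun y hy => ?_) le_rfl)
    obtain ⟨u, -, v, hv, huv, e⟩ := key y hy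
    rw [hc' y hy, eq_comm, add_eq_left, smul_eq_zero] at e
    have hu0 : u = 0 := by
      by_contra h0
      exact mulVec_ne_zero h h0 (e.resolve_left (sub_ne_zero.mpr hl2))
    rw [← huv, hu0, zero_add]
    exact hv

variable (hr : ∃ r, s r ≠ r) (hEG : ∀ v u, f v v = 0 → f u u = 0 → f v u = 0 →
  LagPair.E f (-1 : F) v u ∈ G)
variable (hsel : ∃ u, s u = u ∧ u ≠ 0 ∧ u ≠ 1 ∧ u ≠ -1 ∧ u ≠ 2)
include hr hEG hsel

/-- An element fixing `L` but not `L₀` gives all transvections centred in `L`. -/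
theorem T_mem_of_not_fix {h : GL ι F} (hh : h ∈ M) (hhi : h ∈ isom f)
    (h1 : ∀ x ∈ L, (h : Matrix ι ι F) *ᵥ x ∈ L)
    (h2 : ¬ ∀ y ∈ L₀, (h : Matrix ι ι F) *ᵥ y ∈ L₀) :
    ∀ p ∈ L, ∀ α, (-1 : F) * s α = α → LagPair.T f p α ∈ M := by
  classical
  obtain ⟨l, hls, hl0, hl1, hl2, -⟩ := id hsel
  obtain ⟨n, hnM, hni, hnL, hnV, y₀, hy₀, hny₀⟩ :=
    exists_unipotent hf hTG hθ hθc hGi hp hM hh hhi h1 h2 hl0 hls
      fun e => by rcases mul_self_eq_one_iff.mp e with e | e; exacts [hl1 e, hl2 e]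
  let Z : (ι → F) →ₗ[F] (ι → F) := (n : Matrix ι ι F).mulVecLin - LinearMap.id
  have hZ : ∀ x, (n : Matrix ι ι F) *ᵥ x = x + Z x := fun x => by simp [Z]
  have hZV : ∀ x, Z x ∈ L := hnV
  have hZL : ∀ x ∈ L, Z x = 0 := fun x hx => by simp [Z, hnL x hx]
  have hsym : ∀ x y, f (Z x) y = -s (f (Z y) x) := fun x y => by
    have e := mem_isom.mp hni x y
    rw [hZ, hZ, hf.add_left, hf.add_right, hf.add_right, hp.iso₁ _ (hZV x) _ (hZV y), add_zero]
      at e
    rw [swap_eq hf]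
    linear_combination e
  obtain ⟨v, hv, hφ⟩ : ∃ v ∈ L₀, f (Z v) v ≠ 0 := by
    by_contra hc
    simp only [not_exists, not_and, not_not] at hc
    refine hny₀ ?_
    rw [hZ, add_eq_left]
    by_contra h0
    obtain ⟨w, hw⟩ : ∃ w, f (Z y₀) w ≠ 0 := by
      by_contra hall
      simp only [not_exists, not_not] at hall
      exact h0 (hf.nondeg _ fun x => LagPair.eq_zero_comm hf (hall x))
    obtain ⟨u, hu, w', hw', rfl⟩ := hp.exists_add w
    apply hw
    rw [hf.add_right, hp.iso₁ _ (hZV y₀) u hu, zero_add]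
    have pol : ∀ t : F, s t * f (Z y₀) w' + t * f (Z w') y₀ = 0 := fun t => by
      have e := hc _ (add_mem hy₀ (L₀.smul_mem t hw'))
      rw [map_add, map_smul, hf.add_left, hf.add_right, hf.add_right, hf.smul_left, hf.smul_left,
        hf.smul_right, hf.smul_right, hc _ hy₀, hc _ hw'] at e
      linear_combination e
    obtain ⟨r, hr⟩ := hr
    have e1 := pol 1
    rw [map_one] at e1
    refine (mul_eq_zero.mp (?_ : (s r - r) * _ = 0)).resolve_left (sub_ne_zero.mpr hr)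
    linear_combination pol r - r * e1
  set φ := f (Z v) v with hφdef
  have hsφ : s φ = -φ := by
    have e := hsym v v
    rw [← hφdef] at e
    linear_combination e
  set a := φ⁻¹ • Z v with ha
  have haL : a ∈ L := L.smul_mem _ (hZV v)
  have hav : f a v = 1 := by rw [ha, hf.smul_left, inv_mul_cancel₀ hφ]
  have hva : f v a = 1 := by rw [← swap_eq hf, hav, map_one]
  have hZv : Z v = φ • a := by rw [ha, smul_smul, mul_inv_cancel₀ hφ, one_smul]
  have haa := hp.iso₁ a haL a haL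
  have key : ∀ t : F, s t = t → t ≠ 0 → LagPair.T f a ((t * t - 1) * φ) ∈ M := by
    intro t hts ht
    obtain ⟨k, hkG, hk⟩ := exists_dil hf hTG hθ hθc haa (hp.iso₂ v hv v hv) hav ht hts
    have hkM : k ∈ M := hM k hkG
      (fun x hx => by
        rw [hk, hp.iso₁ x hx a haL, mul_zero, zero_smul, add_zero]
        exact add_mem hx (L.smul_mem _ haL))
      (fun x hx => by
        rw [hk, hp.iso₂ x hx v hv, mul_zero, zero_smul, add_zero]
        exact add_mem hx (L₀.smul_mem _ hv))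
    have e : LagPair.T f a ((t * t - 1) * φ) * (n * k) = k * n := by
      refine gl_ext fun x => ?_
      have e1 : f (Z x) v = φ * f x a := by
        rw [hsym, hZv, hf.smul_left, map_mul, hsφ, swap_eq hf]; ring
      have e3 : f (Z x) a = 0 := hp.iso₁ _ (hZV x) a haL
      simp only [Units.val_mul, ← mulVec_mulVec, LagPair.T_mulVec hf haa, hk, hZ, map_add, map_smul,
        hZL a haL, hZv, hf.add_left, hf.smul_left, e1, e3, haa, hva, LagPair.zero_left hf]
      match_scalars <;> field_simp <;> ring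
    have e' : LagPair.T f a ((t * t - 1) * φ) = k * n * (n * k)⁻¹ := by rw [← e]; group
    rw [e']
    exact mul_mem (mul_mem hkM hnM) (inv_mem (mul_mem hnM hkM))
  let P : AddSubgroup F :=
    { carrier := {r | LagPair.T f a (r * φ) ∈ M}
      add_mem' := fun {r r'} h h' => by
        show LagPair.T f a ((r + r') * φ) ∈ M
        rw [add_mul, ← T_add hf haa]
        exact mul_mem h h'
      zero_mem' := by
        show LagPair.T f a (0 * φ) ∈ M
        rw [zero_mul, show LagPair.T f a (0 : F) = 1 from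
          gl_ext fun x => by simp [LagPair.T_mulVec hf haa]]
        exact one_mem M
      neg_mem' := fun {r} h => by
        show LagPair.T f a (-r * φ) ∈ M
        have e : LagPair.T f a (-r * φ) = (LagPair.T f a (r * φ))⁻¹ :=
          eq_inv_of_mul_eq_one_left (by
            rw [T_add hf haa]
            exact gl_ext fun x => by simp [LagPair.T_mulVec hf haa])
        rw [e]; exact inv_mem h }
  have hsq : ∀ r : F, s r = r → r ≠ 1 → r ≠ -1 → r ∈ P := fun r hrs hr1 hr2 => by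
    by_cases htwo : (2 : F) = 0
    · have hc2 := CharP.ringChar_of_prime_eq_zero (R := F) Nat.prime_two (by exact_mod_cast htwo)
      obtain ⟨t, ht⟩ := FiniteField.isSquare_of_char_two hc2 (r + 1)
      have hneg : ∀ z : F, -z = z := fun z => by linear_combination (-z) * htwo
      have hst : s t = t := by
        have h1 : s t * s t = t * t := by rw [← map_mul, ← ht, map_add, hrs, map_one]
        rcases mul_self_eq_mul_self_iff.mp h1 with h | h
        · exact h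
        · rw [h, hneg]
      have h := key t hst fun h0 => hr2 (by rw [h0, mul_zero] at ht; linear_combination ht)
      rwa [← ht, add_sub_cancel_right] at h
    · have e : r = ((r + 1) / 2 * ((r + 1) / 2) - 1) - ((r - 1) / 2 * ((r - 1) / 2) - 1) := by
        field_simp; ring
      rw [e]
      exact P.sub_mem
        (key _ (by rw [map_div₀, map_add, hrs, map_one, map_ofNat])
          (div_ne_zero (fun h0 => hr2 (eq_neg_of_add_eq_zero_left h0)) htwo))
        (key _ (by rw [map_div₀, map_sub, hrs, map_one, map_ofNat])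
          (div_ne_zero (sub_ne_zero.mpr hr1) htwo))
  have hall : ∀ r : F, s r = r → r ∈ P := by
    obtain ⟨u, hus, u0, u1, u2, u3⟩ := hsel
    have h1' : (1 : F) ∈ P := by
      have := P.add_mem (hsq u hus u1 u2) (hsq (1 - u) (by rw [map_sub, map_one, hus])
        (fun h0 => u0 (by linear_combination -h0)) fun h0 => u3 (by linear_combination -h0))
      rwa [add_sub_cancel] at this
    intro r hrs
    by_cases hr1 : r = 1
    · exact hr1 ▸ h1'
    by_cases hr2 : r = -1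
    · exact hr2 ▸ P.neg_mem h1'
    exact hsq r hrs hr1 hr2
  have haC : ∀ α, (-1 : F) * s α = α → LagPair.T f a α ∈ M := fun α hα => by
    have : LagPair.T f a (α / φ * φ) ∈ M :=
      hall (α / φ) (by
        rw [map_div₀, hsφ, show s α = -α by linear_combination (-1 : F) * hα, neg_div_neg_eq])
    rwa [div_mul_cancel₀ _ hφ] at this
  intro q hq α hα
  by_cases hdep : q ∈ Submodule.span F {a}
  · obtain ⟨r, rfl⟩ := Submodule.mem_span_singleton.mp hdep
    rw [T_smul hf haa]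
    refine haC _ ?_
    rw [map_mul, map_mul, hf.invol]
    linear_combination (r * s r) * hα
  have ha0 : a ∉ Submodule.span F {q - a} := fun hmem => by
    obtain ⟨r, hr⟩ := Submodule.mem_span_singleton.mp hmem
    by_cases hr0 : r = 0
    · rw [hr0, zero_smul] at hr
      rw [← hr, LagPair.zero_left hf] at hav
      exact zero_ne_one hav
    refine hdep (Submodule.mem_span_singleton.mpr ⟨1 + r⁻¹, ?_⟩)
    nth_rw 1 [← sub_add_cancel q a]
    rw [add_smul, one_smul]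
    nth_rw 2 [← hr]
    rw [inv_smul_smul₀ hr0, add_comm]
  obtain ⟨u, hu, hau, huU⟩ := LagPair.exists_dual_mem hf hp haL ha0
  have hd : q - a ∈ L := sub_mem hq haL
  have hdu : f (q - a) u = 0 := huU _ hd (Submodule.mem_span_singleton_self _)
  have hdd := hp.iso₁ _ hd _ hd
  have huu := hp.iso₂ _ hu _ hu
  have hei := LagPair.E_mem_isom hf hdd huu hdu
  have heM : LagPair.E f (-1) (q - a) u ∈ M := hM _ (hEG _ _ hdd huu hdu)
    (fun x hx => by
      rw [LagPair.E_mulVec hf hdd huu hdu, hp.iso₁ x hx _ hd, mul_zero, zero_smul, add_zero]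
      exact add_mem hx (L.smul_mem _ hd))
    (fun x hx => by
      rw [LagPair.E_mulVec hf hdd huu hdu, hp.iso₂ x hx _ hu, zero_smul, add_zero]
      exact add_mem hx (L₀.smul_mem _ hu))
  have := mul_mem (mul_mem heM (haC α hα)) (inv_mem heM)
  rwa [LagPair.T_conj hf hei haa, LagPair.E_mulVec hf hdd huu hdu, hau, one_smul,
    hp.iso₁ a haL _ hd, mul_zero, zero_smul, add_zero, add_sub_cancel] at this

variable {w : GL ι F} (hwM : w ∈ M) (hw0 : ∀ x ∈ L, (w : Matrix ι ι F) *ᵥ x ∈ L₀)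
  (hw1 : ∀ x ∈ L₀, (w : Matrix ι ι F) *ᵥ x ∈ L) (hMi : M ≤ isom f)
include hwM hw0 hw1 hMi

/-- With all one-sided stabilisers inside the stabiliser, an element keeping one non-zero vector of
`L` inside `L` stabilises the pair. -/
theorem fix_of_common
    (hA : ∀ h ∈ M, (∀ x ∈ L, (h : Matrix ι ι F) *ᵥ x ∈ L) →
      ∀ y ∈ L₀, (h : Matrix ι ι F) *ᵥ y ∈ L₀)
    {g : GL ι F} (hg : g ∈ M) {a₀ : ι → F}
    (ha₀ : a₀ ∈ L) (ha₀0 : a₀ ≠ 0) (haL : (g : Matrix ι ι F) *ᵥ a₀ ∈ L) :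
    (∀ x ∈ L, (g : Matrix ι ι F) *ᵥ x ∈ L) ∧ ∀ y ∈ L₀, (g : Matrix ι ι F) *ᵥ y ∈ L₀ := by
  obtain ⟨l, hls, hl, hl1, hlm, -⟩ := hsel
  have hl2 : l * l ≠ 1 := fun e => by
    rcases mul_self_eq_one_iff.mp e with e | e; exacts [hl1 e, hlm e]
  have hgi := hMi hg
  set a := (g : Matrix ι ι F) *ᵥ a₀ with ha
  have ha0 : a ≠ 0 := mulVec_ne_zero g ha₀0
  have step : ∀ z₀ ∈ L₀, f a₀ z₀ = 1 → (g : Matrix ι ι F) *ᵥ z₀ ∈ L₀ := by
    intro z₀ hz₀ h1
    set z := (g : Matrix ι ι F) *ᵥ z₀ with hz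
    obtain ⟨d, hdG, hd⟩ := exists_dil hf hTG hθ hθc (hp.iso₁ a₀ ha₀ a₀ ha₀)
      (hp.iso₂ z₀ hz₀ z₀ hz₀) h1 hl hls
    have hdM : d ∈ M := hM d hdG
      (fun x hx => by
        rw [hd, hp.iso₁ x hx a₀ ha₀, mul_zero, zero_smul, add_zero]
        exact add_mem hx (L.smul_mem _ ha₀))
      (fun x hx => by
        rw [hd, hp.iso₂ x hx z₀ hz₀, mul_zero, zero_smul, add_zero]
        exact add_mem hx (L₀.smul_mem _ hz₀))
    have hkM : g * d * g⁻¹ ∈ M := mul_mem (mul_mem hg hdM) (inv_mem hg)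
    have hk : ∀ x, ((g * d * g⁻¹ : GL ι F) : Matrix ι ι F) *ᵥ x =
        x + ((l - 1) * f x z) • a + ((l⁻¹ - 1) * f x a) • z := fun x => by
      simp only [Units.val_mul, ← mulVec_mulVec, hd, mulVec_add, mulVec_smul, mulVec_inv_mulVec,
        conj_left hf hgi, ha, hz]
    have hk0 := hA _ hkM fun x hx => by
      rw [hk, hp.iso₁ x hx a haL, mul_zero, zero_smul, add_zero]
      exact add_mem hx (L.smul_mem _ haL)
    obtain ⟨zl, hzl, z', hz', hdec⟩ := hp.exists_add z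
    obtain ⟨x, hx, hax, -⟩ :=
      LagPair.exists_dual_mem hf hp (U := ⊥) haL (by simpa using ha0)
    have hxa : f x a = 1 := by rw [← swap_eq hf, hax, map_one]
    have hmem := hk0 x hx
    rw [hk, hxa, mul_one, add_assoc, Submodule.add_mem_iff_right _ hx, ← hdec, smul_add,
      ← add_assoc, Submodule.add_mem_iff_left _ (L₀.smul_mem _ hz')] at hmem
    have h0 := hp.eq_zero (add_mem (L.smul_mem _ haL) (L.smul_mem _ hzl)) hmem
    have hlne : l⁻¹ - 1 ≠ 0 := sub_ne_zero.mpr fun e => hl2 (by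
      rw [inv_eq_one] at e; rw [e, mul_one])
    obtain ⟨ρ, hρ⟩ : ∃ ρ : F, zl = ρ • a :=
      ⟨-((l⁻¹ - 1)⁻¹ * ((l - 1) * f x (zl + z'))), by
        rw [neg_smul, mul_smul, ← smul_neg, ← eq_neg_of_add_eq_zero_right h0, smul_smul,
          inv_mul_cancel₀ hlne, one_smul]⟩
    rw [hρ, hf.add_right, hp.iso₂ x hx z' hz', hf.smul_right, hxa, smul_smul, ← add_smul,
      smul_eq_zero] at h0
    have h0' : l * s ρ = ρ := by
      have e := h0.resolve_right ha0
      field_simp at e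
      refine sub_eq_zero.mp ((mul_eq_zero.mp (?_ : (l - 1) * _ = 0)).resolve_left
        (sub_ne_zero.mpr hl1))
      linear_combination e
    have h0'' : l * ρ = s ρ := by
      have := congrArg s h0'
      rwa [map_mul, hls, hf.invol] at this
    have hρ0 : ρ = 0 := (mul_eq_zero.mp (show ρ * (l * l - 1) = 0 by
      linear_combination l * h0'' + h0')).resolve_right (sub_ne_zero.mpr hl2)
    rw [← hdec, hρ, hρ0, zero_smul, zero_add]
    exact hz'
  obtain ⟨z₁, hz₁, haz₁, -⟩ :=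
    LagPair.exists_dual_mem hf hp (U := ⊥) ha₀ (by simpa using ha₀0)
  have h0 : ∀ y ∈ L₀, (g : Matrix ι ι F) *ᵥ y ∈ L₀ := by
    intro y hy
    set t := s (1 - f a₀ y) with ht
    have e : y = (y + t • z₁) - t • z₁ := by abel
    rw [e, mulVec_sub, mulVec_smul]
    refine sub_mem (step _ (add_mem hy (L₀.smul_mem _ hz₁)) ?_)
      (L₀.smul_mem _ (step _ hz₁ haz₁))
    rw [hf.add_right, hf.smul_right, haz₁, ht, hf.invol]; ring
  refine ⟨fun x hx => ?_, h0⟩
  have hd : Module.finrank F L = Module.finrank F L₀ := by rw [hp.fin₁, hp.fin₂]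
  have h := hA (w * g * w⁻¹) (mul_mem (mul_mem hwM hg) (inv_mem hwM)) (fun y hy => by
    simp only [Units.val_mul, ← mulVec_mulVec]
    exact hw1 _ (h0 _ (LagPair.inv_mem_of_forall hw1 hd.le y hy))) _ (hw0 x hx)
  simp only [Units.val_mul, ← mulVec_mulVec, inv_mulVec_mulVec] at h
  have := LagPair.inv_mem_of_forall hw0 hd.ge _ h
  rwa [inv_mulVec_mulVec] at this

/-- An overgroup of the stabiliser of the pair contains all transvections or preserves the pair. -/
theorem T_mem_all {g : GL ι F} (hg : g ∈ M)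
    (hne : ¬ ((∀ x ∈ L, (g : Matrix ι ι F) *ᵥ x ∈ L) ∧ ∀ y ∈ L₀, (g : Matrix ι ι F) *ᵥ y ∈ L₀))
    (hne' : ¬ ((∀ x ∈ L, (g : Matrix ι ι F) *ᵥ x ∈ L₀) ∧ ∀ y ∈ L₀, (g : Matrix ι ι F) *ᵥ y ∈ L)) :
    ∀ v α, f v v = 0 → (-1 : F) * s α = α → LagPair.T f v α ∈ M := by
  classical
  have hd : Module.finrank F L = Module.finrank F L₀ := by rw [hp.fin₁, hp.fin₂]
  by_cases hA : ∀ h ∈ M, (∀ x ∈ L, (h : Matrix ι ι F) *ᵥ x ∈ L) →
      ∀ y ∈ L₀, (h : Matrix ι ι F) *ᵥ y ∈ L₀
  swap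
  · simp only [not_forall] at hA
    obtain ⟨h, hh, h1, hbad⟩ := hA
    have hC := T_mem_of_not_fix hf hTG hθ hθc hGi hp hM hr hEG hsel hh (hMi hh) h1
      (by simpa only [not_forall] using hbad)
    have hC0 : ∀ q ∈ L₀, ∀ α, (-1 : F) * s α = α → LagPair.T f q α ∈ M := fun q hq α hα => by
      have hq' := LagPair.inv_mem_of_forall hw0 hd.ge q hq
      have := mul_mem (mul_mem hwM (hC _ hq' α hα)) (inv_mem hwM)
      rwa [LagPair.T_conj hf (hMi hwM) (hp.iso₁ _ hq' _ hq'), mulVec_inv_mulVec] at this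
    exact fun v α hv hα => LagPair.T_mem_of_both hf hp hθ hθc hC hC0 hv hα
  exfalso
  have claim := fun (g : GL ι F) (hg : g ∈ M) a (ha : a ∈ L) (ha0 : a ≠ 0) h =>
    fix_of_common hf hTG hθ hθc hGi hp hM hr hEG hsel hwM hw0 hw1 hMi hA (g := g) hg (a₀ := a)
      ha ha0 h
  obtain ⟨l, hls, hl0, hl1, hlm, -⟩ := hsel
  have hl2 : l * l ≠ 1 := fun e => by
    rcases mul_self_eq_one_iff.mp e with e | e; exacts [hl1 e, hlm e]
  have hgL : ∀ x ∈ L, (g : Matrix ι ι F) *ᵥ x ∈ L → x = 0 := fun x hx hgx => by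
    by_contra h0
    exact hne (claim g hg x hx h0 hgx)
  have hgL0 : ∀ x ∈ L, (g : Matrix ι ι F) *ᵥ x ∈ L₀ → x = 0 := fun x hx hgx => by
    by_contra h0
    have hwg := claim (w * g) (mul_mem hwM hg) x hx h0 (by
      rw [Units.val_mul, ← mulVec_mulVec]; exact hw1 _ hgx)
    refine hne' ⟨fun y hy => ?_, fun y hy => ?_⟩
    · have := hwg.1 y hy
      rw [Units.val_mul, ← mulVec_mulVec] at this
      simpa [inv_mulVec_mulVec] using LagPair.inv_mem_of_forall hw1 hd.le _ this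
    · have := hwg.2 y hy
      rw [Units.val_mul, ← mulVec_mulVec] at this
      simpa [inv_mulVec_mulVec] using LagPair.inv_mem_of_forall hw0 hd.ge _ this
  set W := L.map (g : Matrix ι ι F).mulVecLin with hW
  have hWL : W ⊓ L = ⊥ := by
    rw [eq_bot_iff]
    rintro _ ⟨⟨x, hx, rfl⟩, h2⟩
    rw [Submodule.mem_bot, hgL x hx h2, map_zero]
  have hWfin : Module.finrank F W = 2 := by
    rw [hW, (Submodule.equivMapOfInjective _ (mulVec_injective g) L).symm.finrank_eq, hp.fin₁]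
  have hWi : ∀ x ∈ W, ∀ y ∈ W, f x y = 0 := by
    rintro _ ⟨x, hx, rfl⟩ _ ⟨y, hy, rfl⟩
    rw [Matrix.mulVecLin_apply, Matrix.mulVecLin_apply, mem_isom.mp (hMi hg), hp.iso₁ x hx y hy]
  -- a vector of `W` whose components pair non-trivially
  obtain ⟨w₁, hw₁, a, ha, b, hbm, hdec, hγ⟩ :
      ∃ w₁ ∈ W, ∃ a ∈ L, ∃ b ∈ L₀, a + b = w₁ ∧ f a b ≠ 0 := by
    by_contra hc
    simp only [not_exists, not_and, not_not] at hc
    have hd' : ∀ u ∈ W, ∀ a ∈ L, ∀ b ∈ L₀, a + b = u → a = 0 := by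
      intro u hu a ha b hbm hab
      refine hf.nondeg a fun y => LagPair.eq_zero_comm hf ?_
      have htop : W ⊔ L = ⊤ := by
        refine Submodule.eq_top_of_finrank_eq ?_
        have e := Submodule.finrank_sup_add_finrank_inf_eq W L
        have e' := Submodule.finrank_add_eq_of_isCompl hp.compl
        rw [hWL, finrank_bot, hWfin, hp.fin₁] at e
        rw [hp.fin₁, hp.fin₂] at e'
        omega
      obtain ⟨u', hu', x, hx, rfl⟩ := Submodule.mem_sup.mp (htop ▸ Submodule.mem_top : y ∈ W ⊔ L)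
      rw [hf.add_right, hp.iso₁ a ha x hx, add_zero]
      obtain ⟨a', ha', b', hb', hab'⟩ := hp.exists_add u'
      have e3 := hc _ hu a ha b hbm hab
      have e4 := hc _ hu' a' ha' b' hb' hab'
      have pol : ∀ t : F, s t * f a b' + t * f a' b = 0 := fun t => by
        have e2 := hc _ (add_mem hu (W.smul_mem t hu')) (a + t • a')
          (add_mem ha (L.smul_mem t ha')) (b + t • b') (add_mem hbm (L₀.smul_mem t hb'))
          (by rw [← hab, ← hab', smul_add]; abel)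
        rw [hf.add_left, hf.add_right, hf.add_right, hf.smul_left, hf.smul_left, hf.smul_right,
          hf.smul_right, e3, e4] at e2
        linear_combination e2
      rw [← hab', hf.add_right, hp.iso₁ a ha a' ha', zero_add]
      obtain ⟨r, hr⟩ := hr
      have e1 := pol 1
      rw [map_one] at e1
      refine (mul_eq_zero.mp (?_ : (s r - r) * _ = 0)).resolve_left (sub_ne_zero.mpr hr)
      linear_combination pol r - r * e1
    obtain ⟨x, hx, hx0⟩ := L.ne_bot_iff.mp fun h => by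
      have := hp.fin₁; rw [h, finrank_bot] at this; omega
    obtain ⟨a, ha, b, hbm, hab⟩ := hp.exists_add ((g : Matrix ι ι F) *ᵥ x)
    have := hd' _ ⟨x, hx, rfl⟩ a ha b hbm hab
    exact hx0 (hgL0 x hx (by rw [← hab, this, zero_add]; exact hbm))
  set b' := (s (f a b))⁻¹ • b with hb'
  have hb'L : b' ∈ L₀ := L₀.smul_mem _ hbm
  have hab' : f a b' = 1 := by
    rw [hb', hf.smul_right, map_inv₀, hf.invol, inv_mul_cancel₀ hγ]
  obtain ⟨d, hdG, hdx⟩ := exists_dil hf hTG hθ hθc (hp.iso₁ a ha a ha)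
    (hp.iso₂ b' hb'L b' hb'L) hab' hl0 hls
  have hdM : d ∈ M := hM d hdG
    (fun x hx => by
      rw [hdx, hp.iso₁ x hx a ha, mul_zero, zero_smul, add_zero]
      exact add_mem hx (L.smul_mem _ ha))
    (fun x hx => by
      rw [hdx, hp.iso₂ x hx b' hb'L, mul_zero, zero_smul, add_zero]
      exact add_mem hx (L₀.smul_mem _ hb'L))
  obtain ⟨x, hx, hx0, hax⟩ : ∃ x ∈ L, x ≠ 0 ∧ f ((g : Matrix ι ι F) *ᵥ x) a = 0 := by
    let φ : L →ₗ[F] F := (LagPair.lm hf a) ∘ₗ (g : Matrix ι ι F).mulVecLin ∘ₗ L.subtype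
    have e := LinearMap.finrank_range_add_finrank_ker φ
    have e' := (LinearMap.range φ).finrank_le
    rw [hp.fin₁] at e
    rw [Module.finrank_self] at e'
    obtain ⟨x, hx, hx0⟩ := (LinearMap.ker φ).ne_bot_iff.mp fun h => by
      rw [h, finrank_bot] at e; omega
    exact ⟨x, x.2, fun h => hx0 (Subtype.ext h), hx⟩
  have hxw : f ((g : Matrix ι ι F) *ᵥ x) b' = 0 := by
    have e := hWi _ ⟨x, hx, rfl⟩ w₁ hw₁
    rw [Matrix.mulVecLin_apply, ← hdec, hf.add_right, hax, zero_add] at e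
    rw [hb', hf.smul_right, e, mul_zero]
  have hfix : ((g⁻¹ * d * g : GL ι F) : Matrix ι ι F) *ᵥ x = x := by
    simp only [Units.val_mul, ← mulVec_mulVec]
    rw [hdx, hxw, hax]
    simp [inv_mulVec_mulVec]
  obtain ⟨x₁, hx₁, hgx₁⟩ := hw₁
  have hmem := (claim _ (mul_mem (mul_mem (inv_mem hg) hdM) hg) x hx hx0 (hfix.symm ▸ hx)).1 x₁ hx₁
  simp only [Units.val_mul, ← mulVec_mulVec] at hmem
  rw [Matrix.mulVecLin_apply] at hgx₁
  have hmem' : (d : Matrix ι ι F) *ᵥ (a + b) ∈ W := ⟨_, hmem, by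
    rw [Matrix.mulVecLin_apply, mulVec_inv_mulVec, hgx₁, hdec]⟩
  have e : (d : Matrix ι ι F) *ᵥ (a + b) = l • a + l⁻¹ • b := by
    have hba : f b a = s (f a b) := (swap_eq hf b a).symm
    have hne : s (f a b) ≠ 0 := (map_ne_zero s).mpr hγ
    rw [hdx, hf.add_left, hf.add_left, hab', hp.iso₂ b hbm b' hb'L, hp.iso₁ a ha a ha, hba, hb']
    match_scalars <;> field_simp <;> ring
  have habW : a + b ∈ W := ⟨x₁, hx₁, by rw [Matrix.mulVecLin_apply, hgx₁, hdec]⟩
  rw [e] at hmem'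
  have h1 : (l - l⁻¹) • a ∈ W := by
    have := sub_mem hmem' (W.smul_mem l⁻¹ habW)
    convert this using 1; module
  have h0 : (l - l⁻¹) • a = 0 :=
    (Submodule.mem_bot F).mp (hWL ▸ Submodule.mem_inf.mpr ⟨h1, L.smul_mem _ ha⟩)
  have hne0 : l - l⁻¹ ≠ 0 := fun h => hl2 (by
    rw [sub_eq_zero] at h
    field_simp at h
    linear_combination h)
  rw [(smul_eq_zero.mp h0).resolve_left hne0, LagPair.zero_left hf] at hγ
  exact hγ rfl

end Cfsg.Agent.SU4Geo98.LagCore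

namespace Cfsg.Agent.SU4Geo98

open Cfsg

/-- The stabiliser of a pair of complementary totally isotropic planes is maximal in `SU_4(q)`,
`q ≥ 4`. -/
theorem lagrangian_maximal {F : Type*} [Field F] [Fintype F] (q : ℕ) (hF : Fintype.card F = q ^ 2) :
    4 ≤ q → ∀ D : Fin 2 → Submodule F (Fin 4 → F), Cfsg.Geo.IsMDecomposition 2 D →
      (∀ i, Cfsg.Geo.IsTotallySingularFor (Cfsg.hermForm 4 F q) (D i)) →
      Cfsg.Geo.IsMaximalIn (Cfsg.GU 4 F q ⊓ Cfsg.Geo.specialLinear (Fin 4) F)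
        (Cfsg.Geo.decompositionStabilizer D ⊓ (Cfsg.GU 4 F q ⊓ Cfsg.Geo.specialLinear (Fin 4) F)) := by
  classical
  intro h4 D hD hts
  have hf := LagPair.isPairForm_herm (n := 4) hF
  have hp : LagPair.IsPair (hermForm 4 F q) 2 (D 0) (D 1) := by
    refine ⟨⟨hD.indep.pairwiseDisjoint (by decide), codisjoint_iff.mpr ?_⟩, hts 0, hts 1,
      hD.finrank_eq 0, hD.finrank_eq 1⟩
    rw [eq_top_iff, ← hD.iSup_eq_top, iSup_le_iff]
    exact Fin.forall_fin_two.mpr ⟨le_sup_left, le_sup_right⟩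
  obtain ⟨θ, hθ, hθc⟩ := LagPair.exists_skew_ne_zero hF
  have hGi : GU 4 F q ⊓ Geo.specialLinear (Fin 4) F ≤ MaxSub.isom (hermForm 4 F q) :=
    fun g hg => hg.1
  have hTG : ∀ v a, hermForm 4 F q v v = 0 → (-1 : F) * Unitary.conjHom hF a = a →
      LagPair.T (hermForm 4 F q) v a ∈ GU 4 F q ⊓ Geo.specialLinear (Fin 4) F :=
    fun v a h1 h2 => ⟨LagPair.T_mem_isom hf h1 h2, MaxSub.det_tv _ _⟩
  have hr : ∃ r, Unitary.conjHom hF r ≠ r := by
    by_contra h
    simp only [not_exists, not_not] at h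
    exact Unitary.conjHom_ne_id hF (RingHom.ext h)
  have hsel : ∃ u, Unitary.conjHom hF u = u ∧ u ≠ 0 ∧ u ≠ 1 ∧ u ≠ -1 ∧ u ≠ (2 : F) := by
    by_contra hc
    have hsub : ∀ x : {x : F // x ^ q = x}, x.1 ∈ ({0, 1, -1, 2} : Finset F) := fun x => by
      by_contra hx
      simp only [Finset.mem_insert, Finset.mem_singleton, not_or] at hx
      exact hc ⟨x.1, (Unitary.conjHom_apply hF x.1).trans x.2, hx⟩
    have hle := Nat.card_le_card_of_injective
      (fun x : {x : F // x ^ q = x} => (⟨x.1, hsub x⟩ : ({0, 1, -1, 2} : Finset F)))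
      fun a b h => Subtype.ext (congrArg (fun z => z.1) h)
    rw [Unitary.card_fixed hF, Nat.card_eq_fintype_card, Fintype.card_coe] at hle
    by_cases h2 : (2 : F) = 0
    · have h1 : (-1 : F) = 1 := by linear_combination -h2
      have : ({0, 1, -1, 2} : Finset F).card ≤ 2 := by
        refine (Finset.card_le_card ?_).trans (Finset.card_le_two (a := (0 : F)) (b := 1))
        rw [h1, h2]; intro x hx; simp at hx ⊢; tauto
      omega
    · have hodd : q % 2 = 1 := by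
        have h := FiniteField.odd_card_of_char_ne_two (F := F) fun h => h2 (by
          haveI := ringChar.of_eq h
          exact CharTwo.two_eq_zero)
        rw [hF, Nat.pow_mod] at h
        rcases Nat.mod_two_eq_zero_or_one q with e | e
        · rw [e] at h; simp at h
        · exact e
      have h5 := hle.trans Finset.card_le_four
      omega
  obtain ⟨w, hwG, hw0, hw1⟩ := LagPair.exists_swap hf hp hθ hθc hTG hGi
  have hd : Module.finrank F (D 0) = Module.finrank F (D 1) := by rw [hp.fin₁, hp.fin₂]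
  refine MaxSub.isMaximalIn_of inf_le_right ?_ fun M hHM hMK g hg hgH => ?_
  · obtain ⟨v, hv, hv0⟩ := (D 0).ne_bot_iff.mp fun h => by
      have := hp.fin₁; rw [h, finrank_bot] at this; omega
    obtain ⟨y, hy, hvy, -⟩ := LagPair.exists_dual_mem hf hp (U := ⊥) hv (by simpa using hv0)
    have hyv : hermForm 4 F q y v ≠ 0 := LagPair.swap_ne hf (by rw [hvy]; exact one_ne_zero)
    have hy0 : y ≠ 0 := fun h => hyv (by rw [h, LagPair.zero_left hf])
    have hvv := hp.iso₁ v hv v hv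
    refine ⟨LagPair.T (hermForm 4 F q) v θ, hTG _ _ hvv hθc, fun hmem => ?_⟩
    obtain ⟨σ, hσ⟩ := hmem.1
    have h1 : y + (θ * hermForm 4 F q y v) • v ∈ D (σ 1) := by
      rw [← LagPair.T_mulVec hf hvv, ← hσ 1, Matrix.toLin'_apply']
      exact Submodule.mem_map_of_mem
        (f := Matrix.mulVecLin (LagPair.T (hermForm 4 F q) v θ : Matrix (Fin 4) (Fin 4) F)) hy
    rcases Fin.exists_fin_two.mp ⟨σ 1, rfl⟩ with hc | hc <;> rw [hc] at h1
    · exact hy0 (hp.eq_zero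
        (by simpa using sub_mem h1 ((D 0).smul_mem (θ * hermForm 4 F q y v) hv)) hy)
    · refine hv0 (hp.eq_zero hv ((Submodule.smul_mem_iff _ (mul_ne_zero hθ hyv)).mp ?_))
      simpa using sub_mem h1 hy
  exact LagPair.le_of_T_mem hF (by omega) (LagCore.T_mem_all hf hTG hθ hθc hGi hp
    (fun u hu h0 h1 => hHM ⟨LagPair.mem_stab_of_fix h0 h1, hu⟩) hr
    (fun v u h1 h2 h3 => ⟨LagPair.E_mem_isom hf h1 h2 h3, LagPair.det_E hf v u⟩) hsel
    (hHM ⟨LagPair.mem_stab_of_swap hd hw0 hw1, hwG⟩) hw0 hw1 (fun x hx => hGi (hMK hx)) hg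
    (fun h => hgH ⟨LagPair.mem_stab_of_fix h.1 h.2, hMK hg⟩)
    (fun h => hgH ⟨LagPair.mem_stab_of_swap hd h.1 h.2, hMK hg⟩))

end Cfsg.Agent.SU4Geo98
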