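import Cfsg.Agent.SU4Geo98.LinesFourCore
import Cfsg.Agent.UDec18.Main

/-!
The monomial subgroup of `SU₄(q)`, `q ≠ 3`, is maximal (helper99, after a plan of helper98).
-/

set_option autoImplicit false
set_option linter.unusedSectionVars false

namespace Cfsg.Agent.SU4Geo98

open Matrix Cfsg.Agent.MaxSub Cfsg.Agent.HermStab Cfsg.Agent.UDec18
open Finset (univ)

namespace LinesFour

variable {F : Type*} [Field F] [Fintype F] {q : ℕ}
variable {σ : F ≃+* F} {f : (Fin 4 → F) → (Fin 4 → F) → F} {M : Subgroup (GL (Fin 4) F)}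

local notation:73 g:74 " ◆ " x:73 => (Units.val g) *ᵥ x

/-- The pairing `(01)(23)`. -/
abbrev pair₁ : Equiv.Perm (Fin 4) := Equiv.swap 0 1 * Equiv.swap 2 3

/-- The pairing `(02)(13)`. -/
abbrev pair₂ : Equiv.Perm (Fin 4) := Equiv.swap 0 2 * Equiv.swap 1 3

variable (S : Std q σ f)
include S

/-- A pairing of the coordinates gives a diagonal relation of one of two shapes. -/
theorem exists_rel (h4 : 4 ≤ q) (hH : ∀ h ∈ su f, Mono h → h ∈ M) (hMG : M ≤ su f)
    (NC : NoCoord M) {g : GL (Fin 4) F} (hg : g ∈ M) (hgn : ¬ Mono g) {ρ : F}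
    (hρ : ρ * σ ρ = 1) (π : Equiv.Perm (Fin 4)) (a b c d : Fin 4) (hab : π a = b) (hba : π b = a)
    (hcd : π c = d) (hdc : π d = c) (hsign : Equiv.Perm.sign π = 1)
    (hsum : ∀ φ : Fin 4 → F, ∑ i, φ i = φ a + φ b + φ c + φ d)
    (hpro : ∀ φ : Fin 4 → F, ∏ i, φ i = φ a * φ b * φ c * φ d)
    (hcov : ∀ r, r = a ∨ r = b ∨ r = c ∨ r = d)
    (mk : ∀ w x y z : F, ∃ α : Fin 4 → F, α a = w ∧ α b = x ∧ α c = y ∧ α d = z) :
    ∃ ν, Rel g ν ∧ ((ν a = ρ ∧ ν b = ρ ∧ ν c = ρ⁻¹ ∧ ν d = ρ⁻¹) ∨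
      ∃ i, ν i * ν i ≠ 1 ∧ ν (π i) * ν (π i) ≠ 1 ∧ ∀ r, r ≠ i → r ≠ π i → ν r = 1) := by
  classical
  have hnz : ∀ l, (g ◆ e 0) l ≠ 0 := fun l => no_zero S h4 hH NC hg hgn 0 l
  have cn : ∀ {u : F}, u * σ u = 1 → u ≠ 0 := fun {u} h h0 => by simp [h0] at h
  have cmul : ∀ {u v : F}, u * σ u = 1 → v * σ v = 1 → (u * v) * σ (u * v) = 1 :=
    fun {u v} hu hv => by rw [map_mul]; linear_combination (v * σ v) * hu + hv
  have cinv : ∀ {u : F}, u * σ u = 1 → u⁻¹ * σ u⁻¹ = 1 := fun {u} h => by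
    rw [map_inv₀, ← mul_inv, h, inv_one]
  have cneg : ∀ {u : F}, u * σ u = 1 → (-u) * σ (-u) = 1 := fun {u} h => by
    rw [map_neg, neg_mul_neg, h]
  have cconj : ∀ {u : F}, u * σ u = 1 → σ u * σ (σ u) = 1 := fun {u} h => by
    rw [S.inv, mul_comm, h]
  set z := (g ◆ e 0) a * σ ((g ◆ e 0) b) with hz
  set z' := (g ◆ e 0) c * σ ((g ◆ e 0) d) with hz'
  have hσz : (g ◆ e 0) b * σ ((g ◆ e 0) a) = σ z := by rw [hz, map_mul, S.inv, mul_comm]
  have hσz' : (g ◆ e 0) d * σ ((g ◆ e 0) c) = σ z' := by rw [hz', map_mul, S.inv, mul_comm]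
  have hz0 : z ≠ 0 := mul_ne_zero (hnz a) ((map_ne_zero σ).mpr (hnz b))
  have hz0' : z' ≠ 0 := mul_ne_zero (hnz c) ((map_ne_zero σ).mpr (hnz d))
  have hs0 : σ z ≠ 0 := (map_ne_zero σ).mpr hz0
  have hs0' : σ z' ≠ 0 := (map_ne_zero σ).mpr hz0'
  have good : ∀ α : Fin 4 → F, α a * σ (α a) = 1 → α b * σ (α b) = 1 → α c * σ (α c) = 1 →
      α d * σ (α d) = 1 → α a * α b * α c * α d = 1 →
      α a * z + α b * σ z + α c * z' + α d * σ z' = 0 →
      (∀ r, α r * σ (α r) = 1) ∧ ∏ r, α r = 1 ∧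
        ∑ r, α r * (g ◆ e 0) r * σ ((g ◆ e 0) (π r)) = 0 := by
    intro α ha hb hc hd hp hs
    refine ⟨fun r => by rcases hcov r with h | h | h | h <;> subst h <;> assumption,
      by rw [hpro]; exact hp, ?_⟩
    rw [hsum, hab, hba, hcd, hdc, mul_assoc, mul_assoc, mul_assoc, mul_assoc, ← hz, hσz, ← hz',
      hσz']
    exact hs
  have back : ∀ {r r'}, π r = r' → π.symm r' = r := fun h => by rw [Equiv.symm_apply_eq, h]
  by_cases hsq : ∃ r, σ r = r ∧ r * r = (z * σ z) * (z' * σ z')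
  · obtain ⟨r, hr, hr2⟩ := hsq
    have hr0 : r ≠ 0 := fun h => by
      rw [h, mul_zero] at hr2
      exact mul_ne_zero (mul_ne_zero hz0 hs0) (mul_ne_zero hz0' hs0') hr2.symm
    set φ := z / σ z with hφ
    set ψ := z' / σ z' with hψ
    set ω := z * z' / r with hω
    have hφn : φ * σ φ = 1 := by rw [hφ, map_div₀, S.inv]; field_simp
    have hψn : ψ * σ ψ = 1 := by rw [hψ, map_div₀, S.inv]; field_simp
    have hωn : ω * σ ω = 1 := by
      rw [hω, map_div₀, map_mul, hr]
      field_simp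
      linear_combination -hr2
    have hω0 := cn hωn
    have hpp : φ * ψ = ω * ω := by
      rw [hφ, hψ, hω]
      field_simp
      linear_combination hr2
    have fam : ∀ s, s * σ s = 1 → ∃ α : Fin 4 → F, ((∀ r, α r * σ (α r) = 1) ∧ ∏ r, α r = 1 ∧
        ∑ r, α r * (g ◆ e 0) r * σ ((g ◆ e 0) (π r)) = 0) ∧ α a = s * ω⁻¹ ∧
        α b = -(s * ω⁻¹ * φ) ∧ α c = s⁻¹ ∧ α d = -(s⁻¹ * ψ) := fun s hs => by
      obtain ⟨α, ha, hb, hc, hd⟩ := mk (s * ω⁻¹) (-(s * ω⁻¹ * φ)) s⁻¹ (-(s⁻¹ * ψ))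
      refine ⟨α, good α ?_ ?_ ?_ ?_ ?_ ?_, ha, hb, hc, hd⟩
      · rw [ha]; exact cmul hs (cinv hωn)
      · rw [hb]; exact cneg (cmul (cmul hs (cinv hωn)) hφn)
      · rw [hc]; exact cinv hs
      · rw [hd]; exact cneg (cmul (cinv hs) hψn)
      · rw [ha, hb, hc, hd]
        have hs' := cn hs
        field_simp
        linear_combination hpp
      · rw [ha, hb, hc, hd, hφ, hψ]
        field_simp
        ring
    obtain ⟨α, ⟨hn, hp, hs⟩, ha, hb, hc, hd⟩ := fam 1 (by simp)
    obtain ⟨α', ⟨hn', hp', hs'⟩, ha', hb', hc', hd'⟩ := fam ρ hρ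
    refine ⟨_, rel_of_pair S h4 hH hMG NC hg π hsign α α' hn hn' hp hp' hs hs', Or.inl ?_⟩
    have hφ0 := cn hφn
    have hψ0 := cn hψn
    simp only [back hab, back hba, back hcd, back hdc, ha, hb, hc, hd, ha', hb', hc', hd']
    refine ⟨?_, ?_, ?_, ?_⟩ <;> field_simp
  · have h2 : (2 : F) ≠ 0 := fun h2 => by
      have := CharTwo.of_one_ne_zero_of_two_eq_zero (R := F) one_ne_zero h2
      obtain ⟨r, hr⟩ := FiniteField.isSquare_of_char_two (ringChar.eq F 2)
        ((z * σ z) * (z' * σ z'))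
      have h := congrArg σ hr
      simp only [map_mul, S.inv] at h
      have hsr : (σ r - r) * (σ r - r) = 0 := by
        linear_combination -h - hr + (z * σ z * (z' * σ z') - σ r * r) * h2
      exact hsq ⟨r, sub_eq_zero.mp (mul_self_eq_zero.mp hsr), hr.symm⟩
    obtain ⟨x, hxA, hxB⟩ := exists_mem_mem_of_card S (C := S.reals)
      (A := S.circ.image fun ξ => z * ξ + σ (z * ξ) + 0)
      (B := S.circ.image fun ξ => -z' * ξ + σ (-z' * ξ) + 0)
      (fun x hx => by
        obtain ⟨ξ, -, rfl⟩ := Finset.mem_image.mp hx; exact S.image_real (map_zero σ) ξ)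
      (fun x hx => by
        obtain ⟨ξ, -, rfl⟩ := Finset.mem_image.mp hx; exact S.image_real (map_zero σ) ξ)
      (by
        have hA := S.card_le_two_image hz0 0 S.circ (Finset.Subset.refl _)
        have hB := S.card_le_two_image (neg_ne_zero.mpr hz0') 0 S.circ (Finset.Subset.refl _)
        rw [S.card_circ] at hA hB
        rw [S.card_reals]
        omega)
    obtain ⟨ξ, hξ, rfl⟩ := Finset.mem_image.mp hxA
    obtain ⟨η, hη, hxy⟩ := Finset.mem_image.mp hxB
    rw [S.mem_circ] at hξ hη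
    have hzero : z * ξ + σ (z * ξ) + (z' * η + σ (z' * η)) = 0 := by
      simp only [neg_mul, map_neg] at hxy
      linear_combination -hxy
    have hN : (z * σ z) * (z' * σ z') =
        (z * ξ * σ (z * ξ)) * (z' * η * σ (z' * η)) := by
      simp only [map_mul]
      linear_combination (-(z * σ z * (z' * σ z')) * (η * σ η)) * hξ
        - (z * σ z * (z' * σ z')) * hη
    -- both `Z` cannot have a real square
    have hone : σ (z * ξ) * σ (z * ξ) ≠ z * ξ * (z * ξ) ∨
        σ (z' * η) * σ (z' * η) ≠ z' * η * (z' * η) := by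
      by_contra hc
      simp only [not_or, not_not] at hc
      have hP0 : z * ξ ≠ 0 := mul_ne_zero hz0 (cn hξ)
      have hQ0 : z' * η ≠ 0 := mul_ne_zero hz0' (cn hη)
      rw [hN] at hsq
      set P := z * ξ
      set Q := z' * η
      rcases mul_self_eq_mul_self_iff.mp hc.1 with hP | hP <;>
        rcases mul_self_eq_mul_self_iff.mp hc.2 with hQ | hQ <;> rw [hP, hQ] at hzero hsq
      · exact hsq ⟨P * Q, by rw [map_mul, hP, hQ], by ring⟩
      · exact mul_ne_zero h2 hP0 (by linear_combination hzero)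
      · exact mul_ne_zero h2 hQ0 (by linear_combination hzero)
      · exact hsq ⟨P * Q, by rw [map_mul, hP, hQ]; ring, by ring⟩
    have side : ∀ w u : F, w ≠ 0 → u * σ u = 1 →
        σ (w * u) * σ (w * u) ≠ w * u * (w * u) →
        ∃ u' : F, u' * σ u' = 1 ∧ w * u' = σ (w * u) ∧ (u' / u) * (u' / u) ≠ 1 ∧
          (σ u' / σ u) * (σ u' / σ u) ≠ 1 := fun w u hw hu hne => by
      have hsw : σ w ≠ 0 := (map_ne_zero σ).mpr hw
      have hu0 := cn hu
      have hne' : σ (w * u) / w / u * (σ (w * u) / w / u) ≠ 1 := fun h => hne (by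
        field_simp at h
        linear_combination h)
      refine ⟨σ (w * u) / w, ?_, by field_simp, hne', fun h => hne' ?_⟩
      · rw [map_div₀, S.inv, map_mul]
        field_simp
        linear_combination hu
      · have h' := congrArg σ h
        simpa [S.inv] using h'
    rcases hone with h | h
    · obtain ⟨ξ', hξ', he, hne, hne'⟩ := side z ξ hz0 hξ h
      have he' : σ z * σ ξ' = z * ξ := by rw [← map_mul, he, S.inv]
      obtain ⟨α, ha, hb, hc, hd⟩ := mk ξ (σ ξ) η (σ η)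
      obtain ⟨α', ha', hb', hc', hd'⟩ := mk ξ' (σ ξ') η (σ η)
      obtain ⟨hn, hp, hs⟩ := good α (by rw [ha]; exact hξ) (by rw [hb]; exact cconj hξ)
        (by rw [hc]; exact hη) (by rw [hd]; exact cconj hη)
        (by rw [ha, hb, hc, hd, hξ, one_mul, hη])
        (by rw [ha, hb, hc, hd]; simp only [map_mul] at hzero; linear_combination hzero)
      obtain ⟨hn', hp', hs'⟩ := good α' (by rw [ha']; exact hξ') (by rw [hb']; exact cconj hξ')
        (by rw [hc']; exact hη) (by rw [hd']; exact cconj hη)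
        (by rw [ha', hb', hc', hd', hξ', one_mul, hη])
        (by
          rw [ha', hb', hc', hd']; simp only [map_mul] at hzero he
          linear_combination hzero + he + he')
      refine ⟨_, rel_of_pair S h4 hH hMG NC hg π hsign α α' hn hn' hp hp' hs hs',
        Or.inr ⟨b, ?_, ?_, fun r hrb hra => ?_⟩⟩
      · simpa only [back hab, ha, ha'] using hne
      · simpa only [hba, back hba, hb, hb'] using hne'
      · rw [hba] at hra
        rcases hcov r with h | h | h | h <;> subst h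
        · exact absurd rfl hra
        · exact absurd rfl hrb
        · show α' (π.symm r) / α (π.symm r) = 1
          rw [back hdc, hd, hd', div_self (cn (cconj hη))]
        · show α' (π.symm r) / α (π.symm r) = 1
          rw [back hcd, hc, hc', div_self (cn hη)]
    · obtain ⟨η', hη', he, hne, hne'⟩ := side z' η hz0' hη h
      have he' : σ z' * σ η' = z' * η := by rw [← map_mul, he, S.inv]
      obtain ⟨α, ha, hb, hc, hd⟩ := mk ξ (σ ξ) η (σ η)
      obtain ⟨α', ha', hb', hc', hd'⟩ := mk ξ (σ ξ) η' (σ η')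
      obtain ⟨hn, hp, hs⟩ := good α (by rw [ha]; exact hξ) (by rw [hb]; exact cconj hξ)
        (by rw [hc]; exact hη) (by rw [hd]; exact cconj hη)
        (by rw [ha, hb, hc, hd, hξ, one_mul, hη])
        (by rw [ha, hb, hc, hd]; simp only [map_mul] at hzero; linear_combination hzero)
      obtain ⟨hn', hp', hs'⟩ := good α' (by rw [ha']; exact hξ) (by rw [hb']; exact cconj hξ)
        (by rw [hc']; exact hη') (by rw [hd']; exact cconj hη')
        (by rw [ha', hb', hc', hd', hξ, one_mul, hη'])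
        (by
          rw [ha', hb', hc', hd']; simp only [map_mul] at hzero he
          linear_combination hzero + he + he')
      refine ⟨_, rel_of_pair S h4 hH hMG NC hg π hsign α α' hn hn' hp hp' hs hs',
        Or.inr ⟨d, ?_, ?_, fun r hrd hrc => ?_⟩⟩
      · simpa only [back hcd, hc, hc'] using hne
      · simpa only [hdc, back hdc, hd, hd'] using hne'
      · rw [hdc] at hrc
        rcases hcov r with h | h | h | h <;> subst h
        · show α' (π.symm r) / α (π.symm r) = 1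
          rw [back hba, hb, hb', div_self (cn (cconj hξ))]
        · show α' (π.symm r) / α (π.symm r) = 1
          rw [back hab, ha, ha', div_self (cn hξ)]
        · exact absurd rfl hrc
        · exact absurd rfl hrd

omit S in
theorem supports : ∀ i k : Fin 4, ∃ j y : Fin 4,
    (j = i ∨ j = (pair₁) i) ∧ j ≠ k ∧
      j ≠ (pair₂) k ∧ y ≠ i ∧
      y ≠ (pair₁) i ∧ y ≠ k ∧
      y ≠ (pair₂) k := by decide

omit S in
theorem outside : (∀ k : Fin 4, ∃ r s : Fin 4, (r = 0 ∨ r = 1) ∧ (s = 2 ∨ s = 3) ∧ r ≠ k ∧ s ≠ k ∧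
      r ≠ (pair₂) k ∧ s ≠ (pair₂) k) ∧
    ∀ k : Fin 4, ∃ r s : Fin 4, (r = 0 ∨ r = 2) ∧ (s = 1 ∨ s = 3) ∧ r ≠ k ∧ s ≠ k ∧
      r ≠ (pair₁) k ∧ s ≠ (pair₁) k := by
  decide

/-- Without coordinate images everything is monomial. -/
theorem all_mono_four (h4 : 4 ≤ q) (hH : ∀ h ∈ su f, Mono h → h ∈ M) (hMG : M ≤ su f)
    (NC : NoCoord M) {g : GL (Fin 4) F} (hg : g ∈ M) : Mono g := by
  by_contra hgn
  obtain ⟨ρ, hρ, hord⟩ := S.exists_gen
  have hρ0 : ρ ≠ 0 := fun h => by simp [h] at hρ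
  have hρ2 : ρ * ρ ≠ 1 := fun h => absurd (hord 2 (by norm_num) (by rw [sq, h])) (by omega)
  have hρ4 : ρ * ρ * (ρ * ρ) ≠ 1 := fun h =>
    absurd (hord 4 (by norm_num) (by linear_combination h)) (by omega)
  have hne : ρ ≠ ρ⁻¹ := fun h => hρ2 (mul_eq_one_iff_eq_inv₀ hρ0 |>.mpr h)
  have hne2 : ρ * ρ ≠ ρ⁻¹ * ρ⁻¹ := fun h => hρ4 (by
    field_simp at h; linear_combination h)
  have hnz := fun r b => no_zero S h4 hH NC hg hgn b r
  obtain ⟨ν, hR, hν⟩ := exists_rel S h4 hH hMG NC hg hgn hρ (pair₁)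
    0 1 2 3 (by decide) (by decide) (by decide) (by decide) (by decide)
    (fun φ => Fin.sum_univ_four φ) (fun φ => Fin.prod_univ_four φ) (by decide)
    (fun w x y z => ⟨![w, x, y, z], rfl, rfl, rfl, rfl⟩)
  obtain ⟨ν', hR', hν'⟩ := exists_rel S h4 hH hMG NC hg hgn hρ (pair₂)
    0 2 1 3 (by decide) (by decide) (by decide) (by decide) (by decide)
    (fun φ => by rw [Fin.sum_univ_four φ]; ring) (fun φ => by rw [Fin.prod_univ_four φ]; ring)
    (by decide) (fun w x y z => ⟨![w, y, x, z], rfl, rfl, rfl, rfl⟩)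
  rcases hν with ⟨a0, a1, a2, a3⟩ | ⟨i, hi, hi', hout⟩ <;>
    rcases hν' with ⟨b0, b2, b1, b3⟩ | ⟨k, hk, hk', hout'⟩
  · refine key hnz hR hR' ⟨0, 2, by rw [a0, a2]; exact hne2⟩ ⟨0, 1, by rw [b0, b1]; exact hne2⟩
      ⟨0, 1, ?_⟩ ⟨1, 2, ?_⟩
    · rw [a0, b0, a1, b1, mul_inv_cancel₀ hρ0]; exact hρ2
    · rw [a1, b2, a2, b1]; exact hne2
  · obtain ⟨r, s, hr, hs, hrk, hsk, hrk', hsk'⟩ := outside.1 k
    have er : ν r = ρ := by rcases hr with rfl | rfl <;> assumption
    have es : ν s = ρ⁻¹ := by rcases hs with rfl | rfl <;> assumption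
    refine key hnz hR hR' ⟨0, 2, by rw [a0, a2]; exact hne2⟩
      ⟨k, r, by rw [hout' r hrk hrk', one_mul]; exact hk⟩ ⟨r, s, ?_⟩ ⟨r, s, ?_⟩ <;>
    · rw [hout' r hrk hrk', hout' s hsk hsk', er, es, mul_one, mul_one]; exact hne
  · obtain ⟨r, s, hr, hs, hrk, hsk, hrk', hsk'⟩ := outside.2 i
    have er : ν' r = ρ := by rcases hr with rfl | rfl <;> assumption
    have es : ν' s = ρ⁻¹ := by rcases hs with rfl | rfl <;> assumption
    refine key hnz hR hR' ⟨i, r, by rw [hout r hrk hrk', one_mul]; exact hi⟩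
      ⟨0, 1, by rw [b0, b1]; exact hne2⟩ ⟨r, s, ?_⟩ ⟨r, s, ?_⟩
    · rw [hout r hrk hrk', hout s hsk hsk', er, es, one_mul, one_mul]; exact hne
    · rw [hout r hrk hrk', hout s hsk hsk', er, es, one_mul, one_mul]; exact hne.symm
  · obtain ⟨j, y, hj, hjk, hjk', hy, hy', hyk, hyk'⟩ := supports i k
    have hj2 : ν j * ν j ≠ 1 := by rcases hj with rfl | rfl <;> assumption
    have hj1 : ν j ≠ 1 := fun h => hj2 (by rw [h, one_mul])
    refine key hnz hR hR' ⟨j, y, by rw [hout y hy hy', one_mul]; exact hj2⟩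
      ⟨k, y, by rw [hout' y hyk hyk', one_mul]; exact hk⟩ ⟨j, y, ?_⟩ ⟨j, y, ?_⟩ <;>
    · rw [hout' j hjk hjk', hout y hy hy', hout' y hyk hyk', mul_one, mul_one]; exact hj1

/-- Over `GF(4)` the monomial group and one more element give all transvection groups. -/
theorem centre_two (h2 : q = 2) (hH : ∀ h ∈ su f, Mono h → h ∈ M) (hMG : M ≤ su f)
    {g : GL (Fin 4) F} (hg : g ∈ M) (hgH : ¬ Mono g) : ∀ v, f v v = 0 → Centre σ f M v := by
  classical
  have hc2 := two_char S h2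
  have hgi := (hMG hg).1
  have hR : Roots σ f M := by
    intro a b α β hab hαβ
    by_cases hα : α = 0
    · have hβ : β = 0 := by rw [hα] at hαβ; simpa using hαβ
      simpa [hα, hβ, two] using centre_zero (M := M) S.uf
    have hβ : β ≠ 0 := fun h => by rw [h] at hαβ; simp [hα] at hαβ
    have hC := centre_smul S.uf (centre_of_swapC S h2 (swap_mem S hc2 hH hab
      (norm_two S h2 (div_ne_zero hβ hα)))) α
    rwa [smul_add, smul_smul, smul_smul, mul_one, mul_div_cancel₀ _ hα] at hC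
  have hN : ∀ {x : F}, x ≠ 0 → x * σ x = 1 := fun hx => norm_two S h2 hx
  obtain ⟨a, b, ξ, hab, hξ, h4⟩ : ∃ (a b : Fin 4) (ξ : F), a ≠ b ∧ ξ * σ ξ = 1 ∧
      3 ≤ (sp (g ◆ two a 1 b ξ)).card := by
    by_contra hcon
    simp only [not_exists, not_and, not_le] at hcon
    refine hgH ?_
    have hone : ∀ a, ∃ p, ∀ r, (g ◆ e a) r ≠ 0 → r = p := by
      intro a
      have h0 := sp_cast S h2 (g ◆ e a)
      rw [mem_isom.mp hgi, S.e_e, if_pos rfl] at h0
      have hle : (sp (g ◆ e a)).card ≤ 4 := (Finset.card_le_univ _).trans (by simp)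
      rcases (show (sp (g ◆ e a)).card ≤ 1 ∨ (sp (g ◆ e a)).card = 2 ∨ (sp (g ◆ e a)).card = 3 ∨
          (sp (g ◆ e a)).card = 4 by omega) with h | h | h | h
      · obtain ⟨p, hp⟩ := Finset.card_le_one_iff_subset_singleton.mp h
        exact ⟨p, fun r hr => Finset.mem_singleton.mp (hp (mem_sp.mpr hr))⟩
      · rw [h] at h0; push_cast at h0
        exact absurd (show (1 : F) = 0 by linear_combination h0 + hc2) one_ne_zero
      · exfalso
        obtain ⟨d, -, hd⟩ := Finset.exists_mem_notMem_of_card_lt_card (s := sp (g ◆ e a))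
          (t := univ) (by rw [h]; simp)
        have hd0 : (g ◆ e a) d = 0 := not_not.mp (mt mem_sp.mpr hd)
        obtain ⟨b, hb⟩ := row_ne S g d
        have hab : a ≠ b := fun h => hb (h ▸ hd0)
        obtain ⟨ζ, hζ, η, hη, hne⟩ := Finset.one_lt_card.mp
          (show 1 < S.circ.card by rw [S.card_circ]; omega)
        rw [S.mem_circ] at hζ hη
        have hw : ∀ (ξ : F) r, (g ◆ two a 1 b ξ) r = (g ◆ e a) r + ξ * (g ◆ e b) r := fun ξ r => by
          simp [two, mulVec_add, mulVec_smul]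
        have hdin : ∀ ξ : F, ξ ≠ 0 → d ∈ sp (g ◆ two a 1 b ξ) := fun ξ hξ => by
          rw [mem_sp, hw, hd0, zero_add]; exact mul_ne_zero hξ hb
        have hcard : (sp (g ◆ two a 1 b ζ) ∪ sp (g ◆ two a 1 b η)).card ≤ 3 := by
          have h1 := hcon a b ζ hab hζ
          have h2' := hcon a b η hab hη
          have h3 := Finset.card_union_add_card_inter (sp (g ◆ two a 1 b ζ)) (sp (g ◆ two a 1 b η))
          have h4 : 1 ≤ (sp (g ◆ two a 1 b ζ) ∩ sp (g ◆ two a 1 b η)).card :=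
            Finset.card_pos.mpr ⟨d, Finset.mem_inter.mpr
              ⟨hdin ζ fun h => by simp [h] at hζ, hdin η fun h => by simp [h] at hη⟩⟩
          omega
        obtain ⟨x, -, hx⟩ := Finset.exists_mem_notMem_of_card_lt_card
          (s := sp (g ◆ two a 1 b ζ) ∪ sp (g ◆ two a 1 b η)) (t := univ) (by simp; omega)
        rw [Finset.mem_union, mem_sp, mem_sp, hw, hw] at hx
        simp only [not_or, not_not] at hx
        have hxb : (g ◆ e b) x = 0 := (mul_eq_zero.mp (show (ζ - η) * (g ◆ e b) x = 0 by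
          linear_combination hx.1 - hx.2)).resolve_left (sub_ne_zero.mpr hne)
        have hxa : (g ◆ e a) x = 0 := by simpa [hxb] using hx.1
        have hxd : x ≠ d := fun h => hb (h ▸ hxb)
        have : (sp (g ◆ e a)).card ≤ 2 := by
          refine (Finset.card_le_card (t := (univ.erase x).erase d) fun r hr => ?_).trans ?_
          · simp only [Finset.mem_erase, Finset.mem_univ, and_true]
            exact ⟨fun h => hd (h ▸ hr), fun h => mem_sp.mp (h ▸ hr) hxa⟩
          · rw [Finset.card_erase_of_mem (by simp [hxd.symm]),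
              Finset.card_erase_of_mem (Finset.mem_univ x)]
            simp
        omega
      · rw [h] at h0; push_cast at h0
        exact absurd (show (1 : F) = 0 by linear_combination h0 + 2 * hc2) one_ne_zero
    choose p hp using hone
    exact ⟨p, hp⟩
  set w := g ◆ two a 1 b ξ with hw
  have hwC : Centre σ f M w := centre_map S.uf (hR a b 1 ξ hab (by
    rw [map_one, hξ]; linear_combination hc2)) hg hgi
  have hw4 : ∀ r, w r ≠ 0 := by
    have h0 := sp_cast S h2 w
    rw [hwC.1] at h0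
    have hle : (sp w).card ≤ 4 := (Finset.card_le_univ _).trans (by simp)
    rcases (show (sp w).card = 3 ∨ (sp w).card = 4 by omega) with h | h
    · rw [h] at h0; push_cast at h0
      exact absurd (show (1 : F) = 0 by linear_combination -h0 - hc2) one_ne_zero
    · exact fun r => mem_sp.mp (by
        rw [Finset.eq_univ_of_card (sp w) (by rw [h]; simp)]; exact Finset.mem_univ r)
  refine centre_all S hR fun _ v hvv hv4 => ?_
  have hv : ∀ r, v r ≠ 0 := fun r => mem_sp.mp (by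
    rw [Finset.eq_univ_of_card (sp v) (by rw [hv4]; simp)]; exact Finset.mem_univ r)
  set lam := (∏ r, w r) / ∏ r, v r with hlam
  have hpv : ∏ r, v r ≠ 0 := Finset.prod_ne_zero_iff.mpr fun r _ => hv r
  have hpw : ∏ r, w r ≠ 0 := Finset.prod_ne_zero_iff.mpr fun r _ => hw4 r
  have hlam0 : lam ≠ 0 := div_ne_zero hpw hpv
  have hl3 : lam ^ 3 = 1 := by
    have := hN hlam0
    rwa [S.norm_eq, h2] at this
  obtain ⟨t, htM, ht⟩ := torus S hH (fun r => lam * v r / w r)
    (fun r => hN (div_ne_zero (mul_ne_zero hlam0 (hv r)) (hw4 r))) (by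
      rw [Finset.prod_div_distrib, Finset.prod_mul_distrib, Finset.prod_const, Finset.card_univ,
        Fintype.card_fin, pow_succ, hl3, one_mul, hlam]
      field_simp)
  have htw : t ◆ w = lam • v := funext fun r => by
    rw [ht, Pi.smul_apply, smul_eq_mul]
    field_simp [hw4 r]
  have h5 := centre_smul S.uf (centre_map S.uf hwC htM (hMG htM).1) lam⁻¹
  rwa [htw, smul_smul, inv_mul_cancel₀ hlam0, one_smul] at h5

/-- The monomial group and one more element give all transvection groups. -/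
theorem centre_four (h3 : q ≠ 3) (hH : ∀ h ∈ su f, Mono h → h ∈ M) (hMG : M ≤ su f)
    {g : GL (Fin 4) F} (hg : g ∈ M) (hgH : ¬ Mono g) : ∀ v, f v v = 0 → Centre σ f M v := by
  have h2 := S.two_le
  by_cases hq : q = 2
  · exact centre_two S hq hH hMG hg hgH
  have h4 : 4 ≤ q := by omega
  by_cases NC : NoCoord M
  · exact absurd (all_mono_four S h4 hH hMG NC hg) hgH
  unfold NoCoord at NC
  simp only [not_forall] at NC
  obtain ⟨g₁, hg₁, i, a, c, hc, hm⟩ := NC
  obtain ⟨g', hg', hg'n, hg'i⟩ := exists_fix S (by omega) hH hMG hg₁ hm hc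
  obtain ⟨v, hv0, hvi, hv⟩ := centre_of_fix S (by omega) hH hMG hg' hg'n hg'i
  obtain ⟨x, y, α, β, hxy, hα, hβ, hαβ, hC⟩ := root_of_centre S hH hv0 hvi hv
  exact centre_all S (roots_of_root S (by omega) hH hxy hα hβ hαβ hC) fun h => absurd h hq

end LinesFour

/-- Clause (3): decompositions into four orthogonal non-degenerate lines. -/
theorem lines_maximal {F : Type*} [Field F] [Fintype F] (q : ℕ) (hF : Fintype.card F = q ^ 2) :
    q ≠ 3 → ∀ D : Fin 4 → Submodule F (Fin 4 → F),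
      Cfsg.Geo.IsNondegenerateMDecomposition (Cfsg.hermForm 4 F q) 1 D →
      Cfsg.Geo.IsMaximalIn (Cfsg.GU 4 F q ⊓ Cfsg.Geo.specialLinear (Fin 4) F)
        (Cfsg.Geo.decompositionStabilizer D ⊓
          (Cfsg.GU 4 F q ⊓ Cfsg.Geo.specialLinear (Fin 4) F)) := by
  classical
  intro h3 D hD
  obtain ⟨σ, hσ, hf⟩ := exists_setup (n := 4) hF
  have S : Std q σ (hermForm 4 F q) := ⟨hf, hF, hσ, fun x y => by simp [hermForm, hσ]⟩
  obtain ⟨U, blk, hUi, hcard, hU⟩ := exists_coords S hD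
  obtain ⟨hinj, hs⟩ := blk_bijective hcard
  have conj_su : ∀ {W h : GL (Fin 4) F}, W ∈ isom (hermForm 4 F q) → h ∈ su (hermForm 4 F q) →
      W * h * W⁻¹ ∈ su (hermForm 4 F q) := fun {W h} hW hh =>
    ⟨(mul_mem (mul_mem hW hh.1) (inv_mem hW) : W * h * W⁻¹ ∈ isom (hermForm 4 F q)),
      (mem_special_iff S).mpr (by
      rw [Units.val_mul, Units.val_mul, Matrix.det_units_conj]
      exact (mem_special_iff S).mp hh.2)⟩
  rw [← su_eq]
  refine isMaximalIn_of inf_le_right ?_ fun M hHM hMG g hg hgH => ?_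
  · obtain ⟨h, hh, hnk⟩ := exists_not_keeps S le_rfl Nat.one_pos hD.decomp.two_le hcard
    refine ⟨U * h * U⁻¹, conj_su hUi hh, fun hx => hnk ?_⟩
    have := keeps_of_stab hU hx.1
    simpa [mul_assoc] using this
  · set M' : Subgroup (GL (Fin 4) F) := M.comap (MulAut.conj U).toMonoidHom with hM'
    have memM' : ∀ h, h ∈ M' ↔ U * h * U⁻¹ ∈ M := fun h => Iff.rfl
    have hM'G : M' ≤ su (hermForm 4 F q) := fun h hh => by
      simpa [mul_assoc] using conj_su (inv_mem hUi) (hMG ((memM' h).mp hh))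
    have hH : ∀ h ∈ su (hermForm 4 F q), Mono h → h ∈ M' := fun h hh hm =>
      (memM' h).mpr (hHM ⟨stab_of_keeps hU Nat.one_pos hcard hD.decomp.finrank_eq
        (by simpa [mul_assoc] using (keeps_id hinj hs).mpr hm), conj_su hUi hh⟩)
    have hg' : U⁻¹ * g * U ∈ M' := (memM' _).mpr (by simpa [mul_assoc] using hg)
    have hgn : ¬ Mono (U⁻¹ * g * U) := fun hm => hgH
      ⟨stab_of_keeps hU Nat.one_pos hcard hD.decomp.finrank_eq ((keeps_id hinj hs).mpr hm), hMG hg⟩
    have hcent := LinesFour.centre_four S h3 hH hM'G hg' hgn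
    refine le_of_centres hF hσ hf le_rfl fun v hv => ?_
    have hw : hermForm 4 F q ((U⁻¹ : GL (Fin 4) F).1 *ᵥ v) ((U⁻¹ : GL (Fin 4) F).1 *ᵥ v) = 0 :=
      (mem_isom.mp (inv_mem hUi) v v).trans hv
    obtain ⟨-, hC⟩ := hcent _ hw
    refine ⟨hv, fun c hc => ?_⟩
    have e : ut (hermForm 4 F q) v c =
        U * ut (hermForm 4 F q) ((U⁻¹ : GL (Fin 4) F).1 *ᵥ v) c * U⁻¹ := gl_ext fun x => by
      rw [ap_mul, ap_mul, ut_mulVec hf hv, ut_mulVec hf hw, mulVec_add, mulVec_smul,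
        mulVec_inv_mulVec, mulVec_inv_mulVec, mem_isom.mp (inv_mem hUi)]
    rw [e]
    exact (memM' _).mp (hC c hc)

end Cfsg.Agent.SU4Geo98
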