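import Cfsg.Agent.SU4Geo98.HermFourCentres

/-!
An irrational transvection over a rational unitary group in dimension four produces an irrational
central parameter at a rational vector.
-/

set_option autoImplicit false
set_option linter.unusedSectionVars false

namespace Cfsg.Agent.SU4Geo98.HermFour

open Matrix Cfsg.Agent.MaxSub Cfsg.Agent.MaxSub.SubfieldHerm Cfsg.Agent.HermStab
open scoped MatrixGroups Classical
open Cfsg.Agent.PLocalB (upper lower)

variable {ι : Type} [Fintype ι] [DecidableEq ι] {F : Type*} [Field F] [Fintype F]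
variable {σ : F ≃+* F} {f : (ι → F) → (ι → F) → F} {F₀ : Subfield F} {L : Subgroup (GL ι F)}
variable (D : Data σ f F₀ L)

/-- The commutator in the radical of a rational kernel vector. -/
theorem central_mem {u : ι → F} (hu : f u u = 0) {c : F} (hc : c + σ c = 0) (hT : ut f u c ∈ L)
    {k : ι → F₀} (hkk : D.f₀ k k = 0) (hku : f (emb k) u = 0) {h : ι → F₀} (hhh : D.f₀ h h = 0)
    (hhk : D.f₀ h k = 0) {w : ι → F₀} (hwk : D.f₀ w k = 0) :
    ut f (emb k) (c * f (emb h) u * f u (emb w) - σ (c * f (emb h) u * f u (emb w))) ∈ L := by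
  have hf := D.hf
  have hfk := D.f_emb_zero hkk
  have huk := hswap_zero hf hku
  have hσβ : σ (f u (emb h)) = f (emb h) u := (hf.herm _ _).symm
  have hk' := D.sieg_mem hhh (hswap_zero D.hf₀ hhk) hkk 1
  have h1 := mul_mem (mul_mem hk' hT) (inv_mem hk')
  rw [ut_conj hf hu _ (D.isom_of_mem hk')] at h1
  have e1 : (sieg f (emb k) (emb h) (1 : F₀) : Matrix ι ι F) *ᵥ u =
      u + f u (emb h) • emb k := by
    rw [sieg_mulVec hf (D.f_emb_zero hhh) (D.f_emb_zero (hswap_zero D.hf₀ hhk)), huk]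
    simp
  rw [e1, ut_split hf hu hfk huk hc, hσβ, mul_assoc (ut f u c)] at h1
  have hX := (Subgroup.mul_mem_cancel_left L hT).1 h1
  set t := c * f (emb h) u with ht
  have hW : f (t • u) (emb k) = 0 := by rw [hf.smul_left, huk, mul_zero]
  rw [← qe_zero_eq_ut hf hfk, sieg, qe_add hf hfk (hzero_left hf _) hW, zero_add, add_zero,
    hzero_right hf, sub_zero] at hX
  obtain ⟨b, hb⟩ := exists_trace D.hf₀ (r := -D.f₀ w w) (by rw [map_neg, ← D.hf₀.herm])
  have hq := D.qe_mem hkk hwk hb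
  have hw' := D.f_emb_zero hwk
  have h12 := mul_mem hX hq
  set β' := t * f u (emb h)
  have e : qe f (emb k) (t • u) β' * qe f (emb k) (emb w) b =
      qe f (emb k) (emb w) b * qe f (emb k) (t • u) β' *
        ut f (emb k) (t * f u (emb w) - σ (t * f u (emb w))) := by
    rw [← qe_zero_eq_ut hf hfk, qe_add hf hfk hW hw', qe_add hf hfk hw' hW,
      qe_add hf hfk (by rw [hf.add_left, hw', hW, add_zero]) (hzero_left hf _), add_zero,
      hzero_left hf, sub_zero, hf.herm (emb w) (t • u), hf.smul_left, add_comm (t • u)]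
    congr 1
    ring
  rw [e] at h12
  exact (Subgroup.mul_mem_cancel_left L (mul_mem hq hX)).1 h12

/-- A transvection with two independent rational orthogonal vectors gives a seed. -/
theorem seed_of_kernel (h4 : Fintype.card ι = 4) {u : ι → F} (hu : f u u = 0) {c : F}
    (hc : c + σ c = 0) (hT : ut f u c ∈ L) (hirr : Irr f F₀ u c)
    (hK2 : 2 ≤ Module.finrank F₀ (LinearMap.ker (val D u))) :
    ∃ (b : ι → F₀) (c' : F), D.f₀ b b = 0 ∧ b ≠ 0 ∧ c' + σ c' = 0 ∧ c' ∉ F₀ ∧
      ut f (emb b) c' ∈ L := by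
  have hf := D.hf
  by_contra hns
  push Not at hns
  obtain ⟨l, hlne⟩ : ∃ l : F₀, σ (l : F) ≠ l := by
    by_contra h
    push Not at h
    exact D.hf₀.ne_refl (RingEquiv.ext fun x => Subtype.ext ((D.σ₀_coe x).trans (h x)))
  have hσl : σ (l : F) ∈ F₀ := by rw [← D.σ₀_coe]; exact SetLike.coe_mem _
  set K := LinearMap.ker (val D u) with hKdef
  have hKmem : ∀ {x}, x ∈ K → f (emb x) u = 0 := fun h => h
  let Q : (ι → F₀) → (ι → F₀) → F := fun x y => c * f (emb x) u * f u (emb y)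
  -- products of values at vectors orthogonal to an isotropic kernel vector
  have hprod : ∀ k ∈ K, k ≠ 0 → D.f₀ k k = 0 → ∀ h w, D.f₀ h k = 0 → D.f₀ w k = 0 →
      Q h w ∈ F₀ := by
    intro k hk hk0 hkk h w hhk hwk
    have hiso : ∀ h, D.f₀ h h = 0 → D.f₀ h k = 0 → ∀ w, D.f₀ w k = 0 → Q h w ∈ F₀ := by
      intro h hhh hhk w hwk
      have key : ∀ w, D.f₀ w k = 0 → Q h w - σ (Q h w) ∈ F₀ := fun w hwk => by
        by_contra hn
        exact hns k _ hkk hk0 (by rw [map_sub, hf.involutive]; ring) hn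
          (central_mem D hu hc hT hkk (hKmem hk) hhh hhk hwk)
      have h1 := key w hwk
      have h2 := key (l • w) (by rw [D.hf₀.smul_left, hwk, mul_zero])
      have e : Q h (l • w) = σ (l : F) * Q h w := by
        show c * f (emb h) u * f u (emb (l • w)) = _
        rw [emb_smul, hsmul_right hf]; ring
      rw [e, map_mul, hf.involutive] at h2
      have h3 := sub_mem h2 (mul_mem l.2 h1)
      rw [show σ (l : F) * Q h w - (l : F) * σ (Q h w) - (l : F) * (Q h w - σ (Q h w)) =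
        (σ (l : F) - l) * Q h w by ring] at h3
      have h4 := div_mem h3 (sub_mem hσl l.2)
      rwa [mul_div_cancel_left₀ _ (sub_ne_zero.2 hlne)] at h4
    by_cases hspan : h ∈ Submodule.span F₀ {k}
    · obtain ⟨t, rfl⟩ := Submodule.mem_span_singleton.1 hspan
      show c * f (emb (t • k)) u * f u (emb w) ∈ F₀
      rw [emb_smul, hf.smul_left, hKmem hk]
      simp
    obtain ⟨g, hgh, hgg, hgU⟩ := exists_dual_iso D.hf₀ (Submodule.span F₀ {k}) hspan
      (by rw [finrank_span_singleton hk0]; omega)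
    have hgk := (hgU k (Submodule.mem_span_singleton_self k)).1
    obtain ⟨s, hs⟩ := exists_trace D.hf₀ (r := -D.f₀ h h) (by rw [map_neg, ← D.hf₀.herm])
    have hy : D.f₀ (h + s • g) (h + s • g) = 0 := by
      rw [D.hf₀.add_left, hadd_right D.hf₀, hadd_right D.hf₀, D.hf₀.smul_left,
        hsmul_right D.hf₀, D.hf₀.smul_left, hsmul_right D.hf₀, hgg, hgh, D.hf₀.herm h g, hgh,
        map_one]
      linear_combination hs
    have := sub_mem (hiso _ hy (by rw [D.hf₀.add_left, D.hf₀.smul_left, hhk, hgk, mul_zero,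
      add_zero]) w hwk) (mul_mem s.2 (hiso g hgg hgk w hwk))
    have e : Q (h + s • g) w = Q h w + (s : F) * Q g w := by
      show c * f (emb (h + s • g)) u * f u (emb w) = _
      rw [emb_add, emb_smul, hf.add_left, hf.smul_left]; ring
    rwa [e, add_sub_cancel_right] at this
  obtain ⟨x₀, y₀, hxy⟩ := hirr
  by_cases hrad : ∃ k ∈ K, k ≠ 0 ∧ D.f₀ k k = 0 ∧ ∃ z ∈ K, D.f₀ z k ≠ 0
  · obtain ⟨k, hk, hk0, hkk, z, hz, hzk⟩ := hrad
    have hcorr : ∀ x, ∃ x', D.f₀ x' k = 0 ∧ f (emb x') u = f (emb x) u := fun x =>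
      ⟨x - (D.f₀ x k / D.f₀ z k) • z,
        by rw [hsub_left D.hf₀, D.hf₀.smul_left, div_mul_cancel₀ _ hzk, sub_self],
        by rw [emb_sub, emb_smul, hsub_left hf, hf.smul_left, hKmem hz, mul_zero, sub_zero]⟩
    obtain ⟨x', hx'k, hx'⟩ := hcorr x₀
    obtain ⟨y', hy'k, hy'⟩ := hcorr y₀
    refine hxy ?_
    have := hprod k hk hk0 hkk x' y' hx'k hy'k
    show c * f (emb x₀) u * f u (emb y₀) ∈ F₀
    rw [← hx', hf.herm u (emb y₀), ← hy', ← hf.herm]
    exact this
  push Not at hrad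
  by_cases hti : ∀ n ∈ K, D.f₀ n n = 0
  · have hdiag : ∀ h, Q h h ∈ F₀ := fun h => by
      obtain ⟨k, hk, hk0, hhk⟩ : ∃ k ∈ K, k ≠ 0 ∧ D.f₀ h k = 0 := by
        by_contra hcon
        push Not at hcon
        let φ := (hl D.hf₀ h).comp K.subtype
        have hinj : Function.Injective φ := by
          rw [injective_iff_map_eq_zero]
          intro k hk
          by_contra h0
          exact hcon k k.2 (fun e => h0 (Subtype.ext e)) (hswap_zero D.hf₀ hk)
        have := LinearMap.finrank_le_finrank_of_injective hinj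
        rw [Module.finrank_self] at this
        omega
      exact hprod k hk hk0 (hti k hk) h h hhk hhk
    refine hxy ?_
    have hA : Q x₀ y₀ + Q y₀ x₀ ∈ F₀ := by
      have := sub_mem (sub_mem (hdiag (x₀ + y₀)) (hdiag x₀)) (hdiag y₀)
      convert this using 1
      simp only [Q, emb_add, hf.add_left, hadd_right hf]
      ring
    have hB : (l : F) * Q x₀ y₀ + σ (l : F) * Q y₀ x₀ ∈ F₀ := by
      have := sub_mem (sub_mem (hdiag (l • x₀ + y₀)) (hdiag (l • x₀))) (hdiag y₀)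
      convert this using 1
      simp only [Q, emb_add, emb_smul, hf.add_left, hadd_right hf, hf.smul_left, hsmul_right hf]
      ring
    have h1 := sub_mem hB (mul_mem hσl hA)
    rw [show (l : F) * Q x₀ y₀ + σ (l : F) * Q y₀ x₀ - σ (l : F) * (Q x₀ y₀ + Q y₀ x₀) =
      ((l : F) - σ (l : F)) * Q x₀ y₀ by ring] at h1
    have h2 := div_mem h1 (sub_mem l.2 hσl)
    rwa [mul_div_cancel_left₀ _ (sub_ne_zero.2 (Ne.symm hlne))] at h2
  -- a one-dimensional radical
  push Not at hti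
  obtain ⟨n, hn, hnn⟩ := hti
  obtain ⟨k, hk, hk0, hkk⟩ := exists_iso_mem D.hf₀ hK2
  have hnk : D.f₀ n k = 0 := hrad k hk hk0 hkk n hn
  have hkn := hswap_zero D.hf₀ hnk
  have hknot : k ∉ Submodule.span F₀ {n} := fun hm => by
    obtain ⟨t, rfl⟩ := Submodule.mem_span_singleton.1 hm
    rw [D.hf₀.smul_left] at hkn
    exact hk0 (by rw [(mul_eq_zero.1 hkn).resolve_right hnn, zero_smul])
  obtain ⟨z, hzk, hzU⟩ := exists_dual D.hf₀ hknot
  obtain ⟨hzn, hnz⟩ := hzU n (Submodule.mem_span_singleton_self n)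
  have hkz : D.f₀ k z = 1 := by rw [D.hf₀.herm, hzk, map_one]
  let W := Submodule.span F₀ (Set.range ![k, n, z])
  have hli : LinearIndependent F₀ ![k, n, z] := by
    rw [Fintype.linearIndependent_iff]
    intro g hg
    simp only [Fin.sum_univ_three, Matrix.cons_val_zero, Matrix.cons_val_one,
      Matrix.cons_val_two, Matrix.tail_cons, Matrix.head_cons] at hg
    have a2 := congrArg (fun x => D.f₀ x k) hg
    have a1 := congrArg (fun x => D.f₀ x n) hg
    have a0 := congrArg (fun x => D.f₀ x z) hg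
    simp only [D.hf₀.add_left, D.hf₀.smul_left, hzero_left D.hf₀, hkk, hnk, hzk, mul_zero,
      mul_one, zero_add, add_zero] at a2
    simp only [D.hf₀.add_left, D.hf₀.smul_left, hzero_left D.hf₀, hkn, hzn, mul_zero,
      zero_add, add_zero, mul_eq_zero] at a1
    simp only [D.hf₀.add_left, D.hf₀.smul_left, hzero_left D.hf₀, hkz, hnz, a2, zero_mul,
      mul_one, mul_zero, zero_add, add_zero] at a0
    intro i
    fin_cases i
    · exact a0
    · exact a1.resolve_right hnn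
    · exact a2
  have hW3 : Module.finrank F₀ W = 3 := by
    rw [finrank_span_eq_card hli, Fintype.card_fin]
  have hpW : Module.finrank F₀ (perp D.hf₀ W) = 1 := by
    have := finrank_perp_add D.hf₀ W; omega
  obtain ⟨m, hmW, hm0⟩ := (perp D.hf₀ W).ne_bot_iff.1 fun e => by
    rw [e, finrank_bot] at hpW; omega
  have hperp : ∀ x ∈ perp D.hf₀ W, ∃ t : F₀, x = t • m := by
    intro x hx
    obtain ⟨t, ht⟩ := (finrank_eq_one_iff_of_nonzero' (⟨m, hmW⟩ : perp D.hf₀ W)
      (fun e => hm0 (congrArg Subtype.val e))).1 hpW ⟨x, hx⟩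
    exact ⟨t, (congrArg Subtype.val ht).symm⟩
  have hmemW : ∀ x, D.f₀ x k = 0 → D.f₀ x n = 0 → D.f₀ x z = 0 → x ∈ perp D.hf₀ W :=
    fun x h1 h2 h3 => (mem_perp_span D.hf₀).2 (by rintro _ ⟨i, rfl⟩; fin_cases i <;> assumption)
  have hmk : D.f₀ m k = 0 := (mem_perp D.hf₀).1 hmW k (Submodule.subset_span ⟨0, rfl⟩)
  have hmn : D.f₀ m n = 0 := (mem_perp D.hf₀).1 hmW n (Submodule.subset_span ⟨1, rfl⟩)
  have hmz : D.f₀ m z = 0 := (mem_perp D.hf₀).1 hmW z (Submodule.subset_span ⟨2, rfl⟩)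
  -- coordinates
  have hdec : ∀ x, ∃ a b d t : F₀, x = a • k + b • n + d • z + t • m := by
    intro x
    set x₁ := x - D.f₀ x k • z with hx₁
    set x₂ := x₁ - (D.f₀ x₁ n / D.f₀ n n) • n with hx₂
    set x₃ := x₂ - D.f₀ x₂ z • k with hx₃
    have h1 : D.f₀ x₁ k = 0 := by
      rw [hx₁, hsub_left D.hf₀, D.hf₀.smul_left, hzk, mul_one, sub_self]
    have h2k : D.f₀ x₂ k = 0 := by
      rw [hx₂, hsub_left D.hf₀, D.hf₀.smul_left, h1, hnk, mul_zero, sub_zero]
    have h2n : D.f₀ x₂ n = 0 := by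
      rw [hx₂, hsub_left D.hf₀, D.hf₀.smul_left, div_mul_cancel₀ _ hnn, sub_self]
    obtain ⟨t, ht⟩ := hperp x₃ (hmemW _
      (by rw [hx₃, hsub_left D.hf₀, D.hf₀.smul_left, h2k, hkk, mul_zero, sub_zero])
      (by rw [hx₃, hsub_left D.hf₀, D.hf₀.smul_left, h2n, hkn, mul_zero, sub_zero])
      (by rw [hx₃, hsub_left D.hf₀, D.hf₀.smul_left, hkz, mul_one, sub_self]))
    exact ⟨D.f₀ x₂ z, D.f₀ x₁ n / D.f₀ n n, D.f₀ x k, t, by
      rw [← ht, hx₃, hx₂, hx₁]; abel⟩
  have hmm : D.f₀ m m ≠ 0 := fun e => by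
    obtain ⟨x, hx⟩ := (D.hf₀.nondegenerate m hm0).1
    obtain ⟨a, b, d, t, rfl⟩ := hdec x
    refine hx ?_
    simp [D.hf₀.add_left, D.hf₀.smul_left, hswap_zero D.hf₀ hmk, hswap_zero D.hf₀ hmn,
      hswap_zero D.hf₀ hmz, e]
  have hmm' : (D.f₀ m m : F) ≠ 0 := fun e => hmm (Subtype.ext e)
  -- `u` is combined from `k` and `m`
  set α := σ (f (emb z) u) with hα
  set γ := σ (f (emb m) u / (D.f₀ m m : F)) with hγ
  have hw0 : u - α • emb k - γ • emb m = 0 := by
    set w := u - α • emb k - γ • emb m with hw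
    have hk1 : f (emb k) w = 0 := by
      rw [hw, hsub_right hf, hsub_right hf, hsmul_right hf, hsmul_right hf, hKmem hk,
        D.f_emb_zero hkk, D.f_emb_zero (hswap_zero D.hf₀ hmk)]; ring
    have hn1 : f (emb n) w = 0 := by
      rw [hw, hsub_right hf, hsub_right hf, hsmul_right hf, hsmul_right hf, hKmem hn,
        D.f_emb_zero hnk, D.f_emb_zero (hswap_zero D.hf₀ hmn)]; ring
    have hz1 : f (emb z) w = 0 := by
      rw [hw, hsub_right hf, hsub_right hf, hsmul_right hf, hsmul_right hf, hα, hf.involutive,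
        D.f_emb, hzk, D.f_emb_zero (hswap_zero D.hf₀ hmz)]
      simp
    have hm1 : f (emb m) w = 0 := by
      rw [hw, hsub_right hf, hsub_right hf, hsmul_right hf, hsmul_right hf, hγ, hα, hf.involutive,
        hf.involutive, D.f_emb_zero hmk, D.f_emb, div_mul_cancel₀ _ hmm']
      ring
    have hall : ∀ x : ι → F₀, f w (emb x) = 0 := fun x => by
      obtain ⟨a, b, d, t, rfl⟩ := hdec x
      refine hswap_zero hf ?_
      simp only [emb_add, emb_smul, hf.add_left, hf.smul_left, hk1, hn1, hz1, hm1, mul_zero,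
        add_zero]
    obtain ⟨y, hy⟩ := eq_emb_of_values D (v := w) fun x => by rw [hall]; exact zero_mem _
    by_cases hy0 : y = 0
    · rw [hy, hy0, emb_zero]
    obtain ⟨x, hx⟩ := (D.hf₀.nondegenerate y hy0).2
    exact absurd (Subtype.ext ((D.f_emb y x).symm.trans (hy ▸ hall x))) hx
  have hum : u = α • emb k + γ • emb m := by
    rw [sub_sub, sub_eq_zero] at hw0; exact hw0
  have hγ0 : γ = 0 := by
    have h := hu
    rw [hum, hf.add_left, hadd_right hf, hadd_right hf, hf.smul_left, hf.smul_left, hf.smul_left,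
      hf.smul_left, hsmul_right hf, hsmul_right hf, hsmul_right hf, hsmul_right hf,
      D.f_emb_zero hkk, D.f_emb_zero (hswap_zero D.hf₀ hmk), D.f_emb_zero hmk, D.f_emb] at h
    simpa [hmm'] using h
  have hmu : f (emb m) u = 0 := by
    have := congrArg σ hγ0
    rw [hγ, hf.involutive, map_zero, div_eq_zero_iff] at this
    exact this.resolve_right hmm'
  obtain ⟨s, hs⟩ := exists_norm D.hf₀ (r := -D.f₀ m m / D.f₀ n n) (by
    rw [map_div₀, map_neg, ← D.hf₀.herm, ← D.hf₀.herm])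
  have hs0 : s ≠ 0 := fun e => hmm (by
    rw [e, mul_zero] at hs
    simpa [hnn] using hs.symm)
  have hk'K : m + s • n ∈ K := by
    show f (emb (m + s • n)) u = 0
    rw [emb_add, emb_smul, hf.add_left, hf.smul_left, hmu, hKmem hn, mul_zero, add_zero]
  have hk'k' : D.f₀ (m + s • n) (m + s • n) = 0 := by
    simp only [D.hf₀.add_left, hadd_right D.hf₀, D.hf₀.smul_left, hsmul_right D.hf₀, hmn,
      hswap_zero D.hf₀ hmn]
    rw [eq_div_iff hnn] at hs
    linear_combination hs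
  have hn' : D.f₀ n (m + s • n) = D.σ₀ s * D.f₀ n n := by
    rw [hadd_right D.hf₀, hsmul_right D.hf₀, hswap_zero D.hf₀ hmn, zero_add]
  have hk'0 : m + s • n ≠ 0 := fun e => by
    rw [e, hzero_right D.hf₀] at hn'
    exact mul_ne_zero ((map_ne_zero _).2 hs0) hnn hn'.symm
  have := hrad _ hk'K hk'0 hk'k' n hn
  rw [hn'] at this
  exact mul_ne_zero ((map_ne_zero _).2 hs0) hnn this

theorem exists_tiso_four (h4 : Fintype.card ι = 4) {u : ι → F}
    (hK : Module.finrank F₀ (LinearMap.ker (val D u)) ≤ 1) :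
    ∀ k ≤ 2, ∃ S : Submodule F₀ (ι → F₀), Module.finrank F₀ S = k ∧
      (∀ x ∈ S, ∀ y ∈ S, D.f₀ x y = 0) ∧ S ⊓ LinearMap.ker (val D u) = ⊥ := by
  intro k hk
  induction k with
  | zero => exact ⟨⊥, finrank_bot _ _, fun x hx y _ => by
      simp only [Submodule.mem_bot] at hx; rw [hx, hzero_left D.hf₀], bot_inf_eq _⟩
  | succ k ih =>
    obtain ⟨S, hS, hiso, hSK⟩ := ih (by omega)
    have hp := finrank_perp_add D.hf₀ S
    have h1 := Submodule.finrank_mono
      (inf_le_left : (S ⊔ LinearMap.ker (val D u)) ⊓ perp D.hf₀ S ≤ _)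
    have h2 := Submodule.finrank_sup_add_finrank_inf_eq S (LinearMap.ker (val D u))
    obtain ⟨g, hg, hgn, hgg⟩ := exists_iso_notMem D.hf₀ (K := perp D.hf₀ S) (U := S) (by
      have := Submodule.finrank_mono (inf_le_left : S ⊓ perp D.hf₀ S ≤ _)
      omega)
    obtain ⟨z₀, hz₀, hz₀S⟩ := exists_dual D.hf₀ hgn
    obtain ⟨x, hx, hxn, hxx⟩ := exists_iso_notMem_of_pair D.hf₀ (K := perp D.hf₀ S)
      (U := S ⊔ LinearMap.ker (val D u)) hg hgg ((mem_perp D.hf₀).2 fun s hs => (hz₀S s hs).1)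
      (by rw [hz₀]; exact one_ne_zero) (fun hle => by
        have := Submodule.finrank_mono hle
        omega)
    have hxS : ∀ s ∈ S, D.f₀ x s = 0 := (mem_perp D.hf₀).1 hx
    refine ⟨S ⊔ Submodule.span F₀ {x}, ?_, ?_, ?_⟩
    · have h := Submodule.finrank_sup_add_finrank_inf_eq S (Submodule.span F₀ {x})
      have hx0 : x ≠ 0 := fun e => hxn (e ▸ zero_mem _)
      have hb : S ⊓ Submodule.span F₀ {x} = ⊥ := by
        refine (Submodule.eq_bot_iff _).2 fun y hy => ?_
        obtain ⟨t, rfl⟩ := Submodule.mem_span_singleton.1 hy.2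
        by_contra hne
        have ht : t ≠ 0 := fun e => hne (by rw [e, zero_smul])
        exact hxn (Submodule.mem_sup_left ((S.smul_mem_iff ht).1 hy.1))
      rw [hb, finrank_bot, finrank_span_singleton hx0, hS] at h
      omega
    · intro a ha b hb
      obtain ⟨a₁, ha₁, a₂, ha₂, rfl⟩ := Submodule.mem_sup.1 ha
      obtain ⟨b₁, hb₁, b₂, hb₂, rfl⟩ := Submodule.mem_sup.1 hb
      obtain ⟨s, rfl⟩ := Submodule.mem_span_singleton.1 ha₂
      obtain ⟨t, rfl⟩ := Submodule.mem_span_singleton.1 hb₂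
      simp [D.hf₀.add_left, hadd_right D.hf₀, D.hf₀.smul_left, hsmul_right D.hf₀,
        hiso a₁ ha₁ b₁ hb₁, hxS b₁ hb₁, hswap_zero D.hf₀ (hxS a₁ ha₁), hxx]
    · refine (Submodule.eq_bot_iff _).2 fun y hy => ?_
      obtain ⟨a₁, ha₁, a₂, ha₂, rfl⟩ := Submodule.mem_sup.1 hy.1
      obtain ⟨s, rfl⟩ := Submodule.mem_span_singleton.1 ha₂
      rcases eq_or_ne s 0 with rfl | hs
      · rw [zero_smul, add_zero] at hy ⊢
        exact (Submodule.eq_bot_iff _).1 hSK a₁ ⟨ha₁, hy.2⟩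
      · refine absurd ?_ hxn
        rw [← Submodule.smul_mem_iff _ hs]
        have := sub_mem (Submodule.mem_sup_right (S := S) hy.2) (Submodule.mem_sup_left ha₁)
        rwa [add_sub_cancel_left] at this

set_option maxHeartbeats 800000 in
theorem seed_of_generic (h4 : Fintype.card ι = 4) {r : ℕ} (hr : r.Prime)
    (hq : Nat.card F = Nat.card F₀ ^ r) {u : ι → F} (hu : f u u = 0) {c : F}
    (hc : c + σ c = 0) (hc0 : c ≠ 0) (hT : ut f u c ∈ L)
    (hd : Fintype.card ι < Module.finrank F₀ (LinearMap.range (val D u)) + 2) :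
    ∃ (b : ι → F₀) (c' : F), D.f₀ b b = 0 ∧ b ≠ 0 ∧ c' + σ c' = 0 ∧ c' ∉ F₀ ∧
      ut f (emb b) c' ∈ L := by
  have hf := D.hf
  have hK := LinearMap.finrank_range_add_finrank_ker (val D u)
  rw [Module.finrank_pi] at hK
  -- the fields
  obtain ⟨c₀, hc₀0, hc₀⟩ := exists_skew D.hf₀
  have hc₀' : (c₀ : F) + σ c₀ = 0 := by rw [← D.σ₀_coe]; exact congrArg Subtype.val hc₀
  have hc₀0' : (c₀ : F) ≠ 0 := fun h => hc₀0 (Subtype.ext h)
  obtain ⟨l, hlF, hlne⟩ : ∃ l ∈ F₀, σ l ≠ l := by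
    by_contra h
    push Not at h
    exact D.hf₀.ne_refl (RingEquiv.ext fun x => Subtype.ext ((D.σ₀_coe x).trans (h x x.2)))
  have hstab : ∀ x ∈ F₀, σ x ∈ F₀ := fun x hx => by
    rw [show σ x = D.σ₀ ⟨x, hx⟩ from (D.σ₀_coe ⟨x, hx⟩).symm]; exact SetLike.coe_mem _
  let Fq := realPart σ
  let Fq₀ : Subfield Fq := F₀.comap Fq.subtype
  have hcard₀ : Nat.card Fq₀ = Nat.card (F₀ ⊓ realPart σ : Subfield F) :=
    Nat.card_congr
      { toFun := fun x => ⟨((x : Fq) : F), x.2, (x : Fq).2⟩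
        invFun := fun x => ⟨⟨x.1, x.2.2⟩, x.2.1⟩
        left_inv := fun x => rfl
        right_inv := fun x => rfl }
  have hF₀sq := card_eq_sq hf.involutive F₀ hstab hlF hlne
  have hFsq := card_eq_sq hf.involutive (⊤ : Subfield F) (fun x _ => Subfield.mem_top _)
    (Subfield.mem_top l) hlne
  rw [top_inf_eq, Nat.card_congr Subfield.topEquiv.toEquiv] at hFsq
  rw [← hcard₀] at hF₀sq
  set q₀ := Nat.card Fq₀ with hq₀def
  have hq₀ : 2 ≤ q₀ := Finite.one_lt_card
  have hFq : Nat.card Fq = q₀ ^ r := by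
    refine (Nat.pow_left_injective two_ne_zero ?_ :)
    show Nat.card Fq ^ 2 = (q₀ ^ r) ^ 2
    rw [← hFsq, hq, hF₀sq, ← pow_mul, ← pow_mul, mul_comm]
  have hr5 : 3 ≤ r := by
    have hF : Module.finrank F₀ F = r := by
      have := Module.natCard_eq_pow_finrank (K := F₀) (V := F)
      rw [hq] at this
      exact (Nat.pow_right_injective Finite.one_lt_card this).symm
    have := Submodule.finrank_le (LinearMap.range (val D u))
    omega
  -- a totally isotropic rational space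
  obtain ⟨S, hS3, hSiso, hSK⟩ := exists_tiso_four D h4 (u := u) (by omega) 2 le_rfl
  have hSinj : ∀ x ∈ S, f (emb x) u = 0 → x = 0 := fun x hx h =>
    (Submodule.eq_bot_iff _).1 hSK x ⟨hx, h⟩
  obtain ⟨e₀, he₀, he₀0⟩ := S.ne_bot_iff.1 (fun h => by rw [h, finrank_bot] at hS3; omega)
  set a := f (emb e₀) u with ha
  have ha0 : a ≠ 0 := fun h => he₀0 (hSinj e₀ he₀ h)
  let SF : Submodule F (ι → F) := Submodule.span F ((emb : (ι → F₀) → ι → F) '' S)
  have hmemS : ∀ x ∈ S, emb x ∈ SF := fun x hx => Submodule.subset_span ⟨x, hx, rfl⟩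
  have hSFiso : ∀ x ∈ SF, ∀ y ∈ SF, f x y = 0 := by
    have h1 : SF ≤ perp hf SF := by
      refine Submodule.span_le.2 ?_
      rintro _ ⟨x, hx, rfl⟩
      refine (mem_perp_span hf).2 ?_
      rintro _ ⟨y, hy, rfl⟩
      exact D.f_emb_zero (hSiso x hx y hy)
    exact fun x hx => (mem_perp hf).1 (h1 hx)
  let R : Submodule F (ι → F) := SF ⊓ LinearMap.ker (hl hf u)
  have hR : ∀ {z}, z ∈ R → z ∈ SF ∧ f z u = 0 := fun h => h
  -- the plane
  set ε₁ := emb e₀ with hε₁
  set κ := c * a with hκ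
  have hκ0 : κ ≠ 0 := mul_ne_zero hc0 ha0
  set ε₂ := κ • u with hε₂
  let H : Subgroup SL(2, Fq) :=
    { carrier := {A | ∃ g ∈ L, (∀ z ∈ R, (g : Matrix ι ι F) *ᵥ z = z) ∧
        (g : Matrix ι ι F) *ᵥ ε₁ - ((A 0 0 : F) • ε₁ + (A 1 0 : F) • ε₂) ∈ R ∧
        (g : Matrix ι ι F) *ᵥ ε₂ - ((A 0 1 : F) • ε₁ + (A 1 1 : F) • ε₂) ∈ R}
      one_mem' := ⟨1, one_mem _, by simp, by simp, by simp⟩
      mul_mem' := by
        rintro A B ⟨g, hg, gR, g1, g2⟩ ⟨k, hk, kR, k1, k2⟩
        have key : ∀ (p q : F) (w : ι → F), w - (p • ε₁ + q • ε₂) ∈ R →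
            (g : Matrix ι ι F) *ᵥ w - ((p * A 0 0 + q * A 0 1) • ε₁ +
              (p * A 1 0 + q * A 1 1) • ε₂) ∈ R := by
          intro p q w hw
          have h3 := add_mem hw (add_mem (R.smul_mem p g1) (R.smul_mem q g2))
          have h4 := gR _ hw
          rw [mulVec_sub, mulVec_add, mulVec_smul, mulVec_smul] at h4
          convert h3 using 1
          rw [← h4]
          module
        refine ⟨g * k, mul_mem hg hk, fun z hz => ?_, ?_, ?_⟩
        · rw [Units.val_mul, ← mulVec_mulVec, kR z hz, gR z hz]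
        · rw [Units.val_mul, ← mulVec_mulVec]
          convert key _ _ _ k1 using 2
          simp only [Matrix.SpecialLinearGroup.coe_mul, Matrix.mul_apply, Fin.sum_univ_two]
          push_cast
          module
        · rw [Units.val_mul, ← mulVec_mulVec]
          convert key _ _ _ k2 using 2
          simp only [Matrix.SpecialLinearGroup.coe_mul, Matrix.mul_apply, Fin.sum_univ_two]
          push_cast
          module
      inv_mem' := by
        rintro A ⟨g, hg, gR, g1, g2⟩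
        have hd : (A 0 0 : F) * A 1 1 - A 0 1 * A 1 0 = 1 := by
          have := congrArg (Subtype.val : Fq → F) (PLocalB.det_entries A)
          push_cast at this
          exact this
        have hinv : (A⁻¹ : SL(2, Fq)).1 = !![A 1 1, -A 0 1; -A 1 0, A 0 0] := by
          rw [Matrix.SpecialLinearGroup.coe_inv, Matrix.adjugate_fin_two]
        have key : ∀ (p q : F) (w : ι → F),
            (p * A 0 0 + q * A 0 1) • ε₁ + (p * A 1 0 + q * A 1 1) • ε₂ = w →
            ((g⁻¹ : GL ι F) : Matrix ι ι F) *ᵥ w - (p • ε₁ + q • ε₂) ∈ R := by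
          intro p q w hw
          have h3 := add_mem (R.smul_mem p g1) (R.smul_mem q g2)
          have h5 := R.neg_mem h3
          have hgz : (g : Matrix ι ι F) *ᵥ (((g⁻¹ : GL ι F) : Matrix ι ι F) *ᵥ w -
              (p • ε₁ + q • ε₂)) ∈ R := by
            rw [mulVec_sub, mulVec_inv_mulVec, mulVec_add, mulVec_smul, mulVec_smul, ← hw]
            convert h5 using 1
            module
          have h6 := gR _ hgz
          rwa [← mulVec_injective g h6]
        refine ⟨g⁻¹, inv_mem hg, fun z hz => ?_, ?_, ?_⟩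
        · conv_lhs => rw [← gR z hz]
          exact inv_mulVec_mulVec g z
        · rw [hinv]
          simp only [Matrix.of_apply, Matrix.cons_val', Matrix.cons_val_zero, Matrix.cons_val_one,
            Matrix.empty_val', Matrix.cons_val_fin_one, NegMemClass.coe_neg]
          refine key _ _ _ ?_
          linear_combination (norm := module) hd • ε₁
        · rw [hinv]
          simp only [Matrix.of_apply, Matrix.cons_val', Matrix.cons_val_zero, Matrix.cons_val_one,
            Matrix.empty_val', Matrix.cons_val_fin_one, NegMemClass.coe_neg]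
          refine key _ _ _ ?_
          linear_combination (norm := module) hd • ε₂ }
  have hlow : lower (1 : Fq) ∈ H := by
    refine ⟨ut f u c, hT, fun z hz => ?_, ?_, ?_⟩
    · rw [ut_mulVec hf hu, (hR hz).2, mul_zero, zero_smul, add_zero]
    · rw [ut_mulVec hf hu, hε₁, ← ha, hε₂, hκ]
      simp [lower]
    · rw [ut_mulVec hf hu, hε₂, hf.smul_left, hu]
      simp [lower]
  -- the upper transvections
  let Uu : AddSubgroup Fq :=
    { carrier := {s | upper s ∈ H}
      zero_mem' := by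
        show upper 0 ∈ H
        rw [PLocalB.upper_zero]; exact one_mem H
      add_mem' := fun {x y} hx hy => by
        show upper (x + y) ∈ H
        rw [← PLocalB.upper_mul]; exact mul_mem hx hy
      neg_mem' := fun {x} hx => by
        show upper (-x) ∈ H
        rw [← PLocalB.upper_inv]; exact inv_mem hx }
  let G : Set Fq := {s | ∃ x ∈ S, ∃ c' : F₀, c' + D.σ₀ c' = 0 ∧
    (s : F) = c * (c' : F) * (f (emb x) u * f u (emb x))}
  let U := AddSubgroup.closure G
  have hG : G ⊆ Uu := by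
    rintro s ⟨x, hx, c', hc', hs⟩
    have hiso := D.f_emb_zero (hSiso x hx x hx)
    have hRx : emb x - (f (emb x) u / a) • ε₁ ∈ R := by
      refine ⟨sub_mem (hmemS x hx) (SF.smul_mem _ (hmemS e₀ he₀)), ?_⟩
      show f (emb x - (f (emb x) u / a) • ε₁) u = 0
      rw [hsub_left hf, hf.smul_left, hε₁, ← ha, div_mul_cancel₀ _ ha0, sub_self]
    refine ⟨ut f (emb x) c', D.ut_mem (hSiso x hx x hx) hc', fun z hz => ?_, ?_, ?_⟩
    · rw [ut_mulVec hf hiso, hSFiso z (hR hz).1 _ (hmemS x hx), mul_zero, zero_smul, add_zero]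
    · rw [ut_mulVec hf hiso, hSFiso _ (hmemS e₀ he₀) _ (hmemS x hx), mul_zero]
      simp
    · rw [ut_mulVec hf hiso, hε₂, hf.smul_left]
      convert R.smul_mem ((c' : F) * (κ * f u (emb x))) hRx using 1
      rw [show ((upper s 0 1 : Fq) : F) = s by simp, show ((upper s 1 1 : Fq) : F) = 1 by simp, hs,
        hκ]
      match_scalars <;> field_simp <;> ring
  have hU : ∀ s ∈ U, upper s ∈ H := fun s hs => (AddSubgroup.closure_le Uu).2 hG hs
  have hsmul : ∀ k ∈ Fq₀, ∀ s ∈ U, k * s ∈ U := by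
    intro k hk s hs
    induction hs using AddSubgroup.closure_induction with
    | mem s hs =>
      obtain ⟨x, hx, c', hc', hs⟩ := hs
      refine AddSubgroup.subset_closure ⟨x, hx, ⟨((k : Fq) : F), hk⟩ * c', ?_, ?_⟩
      · rw [map_mul, show D.σ₀ ⟨((k : Fq) : F), hk⟩ = ⟨((k : Fq) : F), hk⟩ from
          Subtype.ext ((D.σ₀_coe _).trans k.2), ← mul_add, hc', mul_zero]
      · push_cast
        rw [hs]; ring
    | zero => rw [mul_zero]; exact zero_mem _
    | add x y _ _ hx hy => rw [mul_add]; exact add_mem hx hy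
    | neg x _ hx => rw [mul_neg]; exact neg_mem hx
  have hreal : ∀ x y : ι → F₀, c * (c₀ : F) *
      (f (emb x) u * f u (emb y) + f (emb y) u * f u (emb x)) ∈ Fq := by
    intro x y
    show σ _ = _
    rw [map_mul, map_mul, map_add, map_mul, map_mul, ← hf.herm, ← hf.herm, ← hf.herm, ← hf.herm,
      eq_neg_of_add_eq_zero_right hc, eq_neg_of_add_eq_zero_right hc₀']
    ring
  have hgen : ∀ x ∈ S, ∃ s ∈ U, (s : F) = c * (c₀ : F) * (f (emb x) u * f u (emb x)) := by
    intro x hx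
    have hm : c * (c₀ : F) * (f (emb x) u * f u (emb x)) ∈ Fq := by
      show σ _ = _
      rw [map_mul, map_mul, map_mul, ← hf.herm, ← hf.herm, eq_neg_of_add_eq_zero_right hc,
        eq_neg_of_add_eq_zero_right hc₀']
      ring
    exact ⟨⟨_, hm⟩, AddSubgroup.subset_closure ⟨x, hx, c₀, hc₀, rfl⟩, rfl⟩
  -- enough parameters
  have hUcard : q₀ ^ 3 ≤ Nat.card U := by
    obtain ⟨y₂, hy₂, hind⟩ : ∃ y₂ ∈ S, y₂ ∉ Submodule.span F₀ {e₀} := by
      by_contra h
      push Not at h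
      have h1 := Submodule.finrank_mono (fun y hy => h y hy : S ≤ Submodule.span F₀ {e₀})
      rw [finrank_span_singleton he₀0, hS3] at h1
      omega
    set ω := f (emb y₂) u / a with hω
    have hωa : f (emb y₂) u = ω * a := (div_mul_cancel₀ _ ha0).symm
    have hωn : ω ∉ F₀ := fun hm => hind (Submodule.mem_span_singleton.2 ⟨⟨ω, hm⟩, by
      have h1 : f (emb (y₂ - (⟨ω, hm⟩ : F₀) • e₀)) u = 0 := by
        rw [emb_sub, emb_smul, hsub_left hf, hf.smul_left, ← ha, hωa]
        simp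
      exact (sub_eq_zero.1 (hSinj _ (sub_mem hy₂ (S.smul_mem _ he₀)) h1)).symm⟩)
    set κ' := c * (c₀ : F) * (a * σ a) with hκ'
    have hκ'0 : κ' ≠ 0 := mul_ne_zero (mul_ne_zero hc0 hc₀0') (mul_ne_zero ha0 ((map_ne_zero σ).2 ha0))
    have hN : ∀ x ∈ S, ∀ β : F, f (emb x) u = β * a → ∃ s ∈ U, (s : F) = κ' * (β * σ β) := by
      intro x hx β hβ
      obtain ⟨s, hs, e⟩ := hgen x hx
      refine ⟨s, hs, ?_⟩
      rw [e, hf.herm u (emb x), hβ, hκ', map_mul]
      ring
    have hone : ∃ s ∈ U, (s : F) = κ' := by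
      obtain ⟨s, hs, e⟩ := hN e₀ he₀ 1 (one_mul a).symm
      exact ⟨s, hs, by rw [e, map_one, one_mul, mul_one]⟩
    have hnorm : ∃ s ∈ U, (s : F) = κ' * (ω * σ ω) := hN y₂ hy₂ ω hωa
    have htr : ∀ t : F₀, ∃ s ∈ U, (s : F) = κ' * ((t : F) * ω + σ (t : F) * σ ω) := by
      intro t
      obtain ⟨s1, hs1, e1⟩ := hN _ (add_mem he₀ (S.smul_mem t hy₂)) (1 + t * ω) (by
        rw [emb_add, emb_smul, hf.add_left, hf.smul_left, ← ha, hωa]; ring)
      obtain ⟨s2, hs2, e2⟩ := hone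
      obtain ⟨s3, hs3, e3⟩ := hN _ (S.smul_mem t hy₂) (t * ω) (by
        rw [emb_smul, hf.smul_left, hωa]; ring)
      refine ⟨s1 - s2 - s3, sub_mem (sub_mem hs1 hs2) hs3, ?_⟩
      push_cast
      rw [e1, e2, e3, map_add, map_one, map_mul]
      ring
    obtain ⟨u₁, hu₁, eu₁⟩ := hone
    obtain ⟨u₃, hu₃, eu₃⟩ := hnorm
    choose u₂ hu₂ eu₂ using htr
    have hr2 : r ≠ 2 := by omega
    have hω0 : ω ≠ 0 := fun e => hωn (e ▸ zero_mem _)
    by_cases hdep : ∃ P Q : F₀, σ ω = (P : F) + (Q : F) * ω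
    · obtain ⟨P, Q, hPQ⟩ := hdep
      have hQ0 : Q ≠ 0 := fun e => by
        rw [e, ZeroMemClass.coe_zero, zero_mul, add_zero] at hPQ
        have h1 := hstab _ P.2
        rw [← hPQ, hf.involutive] at h1
        exact hωn h1
      obtain ⟨s₁, hs₁⟩ : ∃ s₁ : F₀, (s₁ : F) + σ (s₁ : F) * Q ≠ 0 := by
        by_contra h
        push Not at h
        have h1 := h 1
        have h2 := h ⟨l, hlF⟩
        simp only [OneMemClass.coe_one, map_one, one_mul] at h1
        exact hlne (by linear_combination -h2 + σ l * h1)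
      let Φ : Fq₀ × Fq₀ × Fq₀ → U := fun t =>
        ⟨(t.1 : Fq) * u₁ + ((t.2.1 : Fq) * u₂ s₁ + (t.2.2 : Fq) * u₃),
          add_mem (hsmul _ t.1.2 _ hu₁)
            (add_mem (hsmul _ t.2.1.2 _ (hu₂ s₁)) (hsmul _ t.2.2.2 _ hu₃))⟩
      have hΦ : Function.Injective Φ := by
        rintro ⟨p, k, t⟩ ⟨p', k', t'⟩ h
        have h' := congrArg (fun x : U => ((x : Fq) : F)) h
        simp only [Φ, Subfield.coe_add, Subfield.coe_mul, eu₁, eu₂, eu₃] at h'
        set dp : F₀ := ⟨((p : Fq) : F), p.2⟩ - ⟨((p' : Fq) : F), p'.2⟩ with hdp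
        set dk : F₀ := ⟨((k : Fq) : F), k.2⟩ - ⟨((k' : Fq) : F), k'.2⟩ with hdk
        set dt : F₀ := ⟨((t : Fq) : F), t.2⟩ - ⟨((t' : Fq) : F), t'.2⟩ with hdt
        set A := dp + dk * (D.σ₀ s₁) * P with hA
        set B := dk * (s₁ + D.σ₀ s₁ * Q) + dt * P with hB
        have hz : ((dt * Q : F₀) : F) * ω ^ 2 + B * ω + A = 0 := by
          refine (mul_eq_zero.1 (?_ : κ' * _ = 0)).resolve_left hκ'0
          rw [hA, hB, hdp, hdk, hdt]
          push_cast
          rw [D.σ₀_coe]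
          simp only [hPQ] at h'
          linear_combination h'
        have hA0 : A = 0 := by
          by_contra hne
          exact hωn (mem_of_quadratic hr hr2 hq hne hz)
        rw [hA0, ZeroMemClass.coe_zero, add_zero] at hz
        have hz' : ((dt * Q : F₀) : F) * ω + B = 0 := by
          refine (mul_eq_zero.1 (?_ : (((dt * Q : F₀) : F) * ω + B) * ω = 0)).resolve_right hω0
          linear_combination hz
        have hT0 : dt * Q = 0 := by
          by_contra hne
          refine hωn ?_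
          have hne' : ((dt * Q : F₀) : F) ≠ 0 := fun e => hne (Subtype.ext e)
          have : ω = -(B : F) / ((dt * Q : F₀) : F) := by
            rw [eq_div_iff hne']; linear_combination hz'
          rw [this]; exact div_mem (neg_mem B.2) (dt * Q).2
        have hdt0 := (mul_eq_zero.1 hT0).resolve_right hQ0
        have hB0 : B = 0 := Subtype.ext (by
          rw [hT0, ZeroMemClass.coe_zero, zero_mul, zero_add] at hz'; simpa using hz')
        rw [hB, hdt0, zero_mul, add_zero] at hB0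
        have hdk0 := (mul_eq_zero.1 hB0).resolve_right fun e => hs₁ (by
          have := congrArg (fun x : F₀ => (x : F)) e
          push_cast at this
          rw [D.σ₀_coe] at this
          exact this)
        rw [hA, hdk0, zero_mul, zero_mul, add_zero] at hA0
        rw [hdp, sub_eq_zero] at hA0
        rw [hdk, sub_eq_zero] at hdk0
        rw [hdt, sub_eq_zero] at hdt0
        refine Prod.ext (Subtype.ext (Subtype.ext ?_)) (Prod.ext (Subtype.ext (Subtype.ext ?_))
          (Subtype.ext (Subtype.ext ?_)))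
        · exact (congrArg (fun x : F₀ => (x : F)) hA0 :)
        · exact (congrArg (fun x : F₀ => (x : F)) hdk0 :)
        · exact (congrArg (fun x : F₀ => (x : F)) hdt0 :)
      have := Nat.card_le_card_of_injective Φ hΦ
      rw [Nat.card_prod, Nat.card_prod, ← hq₀def] at this
      rw [pow_succ, sq]
      linarith
    · let Φ : Fq₀ × F₀ → U := fun t =>
        ⟨(t.1 : Fq) * u₁ + u₂ t.2, add_mem (hsmul _ t.1.2 _ hu₁) (hu₂ t.2)⟩
      have hΦ : Function.Injective Φ := by
        rintro ⟨p, t⟩ ⟨p', t'⟩ h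
        have h' := congrArg (fun x : U => ((x : Fq) : F)) h
        simp only [Φ, Subfield.coe_add, Subfield.coe_mul, eu₁, eu₂] at h'
        set dp : F₀ := ⟨((p : Fq) : F), p.2⟩ - ⟨((p' : Fq) : F), p'.2⟩ with hdp
        have hz : (dp : F) + ((t - t' : F₀) : F) * ω + σ ((t - t' : F₀) : F) * σ ω = 0 := by
          refine (mul_eq_zero.1 (?_ : κ' * _ = 0)).resolve_left hκ'0
          rw [hdp]
          push_cast
          rw [map_sub]
          linear_combination h'
        have ht0 : t - t' = 0 := by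
          by_contra hne
          refine hdep ⟨-dp / D.σ₀ (t - t'), -(t - t') / D.σ₀ (t - t'), ?_⟩
          have hne' : σ ((t - t' : F₀) : F) ≠ 0 :=
            (map_ne_zero σ).2 fun e => hne (Subtype.ext e)
          have e2 : ∀ x : F₀, ((x / D.σ₀ (t - t') : F₀) : F) = (x : F) / σ ((t - t' : F₀) : F) :=
            fun x => by rw [Subfield.coe_div, D.σ₀_coe]
          rw [e2, e2, div_mul_eq_mul_div, ← add_div, eq_div_iff hne', NegMemClass.coe_neg,
            NegMemClass.coe_neg]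
          linear_combination hz
        rw [ht0, ZeroMemClass.coe_zero, map_zero, zero_mul, zero_mul, add_zero, add_zero] at hz
        have hdp0 : dp = 0 := Subtype.ext hz
        rw [hdp, sub_eq_zero] at hdp0
        refine Prod.ext (Subtype.ext (Subtype.ext ?_)) (sub_eq_zero.1 ht0)
        exact (congrArg (fun x : F₀ => (x : F)) hdp0 :)
      have := Nat.card_le_card_of_injective Φ hΦ
      rw [Nat.card_prod, hF₀sq, ← hq₀def] at this
      rw [pow_succ, sq]
      linarith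
  obtain ⟨p, hp⟩ := CharP.exists F
  have : Fact p.Prime := ⟨CharP.char_is_prime F p⟩
  have : CharP Fq p := Fq.subtype.charP Subtype.val_injective p
  have hpq : p ≤ q₀ := by
    have : CharP Fq₀ p := Fq₀.subtype.charP Subtype.val_injective p
    have := Fintype.ofFinite Fq₀
    obtain ⟨m, hm⟩ := FiniteField.card Fq₀ p
    rw [hq₀def, Nat.card_eq_fintype_card, hm.2]
    exact Nat.le_self_pow m.2.ne' p
  have hq3 : q₀ * 4 ≤ q₀ ^ 3 := by
    rw [show q₀ ^ 3 = q₀ * q₀ ^ 2 by rw [← pow_succ']]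
    exact Nat.mul_le_mul_left _ (by simpa using Nat.pow_le_pow_left hq₀ 2)
  have hnr : ∃ s ∈ U, (1 : Fq) * s ∉ Fq₀ := by
    by_contra h
    push Not at h
    have : Nat.card U ≤ q₀ := Nat.card_le_card_of_injective
      (fun s : U => (⟨s, by simpa using h s s.2⟩ : Fq₀))
      fun s t hst => Subtype.ext (congrArg Subtype.val hst :)
    omega
  have hfull := SubfieldMax.sl2_full p Fq₀ (prime_index Fq₀ hr hFq) H U hU hsmul (by omega)
    (by omega) hlow hnr
  -- a torus element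
  obtain ⟨m, hm0, hm1, hm2⟩ : ∃ m : Fq, m ≠ 0 ∧ m ≠ 1 ∧ m ≠ -1 := by
    have := Fintype.ofFinite Fq
    have h4 : 4 ≤ Fintype.card Fq := by
      rw [← Nat.card_eq_fintype_card, hFq]
      exact le_trans (Nat.pow_le_pow_left hq₀ 2) (Nat.pow_le_pow_right (by omega) (by omega))
    obtain ⟨m, -, hm⟩ := Finset.exists_mem_notMem_of_card_lt_card
      (s := ({0, 1, -1} : Finset Fq)) (t := Finset.univ) (by
        rw [Finset.card_univ]
        exact lt_of_le_of_lt (Finset.card_le_three (a := (0 : Fq))) (by omega))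
    simp only [Finset.mem_insert, Finset.mem_singleton, not_or] at hm
    exact ⟨m, hm⟩
  obtain ⟨g, hg, l', hl1, hgR, hgε⟩ : ∃ g ∈ L, ∃ l' : F, l' ≠ 1 ∧
      (∀ z ∈ R, (g : Matrix ι ι F) *ᵥ z = z) ∧
      (g : Matrix ι ι F) *ᵥ ε₁ - l' • ε₁ ∈ R := by
    let A : SL(2, Fq) := ⟨!![m, 0; 0, m⁻¹], by simp [Matrix.det_fin_two, hm0]⟩
    rcases hfull A with ⟨g, hg, gR, g1, -⟩ | ⟨g, hg, gR, g1, -⟩
    · exact ⟨g, hg, m, fun h => hm1 (Subtype.ext h), gR, by simpa [A] using g1⟩
    · have e' : ((-A : SL(2, Fq)) : Matrix (Fin 2) (Fin 2) Fq) = -!![m, 0; 0, m⁻¹] :=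
        Matrix.SpecialLinearGroup.coe_neg A
      rw [e'] at g1
      refine ⟨g, hg, -(m : F), fun h => hm2 (Subtype.ext ?_), gR, by simpa using g1⟩
      push_cast
      rw [← h, neg_neg]
  set v := (g : Matrix ι ι F) *ᵥ ε₁ - ε₁ with hv
  have hvS : v ∈ SF := by
    have := add_mem (hR hgε).1 (SF.smul_mem (l' - 1) (hmemS e₀ he₀))
    convert this using 1
    rw [hv]; module
  have hv0 : v ≠ 0 := by
    intro h0
    have h2 := (hR hgε).2
    rw [show (g : Matrix ι ι F) *ᵥ ε₁ - l' • ε₁ = (1 - l') • ε₁ by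
      rw [sub_eq_zero.1 (hv ▸ h0 :)]; module, hf.smul_left, hε₁, ← ha] at h2
    exact hl1 (sub_eq_zero.1 ((mul_eq_zero.1 h2).resolve_right ha0)).symm
  have hgy : ∀ y ∈ S, (g : Matrix ι ι F) *ᵥ emb y = emb y + (f (emb y) u / a) • v := by
    intro y hy
    have hRy : emb y - (f (emb y) u / a) • ε₁ ∈ R := by
      refine ⟨sub_mem (hmemS y hy) (SF.smul_mem _ (hmemS e₀ he₀)), ?_⟩
      show f (emb y - (f (emb y) u / a) • ε₁) u = 0
      rw [hsub_left hf, hf.smul_left, hε₁, ← ha, div_mul_cancel₀ _ ha0, sub_self]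
    have h1 := hgR _ hRy
    rw [mulVec_sub, mulVec_smul, sub_eq_iff_eq_add] at h1
    rw [h1, hv]; module
  -- some image of a rational vector is irrational
  obtain ⟨y, hyS, hy0, hyirr⟩ : ∃ y ∈ S, y ≠ 0 ∧
      Irr f F₀ ((g : Matrix ι ι F) *ᵥ emb y) c₀ := by
    by_contra hall
    push Not at hall
    have hray : ∀ y ∈ S, y ≠ 0 → ∃ (β : F) (z : ι → F₀), β ≠ 0 ∧
        (g : Matrix ι ι F) *ᵥ emb y = β • emb z := fun y hy hy0 => by
      obtain ⟨β, z, hβ, -, h⟩ := exists_ray D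
        (mulVec_ne_zero g fun e => hy0 (emb_injective (e.trans emb_zero.symm))) c₀.2 hc₀0'
        (hall y hy hy0)
      exact ⟨β, z, hβ, h⟩
    obtain ⟨y₂, hy₂, hind⟩ : ∃ y₂ ∈ S, y₂ ∉ Submodule.span F₀ {e₀} := by
      by_contra h
      push Not at h
      have h1 := Submodule.finrank_mono (fun y hy => h y hy : S ≤ Submodule.span F₀ {e₀})
      rw [finrank_span_singleton he₀0, hS3] at h1
      omega
    have hy₂0 : y₂ ≠ 0 := fun e => hind (e ▸ zero_mem _)
    obtain ⟨β, z₁, hβ, hz₁⟩ := hray e₀ he₀ he₀0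
    obtain ⟨β₂, z₂, hβ₂, hz₂⟩ := hray y₂ hy₂ hy₂0
    obtain ⟨β₃, z₃, -, hz₃⟩ := hray (e₀ + y₂) (add_mem he₀ hy₂) fun e =>
      hind ((eq_neg_of_add_eq_zero_right e) ▸ neg_mem (Submodule.mem_span_singleton_self e₀))
    set ω := f (emb y₂) u / a with hω
    have hωn : ω ∉ F₀ := fun hm => hind (Submodule.mem_span_singleton.2 ⟨⟨ω, hm⟩, by
      have h1 : f (emb (y₂ - (⟨ω, hm⟩ : F₀) • e₀)) u = 0 := by
        rw [emb_sub, emb_smul, hsub_left hf, hf.smul_left, ← ha,
          show (((⟨ω, hm⟩ : F₀) : F)) = f (emb y₂) u / a from hω, div_mul_cancel₀ _ ha0, sub_self]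
      exact (sub_eq_zero.1 (hSinj _ (sub_mem hy₂ (S.smul_mem _ he₀)) h1)).symm⟩)
    -- the two scalars are rationally proportional
    obtain ⟨d, hd⟩ : ∃ d : F₀, β₂ = β * d := by
      have hz₁0 : z₁ ≠ 0 := fun e => by
        rw [e, emb_zero, smul_zero] at hz₁
        exact mulVec_ne_zero g (fun h => he₀0 (emb_injective (h.trans emb_zero.symm))) hz₁
      have hn12 : z₂ ∉ Submodule.span F₀ {z₁} := fun hm => by
        obtain ⟨s, rfl⟩ := Submodule.mem_span_singleton.1 hm
        have h1 : emb y₂ = (β₂ * (s : F) / β) • emb e₀ := mulVec_injective g (by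
          show (g : Matrix ι ι F) *ᵥ emb y₂ = (g : Matrix ι ι F) *ᵥ _
          rw [hz₂, mulVec_smul, hz₁, emb_smul, smul_smul, smul_smul, div_mul_cancel₀ _ hβ])
        obtain ⟨i, hi⟩ := Function.ne_iff.1 he₀0
        have hi' : (e₀ i : F) ≠ 0 := fun h => hi (Subtype.ext h)
        have h2 : β₂ * (s : F) / β ∈ F₀ := by
          have h3 : (y₂ i : F) = β₂ * (s : F) / β * (e₀ i : F) := congrFun h1 i
          rw [← mul_div_cancel_right₀ (β₂ * (s : F) / β) hi', ← h3]
          exact div_mem (y₂ i).2 (e₀ i).2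
        exact hind (Submodule.mem_span_singleton.2 ⟨⟨_, h2⟩, emb_injective h1.symm⟩)
      obtain ⟨w₂, hw₂, hw₂'⟩ := exists_dual D.hf₀ hn12
      have hn21 : z₁ ∉ Submodule.span F₀ {z₂} := fun hm => by
        obtain ⟨s, hs⟩ := Submodule.mem_span_singleton.1 hm
        exact hn12 (Submodule.mem_span_singleton.2 ⟨s⁻¹, by
          rw [← hs, smul_smul, inv_mul_cancel₀ fun h => hz₁0 (by rw [← hs, h, zero_smul]),
            one_smul]⟩)
      obtain ⟨w₁, hw₁, hw₁'⟩ := exists_dual D.hf₀ hn21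
      have hsum : β₃ • emb z₃ = β • emb z₁ + β₂ • emb z₂ := by
        rw [← hz₃, ← hz₁, ← hz₂, emb_add, mulVec_add]
      have e1 := congrArg (fun w => f (emb w₁) w) hsum
      have e2 := congrArg (fun w => f (emb w₂) w) hsum
      simp only [hadd_right hf, hsmul_right hf, D.f_emb, hw₁, hw₂,
        (hw₁' z₂ (Submodule.mem_span_singleton_self _)).1,
        (hw₂' z₁ (Submodule.mem_span_singleton_self _)).1, ZeroMemClass.coe_zero,
        OneMemClass.coe_one, mul_zero, mul_one, add_zero, zero_add] at e1 e2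
      have hp : (D.f₀ w₁ z₃ : F) ≠ 0 := fun h => by
        rw [h, mul_zero] at e1
        exact (map_ne_zero σ).2 hβ e1.symm
      refine ⟨D.σ₀ (D.f₀ w₂ z₃ / D.f₀ w₁ z₃), σ.injective ?_⟩
      rw [map_mul, ← e1, ← e2, D.σ₀_coe, hf.involutive]
      push_cast
      field_simp
    set z₂' := d • z₂ with hz₂'
    have hz₂'' : (g : Matrix ι ι F) *ᵥ emb y₂ = β • emb z₂' := by
      rw [hz₂, hd, hz₂', emb_smul, smul_smul]
    have hφ₁ : β • emb z₁ - emb e₀ = v := by rw [← hz₁, hv, hε₁]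
    have hφ₂ : β • emb z₂' - emb y₂ = ω • v := by
      rw [← hz₂'', hgy y₂ hy₂, add_sub_cancel_left, hω]
    have hrel : ∀ w : ι → F₀, ω * (β * (D.f₀ z₁ w : F) - D.f₀ e₀ w) =
        β * (D.f₀ z₂' w : F) - D.f₀ y₂ w := by
      intro w
      rw [← D.f_emb, ← D.f_emb, ← D.f_emb, ← D.f_emb, ← hf.smul_left, ← hsub_left hf,
        ← hf.smul_left β, ← hsub_left hf, hφ₁, hφ₂, hf.smul_left]
    have hβF : β ∈ F₀ := by
      have hn' : e₀ ∉ Submodule.span F₀ {y₂} := fun hm => by
        obtain ⟨s, hs⟩ := Submodule.mem_span_singleton.1 hm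
        exact hind (Submodule.mem_span_singleton.2 ⟨s⁻¹, by
          rw [← hs, smul_smul, inv_mul_cancel₀ fun h => he₀0 (by rw [← hs, h, zero_smul]),
            one_smul]⟩)
      obtain ⟨w₁, hw₁, hw₁'⟩ := exists_dual D.hf₀ hn'
      obtain ⟨w₂, hw₂, hw₂'⟩ := exists_dual D.hf₀ hind
      have e1 := hrel w₁
      have e2 := hrel w₂
      rw [D.hf₀.herm e₀ w₁, hw₁, map_one,
        (hw₁' y₂ (Submodule.mem_span_singleton_self _)).2] at e1
      rw [D.hf₀.herm y₂ w₂, hw₂, map_one,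
        (hw₂' e₀ (Submodule.mem_span_singleton_self _)).2] at e2
      simp only [ZeroMemClass.coe_zero, OneMemClass.coe_one, sub_zero] at e1 e2
      refine mem_of_quadratic hr (by omega) hq (x := β)
        (p := D.f₀ z₁ w₁ * D.f₀ z₂' w₂ - D.f₀ z₁ w₂ * D.f₀ z₂' w₁)
        (q := -(D.f₀ z₁ w₁ + D.f₀ z₂' w₂)) (s := 1) one_ne_zero ?_
      push_cast
      linear_combination (β * (D.f₀ z₁ w₂ : F)) * e1 - (β * (D.f₀ z₁ w₁ : F) - 1) * e2
    -- hence `v = 0`
    refine hv0 ?_
    by_contra hv0'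
    obtain ⟨w, hw⟩ : ∃ w : ι → F₀, f v (emb w) ≠ 0 := by
      by_contra h
      push Not at h
      obtain ⟨z, hz⟩ := eq_emb_of_values D (v := v) fun w => by rw [h]; exact zero_mem _
      by_cases hz0 : z = 0
      · exact hv0' (by rw [hz, hz0, emb_zero])
      obtain ⟨w, hw⟩ := (D.hf₀.nondegenerate z hz0).2
      exact hw (Subtype.ext ((D.f_emb z w).symm.trans (hz ▸ h w)))
    have h1 := hrel w
    have e : f v (emb w) = β * (D.f₀ z₁ w : F) - D.f₀ e₀ w := by
      rw [← hφ₁, hsub_left hf, hf.smul_left, D.f_emb, D.f_emb]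
    rw [← e] at h1
    refine hωn ?_
    rw [← mul_div_cancel_right₀ ω hw, h1, e]
    exact div_mem (sub_mem (mul_mem hβF (D.f₀ z₂' w).2) (D.f₀ y₂ w).2)
      (sub_mem (mul_mem hβF (D.f₀ z₁ w).2) (D.f₀ e₀ w).2)
  set x := (g : Matrix ι ι F) *ᵥ emb y with hx
  have hxS : x ∈ SF := by
    rw [hx, hgy y hyS]; exact add_mem (hmemS y hyS) (SF.smul_mem _ hvS)
  have hxiso := hSFiso x hxS x hxS
  have hT' : ut f x c₀ ∈ L := by
    have := mul_mem (mul_mem hg (D.ut_mem (hSiso y hyS y hyS) hc₀)) (inv_mem hg)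
    rwa [ut_conj hf (D.f_emb_zero (hSiso y hyS y hyS)) _ (D.isom_of_mem hg)] at this
  refine seed_of_kernel D h4 hxiso hc₀' hT' hyirr ?_
  have hle : S ≤ LinearMap.ker (val D x) := fun y hy => by
    rw [LinearMap.mem_ker, val_apply]
    exact hSFiso _ (hmemS y hy) x hxS
  have h2 := Submodule.finrank_mono hle
  omega


/-- An element outside has an irrational image of an isotropic rational vector. -/
theorem exists_irr_four (hn : 4 ≤ Fintype.card ι) {h : GL ι F}
    (hh : h ∈ isom f) {c : F} (hc : c ∈ F₀) (hc0 : c ≠ 0)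
    (hnot : ¬ ∃ s : F, s ≠ 0 ∧ ∀ i j, (h : Matrix ι ι F) i j / s ∈ F₀) :
    ∃ e : ι → F₀, D.f₀ e e = 0 ∧ Irr f F₀ ((h : Matrix ι ι F) *ᵥ emb e) c := by
  by_contra hall
  push Not at hall
  obtain ⟨e₁, he₁, hee, -⟩ := exists_generic D.hf₀ (⊥ : Submodule F₀ (ι → F₀)) (by simp; omega)
  simp only [Submodule.mem_bot] at he₁
  obtain ⟨f₁, hf1, hff, -⟩ := exists_dual_iso D.hf₀ (⊥ : Submodule F₀ (ι → F₀)) (a := e₁)
    (by simpa using he₁) (by simp; omega)
  have hray : ∀ e : ι → F₀, e ≠ 0 → D.f₀ e e = 0 → ∃ (β : F) (y : ι → F₀),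
      β ≠ 0 ∧ σ β * β ∈ F₀ ∧ (h : Matrix ι ι F) *ᵥ emb e = β • emb y := fun e he0 he =>
    exists_ray D (mulVec_ne_zero h fun e0 => he0 (emb_injective (e0.trans emb_zero.symm))) hc hc0
      (hall e he)
  obtain ⟨s, y₁, hs, hNs, hy₁⟩ := hray e₁ he₁ hee
  refine hnot ⟨s, hs, ?_⟩
  -- isotropic vectors not orthogonal to `e₁`
  have key : ∀ e : ι → F₀, D.f₀ e e = 0 → D.f₀ e e₁ ≠ 0 →
      ∃ y : ι → F₀, (h : Matrix ι ι F) *ᵥ emb e = s • emb y := by
    intro e he hee₁
    have he0 : e ≠ 0 := fun e0 => hee₁ (by rw [e0, hzero_left D.hf₀])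
    obtain ⟨β, y, hβ, -, hy⟩ := hray e he0 he
    have h1 : f ((h : Matrix ι ι F) *ᵥ emb e) ((h : Matrix ι ι F) *ᵥ emb e₁) = D.f₀ e e₁ := by
      rw [mem_isom.mp hh, D.f_emb]
    rw [hy, hy₁, D.hf.smul_left, hsmul_right D.hf, D.f_emb] at h1
    have hne : (D.f₀ y y₁ : F) ≠ 0 := fun h0 => hee₁ (Subtype.ext (by
      rw [← h1, h0]; simp))
    have hq : β / s ∈ F₀ := by
      have : β / s = (D.f₀ e e₁ : F) / ((σ s * s) * (D.f₀ y y₁ : F)) := by
        rw [← h1]
        have := (map_ne_zero σ).2 hs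
        field_simp
      rw [this]
      exact div_mem (D.f₀ e e₁).2 (mul_mem hNs (D.f₀ y y₁).2)
    refine ⟨(⟨β / s, hq⟩ : F₀) • y, ?_⟩
    rw [hy, emb_smul, smul_smul, mul_div_cancel₀ _ hs]
  have hf1' : D.f₀ e₁ f₁ = 1 := by rw [D.hf₀.herm, hf1, map_one]
  have hfix : ∀ a : ι → F₀, D.σ₀ (D.f₀ a a) = D.f₀ a a := fun a => (D.hf₀.herm a a).symm
  have hevery : ∀ x : ι → F₀, ∃ y : ι → F₀, (h : Matrix ι ι F) *ᵥ emb x = s • emb y := by
    intro x
    by_cases hx : D.f₀ x e₁ = 0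
    · have hrx : D.σ₀ (-(D.f₀ x x + D.f₀ x f₁ + D.f₀ f₁ x)) =
          -(D.f₀ x x + D.f₀ x f₁ + D.f₀ f₁ x) := by
        rw [map_neg, map_add, map_add, ← D.hf₀.herm, ← D.hf₀.herm, ← D.hf₀.herm]; ring
      obtain ⟨t, ht⟩ := exists_trace D.hf₀ hrx
      have hz : D.f₀ (x + f₁ + t • e₁) (x + f₁ + t • e₁) = 0 := by
        simp only [D.hf₀.add_left, hadd_right D.hf₀, D.hf₀.smul_left, hsmul_right D.hf₀, hx,
          hswap_zero D.hf₀ hx, hff, hee, hf1, hf1']
        linear_combination ht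
      obtain ⟨a, ha⟩ := key _ hz (by
        simp [D.hf₀.add_left, D.hf₀.smul_left, hx, hee, hf1])
      obtain ⟨b, hb⟩ := key f₁ hff (by rw [hf1]; exact one_ne_zero)
      refine ⟨a - b - t • y₁, ?_⟩
      rw [emb_add, emb_add, emb_smul, mulVec_add, mulVec_add, mulVec_smul, hb, hy₁] at ha
      rw [emb_sub, emb_sub, emb_smul, smul_sub, smul_sub, ← ha]
      module
    · obtain ⟨t', ht'⟩ := exists_trace D.hf₀ (r := -D.f₀ x x) (by rw [map_neg, hfix])
      set α := D.f₀ x e₁ with hα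
      have hα' : D.σ₀ α ≠ 0 := (map_ne_zero D.σ₀).2 hx
      set t := t' / D.σ₀ α with ht
      have hz : D.f₀ (x + t • e₁) (x + t • e₁) = 0 := by
        simp only [D.hf₀.add_left, hadd_right D.hf₀, D.hf₀.smul_left, hsmul_right D.hf₀, hee,
          D.hf₀.herm e₁ x, ← hα, ht, map_div₀, D.hf₀.involutive]
        field_simp
        linear_combination α * D.σ₀ α * ht'
      obtain ⟨a, ha⟩ := key _ hz (by simp [D.hf₀.add_left, D.hf₀.smul_left, hee, ← hα, hx])
      refine ⟨a - t • y₁, ?_⟩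
      rw [emb_add, emb_smul, mulVec_add, mulVec_smul, hy₁] at ha
      rw [emb_sub, emb_smul, smul_sub, ← ha]
      module
  intro i j
  obtain ⟨y, hy⟩ := hevery (Pi.single j 1)
  have he : emb (Pi.single j (1 : F₀)) = Pi.single j (1 : F) := funext fun l => by
    show ((Pi.single j (1 : F₀) : ι → F₀) l : F) = _
    rw [Pi.single_apply, Pi.single_apply]
    split_ifs <;> rfl
  rw [he, mulVec_single_one] at hy
  have := congrFun hy i
  simp only [Matrix.col_apply, Pi.smul_apply, smul_eq_mul] at this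
  rw [this, mul_div_cancel_left₀ _ hs]
  exact (y i).2

/-- An irrational transvection gives a seed. -/
theorem seed_of_irr (h4 : Fintype.card ι = 4) {r : ℕ} (hr : r.Prime)
    (hq : Nat.card F = Nat.card F₀ ^ r) {u : ι → F} (hu : f u u = 0) {c : F} (hc : c + σ c = 0)
    (hc0 : c ≠ 0) (hT : ut f u c ∈ L) (hirr : Irr f F₀ u c) :
    ∃ (b : ι → F₀) (c' : F), D.f₀ b b = 0 ∧ b ≠ 0 ∧ c' + σ c' = 0 ∧ c' ∉ F₀ ∧
      ut f (emb b) c' ∈ L := by
  rcases le_or_gt (Module.finrank F₀ (LinearMap.range (val D u)) + 2) (Fintype.card ι) with h | h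
  · refine seed_of_kernel D h4 hu hc hT hirr ?_
    have h1 := LinearMap.finrank_range_add_finrank_ker (val D u)
    rw [Module.finrank_fintype_fun_eq_card] at h1
    omega
  · exact seed_of_generic D h4 hr hq hu hc hc0 hT h

end Cfsg.Agent.SU4Geo98.HermFour
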