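import Mathlib
import Cfsg.Prelude.Def_Classical
import Cfsg.Agent.SU4Geo98.HermFourSeed

/-!
# Subfield subgroups of odd prime index in four-dimensional special unitary groups
-/

set_option autoImplicit false
open Cfsg
open Matrix

namespace Cfsg.Agent.SU4Geo98

/-- For `n = 4` the unitary subfield groups of odd prime index are maximal. -/
theorem oddIndex_isMaximalIn_four {F : Type*} [Field F] [Fintype F] (n q : ℕ) (hF : Fintype.card F = q ^ 2) (hn : n = 4) (F₀ : Subfield F) (r : ℕ) (hr : r.Prime) (hro : Odd r) (hcard : Fintype.card F = Nat.card F₀ ^ r) (P : Matrix.GeneralLinearGroup (Fin n) F) (hP : Cfsg.Geo.IsFormRationalStructure (Cfsg.hermForm n F q) F₀ 1 P) : Cfsg.Geo.IsMaximalIn (Cfsg.GU n F q ⊓ Cfsg.Geo.specialLinear (Fin n) F) (Cfsg.Geo.subfieldSubgroup F₀ P ⊓ (Cfsg.GU n F q ⊓ Cfsg.Geo.specialLinear (Fin n) F)) := by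
  classical
  open Cfsg.Agent.MaxSub Cfsg.Agent.MaxSub.SubfieldHerm Cfsg.Agent.HermStab in
  exact (by
    obtain ⟨σ, hσ, hf₁⟩ := exists_setup (n := n) hF
    have hq : Nat.card F = Nat.card F₀ ^ r := by rw [Nat.card_eq_fintype_card]; exact hcard
    let f : (Fin n → F) → (Fin n → F) → F := fun x y =>
      Cfsg.hermForm n F q ((P : Matrix (Fin n) (Fin n) F) *ᵥ x)
        ((P : Matrix (Fin n) (Fin n) F) *ᵥ y)
    have hsurj : ∀ y : Fin n → F, ∃ x, (P : Matrix (Fin n) (Fin n) F) *ᵥ x = y := fun y =>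
      ⟨_, mulVec_inv_mulVec P y⟩
    have hf : Cfsg.Geo.IsUnitaryForm σ f :=
      ⟨hf₁.ne_refl, hf₁.involutive,
        fun x y v => by simp only [f, mulVec_add]; exact hf₁.add_left _ _ _,
        fun c x v => by simp only [f, mulVec_smul]; exact hf₁.smul_left _ _ _,
        fun v w => hf₁.herm _ _, fun v hv => by
          obtain ⟨⟨x, hx⟩, ⟨x', hx'⟩⟩ := hf₁.nondegenerate _ (mulVec_ne_zero P hv)
          obtain ⟨a, rfl⟩ := hsurj x
          obtain ⟨a', rfl⟩ := hsurj x'
          exact ⟨⟨a, hx⟩, ⟨a', hx'⟩⟩⟩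
    have hrat : ∀ u v : Fin n → F₀, f (emb u) (emb v) ∈ F₀ := fun u v => by
      simpa using hP (emb u) (emb v) (fun i => (u i).2) fun i => (v i).2
    have hstab : ∀ x ∈ F₀, σ x ∈ F₀ := fun x hx => by rw [hσ]; exact pow_mem hx q
    let s₀ : F₀ → F₀ := fun x => ⟨σ x, hstab x x.2⟩
    have hs₀ : ∀ x, s₀ (s₀ x) = x := fun x => Subtype.ext (hf₁.involutive x)
    let σ₀ : F₀ ≃+* F₀ :=
      { toFun := s₀
        invFun := s₀
        left_inv := hs₀
        right_inv := hs₀
        map_mul' := fun x y => Subtype.ext (map_mul σ (x : F) y)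
        map_add' := fun x y => Subtype.ext (map_add σ (x : F) y) }
    have hnefix : ¬ ∀ x ∈ F₀, σ x = x := by
      intro hfix
      obtain ⟨a, ha⟩ : ∃ a, σ a ≠ a := by
        by_contra h
        push Not at h
        exact hf₁.ne_refl (RingEquiv.ext h)
      have hsq := card_eq_sq hf₁.involutive (⊤ : Subfield F)
        (fun x _ => Subfield.mem_top _) (Subfield.mem_top a) ha
      rw [top_inf_eq, Nat.card_congr Subfield.topEquiv.toEquiv] at hsq
      rcases prime_index F₀ hr hq (realPart σ) hfix with h | h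
      · rw [h, hq] at hsq
        have := Nat.pow_right_injective (Finite.one_lt_card : 1 < Nat.card F₀) hsq
        subst this
        exact absurd hro (by decide)
      · exact ha (show a ∈ realPart σ from h ▸ Subfield.mem_top a)
    let f₀ : (Fin n → F₀) → (Fin n → F₀) → F₀ := fun u v => ⟨_, hrat u v⟩
    have hf₀ : Cfsg.Geo.IsUnitaryForm σ₀ f₀ := by
      refine ⟨fun h => hnefix fun x hx => congrArg Subtype.val (RingEquiv.congr_fun h ⟨x, hx⟩),
        hs₀, fun x y v => Subtype.ext (hf.add_left _ _ _),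
        fun c x v => Subtype.ext (hf.smul_left _ _ _),
        fun v w => Subtype.ext (hf.herm _ _), fun v hv => ?_⟩
      have hv0 : emb v ≠ 0 := fun h => hv (emb_injective (h.trans emb_zero.symm))
      have key : ∃ w, f₀ v w ≠ 0 := by
        by_contra h
        push Not at h
        obtain ⟨x, hx⟩ := (hf.nondegenerate _ hv0).2
        refine hx (hswap_zero hf ?_)
        rw [← hl_apply hf, pi_eq_sum_univ' x, map_sum]
        refine Finset.sum_eq_zero fun i _ => ?_
        have h1 : f (emb v) (emb (Pi.single i (1 : F₀))) = 0 := congrArg Subtype.val (h _)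
        have he : emb (Pi.single i (1 : F₀)) = Pi.single i (1 : F) := funext fun l => by
          show ((Pi.single i (1 : F₀) : Fin n → F₀) l : F) = _
          rw [Pi.single_apply, Pi.single_apply]
          split_ifs <;> rfl
        rw [map_smul, hl_apply, hswap_zero hf (he ▸ h1), smul_zero]
      obtain ⟨w, hw⟩ := key
      exact ⟨⟨w, fun h => hw (Subtype.ext (hswap_zero hf (congrArg Subtype.val h)))⟩, ⟨w, hw⟩⟩
    let G := Cfsg.GU n F q ⊓ Cfsg.Geo.specialLinear (Fin n) F
    let M₀ := (Matrix.GeneralLinearGroup.map (F₀.subtype : F₀ →+* F)).range ⊔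
      Cfsg.Geo.scalars (Fin n) F
    have hG : ∀ k : Matrix.GeneralLinearGroup (Fin n) F, k ∈ su f ↔ P * k * P⁻¹ ∈ G := by
      intro k
      have hdet : k ∈ Cfsg.Geo.specialLinear (Fin n) F ↔
          P * k * P⁻¹ ∈ Cfsg.Geo.specialLinear (Fin n) F := by
        show Matrix.GeneralLinearGroup.det k = 1 ↔
          Matrix.GeneralLinearGroup.det (P * k * P⁻¹) = 1
        rw [map_mul, map_mul, map_inv, mul_comm (Matrix.GeneralLinearGroup.det P),
          mul_inv_cancel_right]
      refine and_congr ?_ hdet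
      constructor
      · intro h x y
        obtain ⟨a, rfl⟩ := hsurj x
        obtain ⟨b, rfl⟩ := hsurj y
        show Cfsg.hermForm n F q ((P * k * P⁻¹ : Matrix.GeneralLinearGroup (Fin n) F).1 *ᵥ _)
          ((P * k * P⁻¹ : Matrix.GeneralLinearGroup (Fin n) F).1 *ᵥ _) = _
        simp only [Units.val_mul, ← mulVec_mulVec, inv_mulVec_mulVec]
        exact h a b
      · intro h a b
        have h' : Cfsg.hermForm n F q
            ((P * k * P⁻¹ : Matrix.GeneralLinearGroup (Fin n) F).1 *ᵥ
              ((P : Matrix (Fin n) (Fin n) F) *ᵥ a))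
            ((P * k * P⁻¹ : Matrix.GeneralLinearGroup (Fin n) F).1 *ᵥ
              ((P : Matrix (Fin n) (Fin n) F) *ᵥ b)) = _ :=
          h ((P : Matrix (Fin n) (Fin n) F) *ᵥ a) ((P : Matrix (Fin n) (Fin n) F) *ᵥ b)
        simp only [Units.val_mul, ← mulVec_mulVec, inv_mulVec_mulVec] at h'
        exact h'
    have hM : ∀ x : Matrix.GeneralLinearGroup (Fin n) F,
        x ∈ Cfsg.Geo.subfieldSubgroup F₀ P ↔ P⁻¹ * x * P ∈ M₀ := by
      intro x
      refine ⟨?_, fun h => ⟨_, h, by simp [mul_assoc]⟩⟩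
      rintro ⟨y, hy, rfl⟩
      simpa [mul_assoc] using hy
    have hnc : Fintype.card (Fin n) = 4 := by rw [Fintype.card_fin]; exact hn
    obtain ⟨c₀, hc₀0, hc₀⟩ := exists_skew hf₀
    have hc₀' : (c₀ : F) + σ c₀ = 0 := congrArg Subtype.val hc₀
    have hc₀0' : (c₀ : F) ≠ 0 := fun h => hc₀0 (Subtype.ext h)
    refine isMaximalIn_of inf_le_right ?_ ?_
    · -- a transvection outside
      obtain ⟨e, he0, hee, -⟩ := exists_generic hf₀ (⊥ : Submodule F₀ (Fin n → F₀)) (by simp; omega)
      simp only [Submodule.mem_bot] at he0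
      have hee' : f (emb e) (emb e) = 0 := congrArg Subtype.val hee
      obtain ⟨d, hde, -, -⟩ := exists_dual_iso hf₀ (⊥ : Submodule F₀ (Fin n → F₀)) (a := e)
        (by simpa using he0) (by simp; omega)
      have hde' : f (emb d) (emb e) = 1 := congrArg Subtype.val hde
      obtain ⟨l, hlr, hl0⟩ : ∃ l, σ l = l ∧ l ∉ F₀ := by
        by_contra h
        push Not at h
        obtain ⟨a, ha, haσ⟩ : ∃ a ∈ F₀, σ a ≠ a := by
          by_contra h'
          push Not at h'
          exact hnefix h'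
        have h1 := card_eq_sq hf₁.involutive F₀ hstab ha haσ
        have h2 := card_eq_sq hf₁.involutive (⊤ : Subfield F)
          (fun x _ => Subfield.mem_top _) (Subfield.mem_top a) haσ
        rw [top_inf_eq, Nat.card_congr Subfield.topEquiv.toEquiv] at h2
        rw [inf_eq_right.2 (show realPart σ ≤ F₀ from fun x hx => h x hx)] at h1
        rw [← h1, hq] at h2
        exact hr.one_lt.ne' (Nat.pow_right_injective (Finite.one_lt_card : 1 < Nat.card F₀)
          (h2.trans (pow_one _).symm))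
      set T := ut f (emb e) (l * c₀)
      have hskew : l * (c₀ : F) + σ (l * c₀) = 0 := by
        rw [map_mul, hlr]; linear_combination l * hc₀'
      refine ⟨P * T * P⁻¹, (hG T).1 (ut_mem_su hf hee' hskew), fun hm => ?_⟩
      have hm' : T ∈ M₀ := by
        have := (hM _).1 (Subgroup.mem_inf.1 hm).1
        simpa [mul_assoc] using this
      obtain ⟨s, hs, hsr⟩ := exists_scaled hm'
      -- the image of a rational vector is `s` times a rational one
      have himg : ∀ x : Fin n → F₀, ∀ i, ((T : Matrix (Fin n) (Fin n) F) *ᵥ emb x) i / s ∈ F₀ := by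
        intro x i
        rw [mulVec, dotProduct, Finset.sum_div]
        refine sum_mem fun j _ => ?_
        rw [mul_div_right_comm]
        exact mul_mem (hsr i j) (x j).2
      obtain ⟨i, hi⟩ := Function.ne_iff.1 he0
      have hi' : (e i : F) ≠ 0 := fun h => hi (Subtype.ext h)
      have hs1 : s ∈ F₀ := by
        have h1 := himg e i
        rw [ut_mulVec hf hee', hee', mul_zero, zero_smul, add_zero] at h1
        have := div_mem (e i).2 h1
        rwa [div_div_cancel₀ hi'] at this
      have h1 := himg d i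
      rw [ut_mulVec hf hee', hde', mul_one] at h1
      have h2 := mul_mem h1 hs1
      rw [div_mul_cancel₀ _ hs, Pi.add_apply, Pi.smul_apply, smul_eq_mul] at h2
      have h3 := div_mem (div_mem (sub_mem h2 (d i).2) (e i).2) c₀.2
      refine hl0 ?_
      convert h3 using 1
      field_simp
      ring
    intro M hMM hMG g hg hgM
    let L := M.comap (MulAut.conj P).toMonoidHom
    let D : Data σ f F₀ L :=
      { σ₀ := σ₀
        σ₀_coe := fun x => rfl
        f₀ := f₀
        f₀_coe := fun u v => rfl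
        hf₀ := hf₀
        hf := hf
        le_su := fun k hk => (hG k).2 (hMG hk)
        rat_mem := fun k hk hrk => by
          show P * k * P⁻¹ ∈ M
          refine hMM (Subgroup.mem_inf.2 ⟨(hM _).2 ?_, (hG k).1 hk⟩)
          have : k ∈ M₀ := Subgroup.mem_sup_left (exists_rat_mat F₀ hrk)
          simpa [mul_assoc] using this }
    set h := P⁻¹ * g * P with hh
    have hhL : h ∈ L := by show P * h * P⁻¹ ∈ M; simpa [hh, mul_assoc] using hg
    have hhM : ¬ ∃ s : F, s ≠ 0 ∧ ∀ i j, (h : Matrix (Fin n) (Fin n) F) i j / s ∈ F₀ := by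
      rintro ⟨s, hs, hsr⟩
      refine hgM (Subgroup.mem_inf.2 ⟨(hM g).2 ?_, hMG hg⟩)
      let z : Matrix.GeneralLinearGroup (Fin n) F :=
        Units.map (Matrix.scalar (Fin n) : F →+* _).toMonoidHom (Units.mk0 s hs)
      have hz : z ∈ Cfsg.Geo.scalars (Fin n) F := ⟨_, rfl⟩
      have hk : h * z⁻¹ ∈ (Matrix.GeneralLinearGroup.map (F₀.subtype : F₀ →+* F)).range := by
        refine exists_rat_mat F₀ fun i j => ?_
        rw [Units.val_mul, show ((z⁻¹ : Matrix.GeneralLinearGroup (Fin n) F) :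
          Matrix (Fin n) (Fin n) F) = Matrix.scalar (Fin n) s⁻¹ from rfl, Matrix.scalar_apply,
          Matrix.mul_diagonal]
        rw [← div_eq_mul_inv]
        exact hsr i j
      have := mul_mem (Subgroup.mem_sup_left hk) (Subgroup.mem_sup_right hz : z ∈ M₀)
      rwa [inv_mul_cancel_right] at this
    obtain ⟨e, hee, hirr⟩ := HermFour.exists_irr_four D (by omega) (D.isom_of_mem hhL) c₀.2 hc₀0' hhM
    have hee' : f (emb e) (emb e) = 0 := D.f_emb_zero hee
    have hT := mul_mem (mul_mem hhL (D.ut_mem hee hc₀)) (inv_mem hhL)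
    rw [SubfieldHerm.ut_conj hf hee' _ (D.isom_of_mem hhL)] at hT
    obtain ⟨b, c', hbb, hb0, hc', hcn, hTb⟩ := HermFour.seed_of_irr D hnc hr hq
      ((mem_isom.mp (D.isom_of_mem hhL) _ _).trans hee') hc₀' hc₀0' hT hirr
    have hall := HermFour.all_centres_of_seed D (by omega) hr
      (fun e2 => by subst e2; exact absurd hro (by decide)) hq hbb hb0 hc' hcn hTb
    refine le_of_centres hF hσ hf₁ (by omega) fun v hv => ⟨hv, fun c hc => ?_⟩
    obtain ⟨x, rfl⟩ := hsurj v
    have hmem : P * ut f x c * P⁻¹ ∈ M := (hall x hv).2 c hc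
    convert hmem using 1
    refine gl_ext fun y => ?_
    obtain ⟨a, rfl⟩ := hsurj y
    rw [Units.val_mul, Units.val_mul, ← mulVec_mulVec, ← mulVec_mulVec, inv_mulVec_mulVec,
      ut_mulVec hf₁ hv, ut_mulVec hf hv, mulVec_add, mulVec_smul])

/-- Clause (6) of the geometric maximal subgroups of `SU 4 q`. -/
theorem oddIndex_maximal {F : Type*} [Field F] [Fintype F] (q : ℕ) (hF : Fintype.card F = q ^ 2) :
    (∀ (F₀ : Subfield F) (r : ℕ) (P : Matrix.GeneralLinearGroup (Fin 4) F), r.Prime → Odd r → Fintype.card F = Nat.card F₀ ^ r → Cfsg.Geo.IsFormRationalStructure (Cfsg.hermForm 4 F q) F₀ 1 P → Cfsg.Geo.IsMaximalIn (Cfsg.GU 4 F q ⊓ Cfsg.Geo.specialLinear (Fin 4) F) (Cfsg.Geo.subfieldSubgroup F₀ P ⊓ (Cfsg.GU 4 F q ⊓ Cfsg.Geo.specialLinear (Fin 4) F))) :=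
  fun F₀ r P hr hro hcard hP =>
    oddIndex_isMaximalIn_four 4 q hF rfl F₀ r hr hro hcard P hP

end Cfsg.Agent.SU4Geo98
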