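import Cfsg.Agent.MaxSub.SubfieldHerm.Main

/-!
Rational centres of an overgroup of a rational unitary group in dimension at least four: one
irrational central parameter gives every unitary transvection.
-/

set_option autoImplicit false
set_option linter.unusedSectionVars false

namespace Cfsg.Agent.SU4Geo98.HermFour

open Matrix Cfsg.Agent.MaxSub Cfsg.Agent.MaxSub.SubfieldHerm Cfsg.Agent.HermStab
open scoped MatrixGroups Classical
open Cfsg.Agent.PLocalB (upper lower)

variable {ι : Type} [Fintype ι] [DecidableEq ι] {F : Type*} [Field F] [Fintype F]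
variable {σ : F ≃+* F} {f : (ι → F) → (ι → F) → F} {F₀ : Subfield F} {L : Subgroup (GL ι F)}
variable (D : Data σ f F₀ L)

theorem good_of_dual {a b d : ι → F₀} (hbb : D.f₀ b b = 0) (hdd : D.f₀ d d = 0)
    (hdb : D.f₀ d b = 0) (hda : D.f₀ d a = 1) (hab : D.f₀ a b = 0) (hb0 : b ≠ 0) :
    Good D d b :=
  ⟨hdd, hbb, hdb, hb0, fun hm => by
    obtain ⟨t, rfl⟩ := Submodule.mem_span_singleton.1 hm
    rw [D.hf₀.smul_left, hswap_zero D.hf₀ hab, mul_zero] at hda
    exact zero_ne_one hda⟩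

theorem exists_dual_good (hn : 4 ≤ Fintype.card ι) {a b : ι → F₀} (h : Good D a b) :
    ∃ d : ι → F₀, D.f₀ d a = 1 ∧ D.f₀ d d = 0 ∧ D.f₀ d b = 0 ∧ Good D d b := by
  obtain ⟨-, hbb, hab, hb0, hn'⟩ := h
  obtain ⟨d, hda, hdd, hdU⟩ := exists_dual_iso D.hf₀ (Submodule.span F₀ {b}) hn'
    (by rw [finrank_span_singleton hb0]; omega)
  have hdb := (hdU b (Submodule.mem_span_singleton_self b)).1
  exact ⟨d, hda, hdd, hdb, good_of_dual D hbb hdd hdb hda hab hb0⟩

/-- Rational elements interchange the two vectors of a good pair. -/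
theorem swap (hn : 4 ≤ Fintype.card ι) {a b : ι → F₀} (h : Good D a b) {c : F}
    (hT : ut f (emb b) c ∈ L) : ut f (emb a) c ∈ L := by
  obtain ⟨d, hdb, hdd, hda, -⟩ := exists_dual_good D hn (h.symm D)
  obtain ⟨d', hda', hdd', hdb', -⟩ := exists_dual_good D hn h
  obtain ⟨haa, hbb, hab, -, -⟩ := h
  have hk := D.sieg_mem hdd (hswap_zero D.hf₀ hda) haa 1
  have hk' := D.sieg_mem hdd' (hswap_zero D.hf₀ hdb') hbb (-1)
  have h1 := mul_mem (mul_mem hk hT) (inv_mem hk)
  rw [ut_conj D.hf (D.f_emb_zero hbb) _ (D.isom_of_mem hk)] at h1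
  have hbd : f (emb b) (emb d) = 1 := by rw [D.hf.herm, D.f_emb, hdb]; simp
  have had : f (emb a) (emb d) = 0 := D.f_emb_zero (hswap_zero D.hf₀ hda)
  have e1 : (sieg f (emb a) (emb d) (1 : F₀) : Matrix ι ι F) *ᵥ emb b = emb b + emb a := by
    rw [sieg_mulVec D.hf (D.f_emb_zero hdd) had, hbd, D.f_emb_zero (hswap_zero D.hf₀ hab)]
    simp
  rw [e1] at h1
  have h2 := mul_mem (mul_mem hk' h1) (inv_mem hk')
  have hba : f (emb b + emb a) (emb b + emb a) = 0 := by
    rw [← emb_add]; exact D.f_emb_zero (by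
      simp [D.hf₀.add_left, hadd_right D.hf₀, haa, hbb, hab, hswap_zero D.hf₀ hab])
  rw [ut_conj D.hf hba _ (D.isom_of_mem hk')] at h2
  have had' : f (emb a) (emb d') = 1 := by rw [D.hf.herm, D.f_emb, hda']; simp
  have hbd' : f (emb b) (emb d') = 0 := D.f_emb_zero (hswap_zero D.hf₀ hdb')
  have e2 : (sieg f (emb b) (emb d') (-1 : F₀) : Matrix ι ι F) *ᵥ (emb b + emb a) = emb a := by
    rw [sieg_mulVec D.hf (D.f_emb_zero hdd') hbd', D.hf.add_left, hbd', had', D.hf.add_left,
      D.f_emb_zero hbb, D.f_emb_zero hab]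
    simp
  rwa [e2] at h2

/-- A central parameter is common to all rational isotropic vectors. -/
theorem transfer (hn : 4 ≤ Fintype.card ι) {b : ι → F₀} (hbb : D.f₀ b b = 0) (hb0 : b ≠ 0) {c : F}
    (hT : ut f (emb b) c ∈ L) {a : ι → F₀} (haa : D.f₀ a a = 0) (ha0 : a ≠ 0) :
    ut f (emb a) c ∈ L := by
  -- a vector good with both
  have key : ∃ w : ι → F₀, Good D a w ∧ Good D w b := by
    by_cases hab : D.f₀ a b = 0
    · by_cases hm : a ∈ Submodule.span F₀ {b}
      · obtain ⟨w, hw, hww, hwU⟩ := exists_generic D.hf₀ (Submodule.span F₀ {b})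
          (by rw [finrank_span_singleton hb0]; omega)
        obtain ⟨t, rfl⟩ := Submodule.mem_span_singleton.1 hm
        have ht : t ≠ 0 := fun e => ha0 (by rw [e, zero_smul])
        have h1 := (hwU b (Submodule.mem_span_singleton_self b))
        have hw0 : w ≠ 0 := fun e => hw (e ▸ zero_mem _)
        refine ⟨w, ⟨haa, hww, by rw [D.hf₀.smul_left, h1.2, mul_zero], hw0, fun hm' => ?_⟩,
          ⟨hww, hbb, h1.1, hb0, hw⟩⟩
        obtain ⟨s, hs⟩ := Submodule.mem_span_singleton.1 hm'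
        have hs0 : s ≠ 0 := fun e => ha0 (by rw [← hs, e, zero_smul])
        refine hw (Submodule.mem_span_singleton.2 ⟨s⁻¹ * t, ?_⟩)
        rw [← smul_smul, ← hs, smul_smul, inv_mul_cancel₀ hs0, one_smul]
      · obtain ⟨w, hw, hww, hwab⟩ : ∃ w, w = a + b ∧ D.f₀ w w = 0 ∧ D.f₀ a w = 0 :=
          ⟨_, rfl, by simp [D.hf₀.add_left, hadd_right D.hf₀, haa, hbb, hab,
            hswap_zero D.hf₀ hab], by simp [hadd_right D.hf₀, haa, hab]⟩
        subst hw
        refine ⟨a + b, ⟨haa, hww, hwab, fun e => hm ?_, fun hm' => hm ?_⟩,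
          ⟨hww, hbb, by rw [D.hf₀.add_left, hab, hbb, add_zero], hb0, fun hm' => hm ?_⟩⟩
        · rw [eq_neg_of_add_eq_zero_left e]; exact neg_mem (Submodule.mem_span_singleton_self b)
        · obtain ⟨s, hs⟩ := Submodule.mem_span_singleton.1 hm'
          have h2 : (1 - s) • a = s • b := by rw [sub_smul, one_smul]; nth_rw 1 [← hs]; module
          rcases eq_or_ne (1 - s) 0 with h3 | h3
          · rw [h3, zero_smul] at h2
            rcases smul_eq_zero.1 h2.symm with h4 | h4
            · rw [h4, sub_zero] at h3; exact absurd h3 one_ne_zero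
            · exact absurd h4 hb0
          · exact Submodule.mem_span_singleton.2 ⟨(1 - s)⁻¹ * s, by
              rw [← smul_smul, ← h2, smul_smul, inv_mul_cancel₀ h3, one_smul]⟩
        · have := sub_mem hm' (Submodule.mem_span_singleton_self b)
          rwa [add_sub_cancel_right] at this
    · -- the orthogonal of the hyperbolic pair
      set U := Submodule.span F₀ {x | x ∈ [a, b]} with hU
      have hd : Module.finrank F₀ U ≤ 2 := finrank_span_list _ le_rfl
      have h1 := card_le_perp D.hf₀ U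
      obtain ⟨w, hw, hw0, hww⟩ := exists_iso_mem D.hf₀ (K := perp D.hf₀ U) (by omega)
      have hwa : D.f₀ w a = 0 := (mem_perp D.hf₀).1 hw a (Submodule.subset_span (by simp))
      have hwb : D.f₀ w b = 0 := (mem_perp D.hf₀).1 hw b (Submodule.subset_span (by simp))
      refine ⟨w, ⟨haa, hww, hswap_zero D.hf₀ hwa, hw0, fun hm' => ?_⟩,
        ⟨hww, hbb, hwb, hb0, fun hm' => ?_⟩⟩
      · obtain ⟨t, rfl⟩ := Submodule.mem_span_singleton.1 hm'
        exact hab (by rw [D.hf₀.smul_left, hwb, mul_zero])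
      · obtain ⟨t, rfl⟩ := Submodule.mem_span_singleton.1 hm'
        have ht : t ≠ 0 := fun e => hw0 (by rw [e, zero_smul])
        rw [D.hf₀.smul_left, mul_eq_zero] at hwa
        exact hab (hswap_zero D.hf₀ (hwa.resolve_left ht))
  obtain ⟨w, h1, h2⟩ := key
  exact swap D hn h1 (swap D hn h2 hT)

/-- Multiplying a parameter by a rational norm. -/
theorem param_norm (hn : 4 ≤ Fintype.card ι) {b : ι → F₀} (hbb : D.f₀ b b = 0) (hb0 : b ≠ 0)
    {c : F} (hT : ut f (emb b) c ∈ L) (s : F₀) : ut f (emb b) (c * σ s * s) ∈ L := by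
  have hfb := D.f_emb_zero hbb
  by_cases hs : s = 0
  · subst hs
    have : ut f (emb b) (c * σ ((0 : F₀) : F) * ((0 : F₀) : F)) = 1 := gl_ext fun x => by
      rw [ut_mulVec D.hf hfb]; simp
    rw [this]; exact one_mem _
  have hsb : D.f₀ (s • b) (s • b) = 0 := by simp [D.hf₀.smul_left, hsmul_right D.hf₀, hbb]
  have h := transfer D hn hbb hb0 hT hsb (smul_ne_zero hs hb0)
  have e : ut f (emb (s • b)) c = ut f (emb b) (c * σ s * s) := gl_ext fun x => by
    rw [emb_smul, ut_mulVec D.hf (by rw [← emb_smul]; exact D.f_emb_zero hsb), ut_mulVec D.hf hfb,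
      hsmul_right D.hf]
    module
  rwa [e] at h

/-- A central parameter gives short root parameters. -/
theorem sieg_of (hn : 4 ≤ Fintype.card ι) {a b : ι → F₀} (h : Good D a b) {c : F}
    (hc : c + σ c = 0) (hT : ut f (emb b) c ∈ L) (s : F₀) :
    sieg f (emb a) (emb b) (c * σ s) ∈ L := by
  obtain ⟨haa, hbb, hab, hb0, hnot⟩ := h
  have hw : D.f₀ (a + s • b) (a + s • b) = 0 := by
    simp [D.hf₀.add_left, hadd_right D.hf₀, D.hf₀.smul_left, hsmul_right D.hf₀, haa, hbb, hab,
      hswap_zero D.hf₀ hab]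
  have hw0 : a + s • b ≠ 0 := fun e => hnot (by
    rw [eq_neg_of_add_eq_zero_left e]
    exact neg_mem (Submodule.smul_mem _ _ (Submodule.mem_span_singleton_self b)))
  have h1 := transfer D hn hbb hb0 hT hw hw0
  rw [emb_add, emb_smul, ut_split D.hf (D.f_emb_zero haa) (D.f_emb_zero hbb)
    (D.f_emb_zero hab) hc] at h1
  refine (Subgroup.mul_mem_cancel_left L (mul_mem ?_ (param_norm D hn hbb hb0 hT s))).1 h1
  exact transfer D hn hbb hb0 hT haa fun e => hnot (e ▸ zero_mem _)

/-- An isotropic partner of an isotropic vector. -/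
theorem exists_good_four (hn : 4 ≤ Fintype.card ι) {b : ι → F₀} (hbb : D.f₀ b b = 0) (hb0 : b ≠ 0) :
    ∃ a : ι → F₀, D.f₀ a a = 0 ∧ D.f₀ a b = 0 ∧ a ∉ Submodule.span F₀ {b} := by
  obtain ⟨a, ha, haa, haU⟩ := exists_generic D.hf₀ (Submodule.span F₀ {b})
    (by rw [finrank_span_singleton hb0]; omega)
  exact ⟨a, haa, (haU b (Submodule.mem_span_singleton_self b)).1, ha⟩

/-- Squares of central parameters, measured against a rational skew element. -/
theorem param_sq (hn : 4 ≤ Fintype.card ι) {b : ι → F₀} (hbb : D.f₀ b b = 0) (hb0 : b ≠ 0)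
    {c₀ : F₀} (hc₀ : c₀ + D.σ₀ c₀ = 0) (hc₀0 : c₀ ≠ 0) {x : F} (hx : σ x = x)
    (hT : ut f (emb b) (c₀ * x) ∈ L) : ut f (emb b) (c₀ * x ^ 2) ∈ L := by
  obtain ⟨a, haa, hab, hnot⟩ := exists_good_four D hn hbb hb0
  have hg : Good D a b := ⟨haa, hbb, hab, hb0, hnot⟩
  obtain ⟨d, hda, hdd, hdb, hgd⟩ := exists_dual_good D hn hg
  have hc0 : (c₀ : F) + σ c₀ = 0 := by rw [← D.σ₀_coe]; exact congrArg Subtype.val hc₀
  have hc0' : (c₀ : F) ≠ 0 := fun e => hc₀0 (Subtype.ext e)
  have hcx : (c₀ : F) * x + σ (c₀ * x) = 0 := by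
    rw [map_mul, hx]; linear_combination x * hc0
  have hsc : σ (((D.σ₀ c₀)⁻¹ : F₀) : F) = ((c₀ : F))⁻¹ := by
    push_cast
    rw [D.σ₀_coe, map_inv₀, D.hf.involutive]
  have hk : sieg f (emb b) (emb d) x ∈ L := by
    have := sieg_of D hn (hgd.symm D) hcx (transfer D hn hbb hb0 hT hdd fun e => by
      rw [e, hzero_left D.hf₀] at hda; exact zero_ne_one hda) (D.σ₀ c₀)⁻¹
    rwa [hsc, mul_right_comm, mul_inv_cancel₀ hc0', one_mul] at this
  have hbd : f (emb b) (emb d) = 0 := D.f_emb_zero (hswap_zero D.hf₀ hdb)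
  have ha0 : a ≠ 0 := fun e => hnot (e ▸ zero_mem _)
  have h1 := mul_mem (mul_mem hk (D.ut_mem haa hc₀)) (inv_mem hk)
  have had : f (emb a) (emb d) = 1 := by rw [D.hf.herm, D.f_emb, hda]; simp
  have e1 : (sieg f (emb b) (emb d) x : Matrix ι ι F) *ᵥ emb a = emb a + x • emb b := by
    rw [sieg_mulVec D.hf (D.f_emb_zero hdd) hbd, had, D.f_emb_zero hab]
    simp
  rw [ut_conj D.hf (D.f_emb_zero haa) _ (D.isom_of_mem hk), e1,
    ut_split D.hf (D.f_emb_zero haa) (D.f_emb_zero hbb) (D.f_emb_zero hab) hc0] at h1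
  have h2 : sieg f (emb a) (emb b) ((c₀ : F) * σ x) ∈ L := by
    have := sieg_of D hn hg hcx hT 1
    rwa [hx, show σ ((1 : F₀) : F) = 1 by simp, mul_one] at *
  have h3 := (Subgroup.mul_mem_cancel_left L (D.ut_mem haa hc₀)).1
    ((Subgroup.mul_mem_cancel_right L h2).1 h1)
  rwa [hx, mul_assoc, ← sq] at h3

theorem ut_param_add (D : Data σ f F₀ L) {v : ι → F} (hv : f v v = 0) (x y : F) :
    ut f v (x + y) = ut f v x * ut f v y := gl_ext fun z => by
  rw [Units.val_mul, ← mulVec_mulVec, ut_mulVec D.hf hv, ut_mulVec D.hf hv, ut_mulVec D.hf hv,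
    D.hf.add_left, D.hf.smul_left, hv, mul_zero, add_zero]
  module

/-- An irrational central parameter at a rational vector makes this vector a centre. -/
theorem centre_of_seed (hn : 4 ≤ Fintype.card ι) {r : ℕ} (hr : r.Prime) (hr2 : r ≠ 2)
    (hq : Nat.card F = Nat.card F₀ ^ r) {b : ι → F₀} (hbb : D.f₀ b b = 0) (hb0 : b ≠ 0) {c : F}
    (hc : c + σ c = 0) (hcn : c ∉ F₀) (hT : ut f (emb b) c ∈ L) : Centre σ f L (emb b) := by
  have hf := D.hf
  refine ⟨D.f_emb_zero hbb, ?_⟩
  obtain ⟨c₀, hc₀0, hc₀⟩ := exists_skew D.hf₀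
  have hc₀' : (c₀ : F) + σ c₀ = 0 := by rw [← D.σ₀_coe]; exact congrArg Subtype.val hc₀
  have hc₀0' : (c₀ : F) ≠ 0 := fun h => hc₀0 (Subtype.ext h)
  have hσc₀ : σ (c₀ : F) = -c₀ := eq_neg_of_add_eq_zero_right hc₀'
  obtain ⟨d, hdb, hdd, -⟩ := exists_dual_iso D.hf₀ (⊥ : Submodule F₀ (ι → F₀)) (a := b)
    (by simpa using hb0) (by simp; omega)
  have hfb := D.f_emb_zero hbb
  have hfd := D.f_emb_zero hdd
  have hdb' : f (emb d) (emb b) = 1 := by rw [D.f_emb, hdb]; simp
  have hbd' : f (emb b) (emb d) = 1 := by rw [hf.herm, hdb', map_one]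
  -- the fields
  let Fq := realPart σ
  let Fq₀ : Subfield Fq := F₀.comap Fq.subtype
  have hstab : ∀ x ∈ F₀, σ x ∈ F₀ := fun x hx => by
    rw [show σ x = D.σ₀ ⟨x, hx⟩ from (D.σ₀_coe ⟨x, hx⟩).symm]; exact SetLike.coe_mem _
  obtain ⟨l, hlF, hlne⟩ : ∃ l ∈ F₀, σ l ≠ l := by
    by_contra h
    push Not at h
    exact D.hf₀.ne_refl (RingEquiv.ext fun x => Subtype.ext ((D.σ₀_coe x).trans (h x x.2)))
  have hcard₀ : Nat.card Fq₀ = Nat.card (F₀ ⊓ realPart σ : Subfield F) :=
    Nat.card_congr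
      { toFun := fun x => ⟨((x : Fq) : F), x.2, (x : Fq).2⟩
        invFun := fun x => ⟨⟨x.1, x.2.2⟩, x.2.1⟩
        left_inv := fun x => rfl
        right_inv := fun x => rfl }
  have hF₀sq := card_eq_sq hf.involutive F₀ hstab hlF hlne
  have hFsq := card_eq_sq hf.involutive (⊤ : Subfield F) (fun x _ => Subfield.mem_top _)
    (Subfield.mem_top l) hlne
  rw [top_inf_eq, Nat.card_congr Subfield.topEquiv.toEquiv] at hFsq
  rw [← hcard₀] at hF₀sq
  have hq₀ : 2 ≤ Nat.card Fq₀ := Finite.one_lt_card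
  have hFq : Nat.card Fq = Nat.card Fq₀ ^ r := by
    refine (Nat.pow_left_injective two_ne_zero ?_ :)
    show Nat.card Fq ^ 2 = (Nat.card Fq₀ ^ r) ^ 2
    rw [← hFsq, hq, hF₀sq, ← pow_mul, ← pow_mul, mul_comm]
  -- the group acting on the plane
  let H : Subgroup SL(2, Fq) :=
    { carrier := {A | ∃ g ∈ L,
        (∀ z, f z (emb b) = 0 → f z (emb d) = 0 → (g : Matrix ι ι F) *ᵥ z = z) ∧
        (g : Matrix ι ι F) *ᵥ ((c₀ : F) • emb b) =
          (A 0 0 : F) • ((c₀ : F) • emb b) + (A 1 0 : F) • emb d ∧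
        (g : Matrix ι ι F) *ᵥ emb d =
          (A 0 1 : F) • ((c₀ : F) • emb b) + (A 1 1 : F) • emb d}
      one_mem' := ⟨1, one_mem _, by simp, by simp, by simp⟩
      mul_mem' := by
        rintro A B ⟨g, hg, gR, g1, g2⟩ ⟨k, hk, kR, k1, k2⟩
        refine ⟨g * k, mul_mem hg hk, fun z h1 h2 => ?_, ?_, ?_⟩
        · rw [Units.val_mul, ← mulVec_mulVec, kR z h1 h2, gR z h1 h2]
        · rw [Units.val_mul, ← mulVec_mulVec, k1, mulVec_add,
            mulVec_smul _ (B 0 0 : F), mulVec_smul _ (B 1 0 : F), g1, g2]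
          simp only [Matrix.SpecialLinearGroup.coe_mul, Matrix.mul_apply, Fin.sum_univ_two]
          push_cast
          module
        · rw [Units.val_mul, ← mulVec_mulVec, k2, mulVec_add,
            mulVec_smul _ (B 0 1 : F), mulVec_smul _ (B 1 1 : F), g1, g2]
          simp only [Matrix.SpecialLinearGroup.coe_mul, Matrix.mul_apply, Fin.sum_univ_two]
          push_cast
          module
      inv_mem' := by
        rintro A ⟨g, hg, gR, g1, g2⟩
        have hd : (A 0 0 : F) * A 1 1 - A 0 1 * A 1 0 = 1 := by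
          have := congrArg (Subtype.val : Fq → F) (PLocalB.det_entries A)
          push_cast at this
          exact this
        have hinv : (A⁻¹ : SL(2, Fq)).1 = !![A 1 1, -A 0 1; -A 1 0, A 0 0] := by
          rw [Matrix.SpecialLinearGroup.coe_inv, Matrix.adjugate_fin_two]
        refine ⟨g⁻¹, inv_mem hg, fun z h1 h2 => ?_, ?_, ?_⟩
        · conv_lhs => rw [← gR z h1 h2]
          exact inv_mulVec_mulVec g z
        · apply mulVec_injective g
          show (g : Matrix ι ι F) *ᵥ _ = (g : Matrix ι ι F) *ᵥ _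
          rw [mulVec_inv_mulVec, mulVec_add, mulVec_smul _ (((A⁻¹ : SL(2, Fq)) 0 0 : Fq) : F),
            mulVec_smul _ (((A⁻¹ : SL(2, Fq)) 1 0 : Fq) : F), g1, g2, hinv]
          simp only [Matrix.of_apply, Matrix.cons_val', Matrix.cons_val_zero, Matrix.cons_val_one,
            Matrix.empty_val', Matrix.cons_val_fin_one, NegMemClass.coe_neg]
          linear_combination (norm := module) -hd • ((c₀ : F) • emb b)
        · apply mulVec_injective g
          show (g : Matrix ι ι F) *ᵥ _ = (g : Matrix ι ι F) *ᵥ _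
          rw [mulVec_inv_mulVec, mulVec_add, mulVec_smul _ (((A⁻¹ : SL(2, Fq)) 0 1 : Fq) : F),
            mulVec_smul _ (((A⁻¹ : SL(2, Fq)) 1 1 : Fq) : F), g1, g2, hinv]
          simp only [Matrix.of_apply, Matrix.cons_val', Matrix.cons_val_zero, Matrix.cons_val_one,
            Matrix.empty_val', Matrix.cons_val_fin_one, NegMemClass.coe_neg]
          linear_combination (norm := module) -hd • emb d }
  let U : AddSubgroup Fq :=
    { carrier := {s | ut f (emb b) ((c₀ : F) * (s : F)) ∈ L}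
      zero_mem' := by
        show ut f (emb b) _ ∈ L
        have : ut f (emb b) ((c₀ : F) * ((0 : Fq) : F)) = 1 := gl_ext fun x => by
          rw [ut_mulVec hf hfb]; simp
        rw [this]; exact one_mem _
      add_mem' := fun {x y} hx hy => by
        show ut f (emb b) ((c₀ : F) * ((x : F) + y)) ∈ L
        rw [mul_add, ut_param_add D hfb]
        exact mul_mem hx hy
      neg_mem' := fun {x} hx => by
        show ut f (emb b) ((c₀ : F) * -(x : F)) ∈ L
        have h1 : ut f (emb b) ((c₀ : F) * x) * ut f (emb b) ((c₀ : F) * -(x : F)) = 1 := by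
          rw [← ut_param_add D hfb]
          exact gl_ext fun z => by rw [ut_mulVec hf hfb]; simp
        rw [eq_inv_of_mul_eq_one_right h1]
        exact inv_mem hx }
  have hupper : ∀ s ∈ U, upper s ∈ H := fun s hs =>
    ⟨_, hs, fun z h1 _ => by rw [ut_mulVec hf hfb, h1, mul_zero, zero_smul, add_zero],
      by rw [ut_mulVec hf hfb, hf.smul_left, hfb]; simp [upper],
      by rw [ut_mulVec hf hfb, hdb', mul_one]; simp [upper, smul_smul, add_comm, mul_comm]⟩
  have hsq : σ ((c₀ : F) * c₀) = (c₀ : F) * c₀ := by rw [map_mul, hσc₀, neg_mul_neg]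
  let α : Fq := ⟨(c₀ : F) * c₀, hsq⟩
  have hlow : lower α ∈ H :=
    ⟨_, D.ut_mem hdd hc₀, fun z _ h2 => by
        rw [ut_mulVec hf hfd, h2, mul_zero, zero_smul, add_zero],
      by rw [ut_mulVec hf hfd, hf.smul_left, hbd', mul_one]; simp [lower, α],
      by rw [ut_mulVec hf hfd, hfd]; simp [lower]⟩
  have hsmul : ∀ k ∈ Fq₀, ∀ s ∈ U, k * s ∈ U := by
    intro k hk s hs
    obtain ⟨μ, hμ⟩ := exists_norm D.hf₀ (r := (⟨((k : Fq) : F), hk⟩ : F₀))
      (Subtype.ext ((D.σ₀_coe _).trans k.2))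
    have h := param_norm D hn hbb hb0 hs μ
    have e : σ (μ : F) * μ = ((k : Fq) : F) := by
      rw [← D.σ₀_coe]; exact congrArg Subtype.val hμ
    show ut f (emb b) ((c₀ : F) * (((k * s : Fq)) : F)) ∈ L
    rw [Subfield.coe_mul]
    convert h using 2
    rw [← e]; ring
  have hσc : σ c = -c := eq_neg_of_add_eq_zero_right hc
  let x : Fq := ⟨c / (c₀ : F), show σ _ = _ by rw [map_div₀, hσc, hσc₀, neg_div_neg_eq]⟩
  have hxc : (c₀ : F) * (x : F) = c := mul_div_cancel₀ _ hc₀0'
  have hxU : x ∈ U := show ut f (emb b) _ ∈ L by rw [hxc]; exact hT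
  have hxn : (x : F) ∉ F₀ := fun h => hcn (hxc ▸ mul_mem c₀.2 h)
  have h1U : (1 : Fq) ∈ U := show ut f (emb b) _ ∈ L by
    rw [show (c₀ : F) * ((1 : Fq) : F) = c₀ by simp]
    exact D.ut_mem hbb hc₀
  have hx2U : x * x ∈ U := show ut f (emb b) _ ∈ L by
    have := param_sq D hn hbb hb0 hc₀ hc₀0 (x := (x : F)) x.2 hxU
    rw [sq] at this
    exact this
  have hUcard : Nat.card Fq₀ ^ 3 ≤ Nat.card U := by
    let Φ : Fq₀ × Fq₀ × Fq₀ → U := fun t =>
      ⟨(t.1 : Fq) * 1 + ((t.2.1 : Fq) * x + (t.2.2 : Fq) * (x * x)),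
        add_mem (hsmul _ t.1.2 _ h1U)
          (add_mem (hsmul _ t.2.1.2 _ hxU) (hsmul _ t.2.2.2 _ hx2U))⟩
    have hΦ : Function.Injective Φ := by
      rintro ⟨p, q, t⟩ ⟨p', q', t'⟩ h
      have h' := congrArg (fun u : U => ((u : Fq) : F)) h
      simp only [Φ, Subfield.coe_add, Subfield.coe_mul, mul_one] at h'
      set P : F₀ := ⟨((p : Fq) : F), p.2⟩ - ⟨((p' : Fq) : F), p'.2⟩ with hP
      set Q : F₀ := ⟨((q : Fq) : F), q.2⟩ - ⟨((q' : Fq) : F), q'.2⟩ with hQ
      set T : F₀ := ⟨((t : Fq) : F), t.2⟩ - ⟨((t' : Fq) : F), t'.2⟩ with hT'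
      have hz : (T : F) * (x : F) ^ 2 + Q * (x : F) + P = 0 := by
        rw [hP, hQ, hT']; push_cast; linear_combination h'
      have hP0 : P = 0 := by
        by_contra hne
        exact hxn (mem_of_quadratic hr hr2 hq hne hz)
      rw [hP0, ZeroMemClass.coe_zero, add_zero] at hz
      have hx0 : (x : F) ≠ 0 := fun e => hxn (e ▸ zero_mem _)
      have hz' : (T : F) * (x : F) + Q = 0 := by
        refine (mul_eq_zero.1 (?_ : ((T : F) * (x : F) + Q) * (x : F) = 0)).resolve_right hx0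
        linear_combination hz
      have hT0 : T = 0 := by
        by_contra hne
        refine hxn ?_
        have : (x : F) = -(Q : F) / T := by
          rw [eq_div_iff fun e => hne (Subtype.ext e)]; linear_combination hz'
        rw [this]; exact div_mem (neg_mem Q.2) T.2
      have hQ0 : Q = 0 := Subtype.ext (by
        rw [hT0, ZeroMemClass.coe_zero, zero_mul, zero_add] at hz'; simpa using hz')
      rw [hP, sub_eq_zero] at hP0
      rw [hQ, sub_eq_zero] at hQ0
      rw [hT', sub_eq_zero] at hT0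
      refine Prod.ext (Subtype.ext (Subtype.ext ?_)) (Prod.ext (Subtype.ext (Subtype.ext ?_))
        (Subtype.ext (Subtype.ext ?_)))
      · exact (congrArg (fun z : F₀ => (z : F)) hP0 :)
      · exact (congrArg (fun z : F₀ => (z : F)) hQ0 :)
      · exact (congrArg (fun z : F₀ => (z : F)) hT0 :)
    have := Nat.card_le_card_of_injective Φ hΦ
    rw [Nat.card_prod, Nat.card_prod] at this
    rw [pow_succ, sq]
    linarith
  obtain ⟨p, hp⟩ := CharP.exists F
  have : Fact p.Prime := ⟨CharP.char_is_prime F p⟩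
  have : CharP Fq p := Fq.subtype.charP Subtype.val_injective p
  have hpq : p ≤ Nat.card Fq₀ := by
    have : CharP Fq₀ p := Fq₀.subtype.charP Subtype.val_injective p
    have := Fintype.ofFinite Fq₀
    obtain ⟨m, hm⟩ := FiniteField.card Fq₀ p
    rw [Nat.card_eq_fintype_card, hm.2]
    exact Nat.le_self_pow m.2.ne' p
  have hq3 : Nat.card Fq₀ * 4 ≤ Nat.card Fq₀ ^ 3 := by
    rw [show Nat.card Fq₀ ^ 3 = Nat.card Fq₀ * Nat.card Fq₀ ^ 2 by rw [← pow_succ']]
    exact Nat.mul_le_mul_left _ (by simpa using Nat.pow_le_pow_left hq₀ 2)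
  have hnr : ∃ s ∈ U, α * s ∉ Fq₀ := by
    refine ⟨x, hxU, fun h => hxn ?_⟩
    have h2 : (c₀ : F) * c₀ * (x : F) ∈ F₀ := h
    rw [← mul_div_cancel_left₀ (x : F) (mul_ne_zero hc₀0' hc₀0')]
    exact div_mem h2 (mul_mem c₀.2 c₀.2)
  have hfull := SubfieldMax.sl2_full p Fq₀ (prime_index Fq₀ hr hFq) H U hupper hsmul (by omega)
    (by omega) hlow hnr
  -- every upper transvection is induced
  have hup : ∀ t : Fq, upper t ∈ H := by
    intro t
    by_cases h2 : (2 : Fq) = 0
    · rcases hfull (upper t) with h | h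
      · exact h
      · have : -(upper t) = upper t := Subtype.ext (by
          rw [Matrix.SpecialLinearGroup.coe_neg]
          refine Matrix.ext fun i j => ?_
          rw [Matrix.neg_apply, eq_comm, eq_neg_iff_add_eq_zero, ← two_mul, h2, zero_mul])
        rwa [this] at h
    · have hhalf : t / 2 + t / 2 = t := by rw [← add_div, ← two_mul, mul_div_cancel_left₀ _ h2]
      rcases hfull (upper (t / 2)) with h | h <;> have h' := mul_mem h h
      · rwa [PLocalB.upper_mul, hhalf] at h'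
      · rwa [neg_mul_neg, PLocalB.upper_mul, hhalf] at h'
  intro e he
  let t : Fq := ⟨e / (c₀ : F), show σ _ = _ by
    rw [map_div₀, eq_neg_of_add_eq_zero_right he, hσc₀, neg_div_neg_eq]⟩
  obtain ⟨g, hg, gR, g1, g2⟩ := hup t
  simp [upper] at g1 g2
  have hgb : (g : Matrix ι ι F) *ᵥ emb b = emb b := by
    have := congrArg (fun v => ((c₀ : F))⁻¹ • v) g1
    simpa [mulVec_smul, smul_smul, hc₀0'] using this
  have heq : g = ut f (emb b) e := gl_ext fun z => by
    set z' := z - f z (emb d) • emb b - f z (emb b) • emb d with hz'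
    have h1 : f z' (emb b) = 0 := by
      rw [hz', hsub_left hf, hsub_left hf, hf.smul_left, hf.smul_left, hfb, hdb']; ring
    have h2 : f z' (emb d) = 0 := by
      rw [hz', hsub_left hf, hsub_left hf, hf.smul_left, hf.smul_left, hfd, hbd']; ring
    have hz : z = z' + f z (emb d) • emb b + f z (emb b) • emb d := by rw [hz']; abel
    conv_lhs => rw [hz, mulVec_add, mulVec_add, mulVec_smul, mulVec_smul, gR z' h1 h2, hgb, g2]
    rw [ut_mulVec hf hfb, hz', show (t : F) = e / c₀ from rfl, smul_smul, div_mul_cancel₀ _ hc₀0']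
    module
  exact heq ▸ hg

/-- An irrational central parameter gives all centres. -/
theorem all_centres_of_seed (hn : 4 ≤ Fintype.card ι) {r : ℕ} (hr : r.Prime) (hr2 : r ≠ 2)
    (hq : Nat.card F = Nat.card F₀ ^ r) {b : ι → F₀} (hbb : D.f₀ b b = 0) (hb0 : b ≠ 0) {c : F}
    (hc : c + σ c = 0) (hcn : c ∉ F₀) (hT : ut f (emb b) c ∈ L) :
    ∀ v, f v v = 0 → Centre σ f L v := by
  have hcb := centre_of_seed D hn hr hr2 hq hbb hb0 hc hcn hT
  have hcen : ∀ a : ι → F₀, D.f₀ a a = 0 → a ≠ 0 → Centre σ f L (emb a) := fun a haa ha0 =>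
    ⟨D.f_emb_zero haa, fun c hc => transfer D hn hbb hb0 (hcb.2 c hc) haa ha0⟩
  obtain ⟨c₀, hc₀0, hc₀⟩ := exists_skew D.hf₀
  have hc₀' : (c₀ : F) + σ c₀ = 0 := by rw [← D.σ₀_coe]; exact congrArg Subtype.val hc₀
  have hc₀0' : (c₀ : F) ≠ 0 := fun h => hc₀0 (Subtype.ext h)
  -- all short root elements
  have hall : ∀ (t : F) (a e : ι → F₀), Good D a e → sieg f (emb a) (emb e) t ∈ L := by
    intro t a e h
    obtain ⟨l, hlne⟩ : ∃ l : F₀, σ (l : F) ≠ l := by
      by_contra h
      push Not at h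
      exact D.hf₀.ne_refl (RingEquiv.ext fun x => Subtype.ext ((D.σ₀_coe x).trans (h x)))
    have hd : σ (l : F) - l ≠ 0 := sub_ne_zero.2 hlne
    have hq1 : σ ((t - σ t) / (σ (l : F) - l)) = (t - σ t) / (σ (l : F) - l) := by
      rw [map_div₀, map_sub, map_sub, D.hf.involutive, D.hf.involutive, ← neg_sub t, ←
        neg_sub (σ (l : F)) (l : F), neg_div_neg_eq]
    set u := (t - σ t) / (σ (l : F) - l) with hu
    -- `t = w + σ l * u` with real `u` and `w`
    have hw : σ (t - σ (l : F) * u) = t - σ (l : F) * u := by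
      rw [map_sub, map_mul, hq1, D.hf.involutive]
      linear_combination (div_mul_cancel₀ (t - σ t) hd)
    have hsk : ∀ w : F, σ w = w → (c₀ : F) * w + σ (c₀ * w) = 0 := fun w hw => by
      rw [map_mul, hw]; linear_combination w * hc₀'
    have hsc : σ (((D.σ₀ c₀)⁻¹ : F₀) : F) = ((c₀ : F))⁻¹ := by
      push_cast
      rw [D.σ₀_coe, map_inv₀, D.hf.involutive]
    have he := hcen e h.2.1 h.2.2.2.1
    have h1 := sieg_of D hn h (hsk _ hw) (he.2 _ (hsk _ hw)) (D.σ₀ c₀)⁻¹
    have h2 := sieg_of D hn h (hsk u hq1) (he.2 _ (hsk u hq1)) (l * (D.σ₀ c₀)⁻¹)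
    rw [hsc, mul_right_comm, mul_inv_cancel₀ hc₀0', one_mul] at h1
    rw [Subfield.coe_mul, map_mul, hsc,
      show (c₀ : F) * u * (σ (l : F) * (c₀ : F)⁻¹) = σ (l : F) * u by field_simp] at h2
    have h3 := mul_mem h1 h2
    have e3 : sieg f (emb a) (emb e) (t - σ (l : F) * u) * sieg f (emb a) (emb e) (σ (l : F) * u) =
        sieg f (emb a) (emb e) t := by
      refine gl_ext fun x => ?_
      have hee := D.f_emb_zero h.2.1
      have hae := D.f_emb_zero h.2.2.1
      rw [Units.val_mul, ← mulVec_mulVec, sieg_mulVec D.hf hee hae, sieg_mulVec D.hf hee hae,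
        sieg_mulVec D.hf hee hae]
      simp only [D.hf.add_left, hsub_left D.hf, D.hf.smul_left, hee, hae, D.f_emb_zero h.1,
        hswap_zero D.hf hae, map_sub]
      module
    rwa [e3] at h3
  obtain ⟨e, he0, hee, -⟩ := exists_generic D.hf₀ (⊥ : Submodule F₀ (ι → F₀)) (by simp; omega)
  simp only [Submodule.mem_bot] at he0
  have hce := hcen e hee he0
  have hhe : f (emb e) (emb e) = 0 := D.f_emb_zero hee
  obtain ⟨y, hye, hyy, -⟩ := exists_dual_iso D.hf₀ (⊥ : Submodule F₀ (ι → F₀)) (a := e)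
    (by simpa using he0) (by simp; omega)
  have hy0 : y ≠ 0 := fun h => by simp [h, hzero_left D.hf₀] at hye
  refine centre_of_radical_any D.hf hce (fun w b hwe hb => ?_)
    (hcen y hyy hy0) (by rw [D.f_emb, hye]; simp)
  let P : AddSubgroup (ι → F) :=
    { carrier := {w | f w (emb e) = 0 ∧ ∃ b, b + σ b = -f w w ∧ qe f (emb e) w b ∈ L}
      zero_mem' := ⟨hzero_left D.hf _, 0, by simp [hzero_left D.hf], by
        rw [qe_zero_eq_ut D.hf hhe]; exact hce.2 0 (by simp)⟩
      add_mem' := by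
        rintro u v ⟨hu, bu, hbu, mu⟩ ⟨hv, bv, hbv, mv⟩
        refine ⟨by rw [D.hf.add_left, hu, hv, add_zero], bu + bv - f v u, ?_, ?_⟩
        · rw [map_sub, map_add, ← D.hf.herm, D.hf.add_left, hadd_right D.hf, hadd_right D.hf]
          linear_combination hbu + hbv
        · rw [← qe_add D.hf hhe hu hv]; exact mul_mem mu mv
      neg_mem' := by
        rintro u ⟨hu, bu, hbu, mu⟩
        have hnu : f (-u) (emb e) = 0 := by rw [← neg_one_smul F u, D.hf.smul_left, hu, mul_zero]
        have hnn : f (-u) (-u) = f u u := by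
          rw [← neg_one_smul F u, D.hf.smul_left, hsmul_right D.hf]; simp
        refine ⟨hnu, σ bu, by rw [hnn, D.hf.involutive]; linear_combination hbu, ?_⟩
        have h1 : qe f (emb e) u bu * qe f (emb e) (-u) (σ bu) = ut f (emb e) 0 := by
          rw [qe_add D.hf hhe hu hnu, add_neg_cancel, qe_zero_eq_ut D.hf hhe,
            ← neg_one_smul F u, D.hf.smul_left]
          congr 1
          linear_combination hbu
        have h0 : ut f (emb e) 0 ∈ L := hce.2 0 (by simp)
        rw [← h1] at h0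
        exact (Subgroup.mul_mem_cancel_left L mu).1 h0 }
  -- scalar multiples of rational isotropic vectors
  have hiso : ∀ a : ι → F₀, D.f₀ a a = 0 → D.f₀ a e = 0 → ∀ t : F, t • emb a ∈ P := by
    intro a ha hae t
    have h1 : f (t • emb a) (emb e) = 0 := by rw [D.hf.smul_left, D.f_emb_zero hae, mul_zero]
    refine ⟨h1, 0, ?_, ?_⟩
    · rw [D.hf.smul_left, hsmul_right D.hf, D.f_emb_zero ha]; simp
    by_cases hspan : a ∈ Submodule.span F₀ {e}
    · obtain ⟨q, rfl⟩ := Submodule.mem_span_singleton.1 hspan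
      have : qe f (emb e) (t • emb (q • e)) 0 = ut f (emb e) (t * q - σ (t * q)) :=
        gl_ext fun x => by
          rw [qe_mulVec D.hf hhe h1, ut_mulVec D.hf hhe, emb_smul]
          simp only [smul_smul, hsmul_right D.hf, map_mul]
          module
      rw [this]
      exact hce.2 _ (by rw [map_sub, D.hf.involutive]; ring)
    · exact hall t a e ⟨ha, hee, hae, he0, hspan⟩
  have hrat : ∀ a : ι → F₀, D.f₀ a e = 0 → ∀ t : F, t • emb a ∈ P := by
    intro a hae t
    by_cases hspan : a ∈ Submodule.span F₀ {e}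
    · refine hiso a ?_ hae t
      obtain ⟨q, rfl⟩ := Submodule.mem_span_singleton.1 hspan
      simp [D.hf₀.smul_left, hsmul_right D.hf₀, hee]
    have hs : Module.finrank F₀ (Submodule.span F₀ {e}) ≤ 1 := (finrank_span_singleton he0).le
    obtain ⟨z, hza, hzz, hzU⟩ := exists_dual_iso D.hf₀ (Submodule.span F₀ {e}) hspan (by omega)
    have hze := (hzU e (Submodule.mem_span_singleton_self e)).1
    obtain ⟨s, hs'⟩ := exists_trace D.hf₀ (r := -D.f₀ a a) (by rw [map_neg, ← D.hf₀.herm])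
    have hy : D.f₀ (a + s • z) (a + s • z) = 0 := by
      rw [D.hf₀.add_left, hadd_right D.hf₀, hadd_right D.hf₀, D.hf₀.smul_left,
        hsmul_right D.hf₀, D.hf₀.smul_left, hsmul_right D.hf₀, hzz, hza, D.hf₀.herm a z, hza,
        map_one]
      linear_combination hs'
    have := sub_mem (hiso (a + s • z) hy
      (by rw [D.hf₀.add_left, D.hf₀.smul_left, hae, hze, mul_zero, add_zero]) t)
      (hiso z hzz hze (t * s))
    rwa [emb_add, emb_smul, smul_add, smul_smul, add_sub_cancel_right] at this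
  have hwP : w ∈ P := by
    have hw : w = ∑ i, w i • emb (Pi.single i (1 : F₀) - D.f₀ (Pi.single i 1) e • y) := by
      have hsum : ∑ i, w i • emb (Pi.single i (1 : F₀) - D.f₀ (Pi.single i 1) e • y) =
          w - f w (emb e) • emb y := by
        have he1 : ∀ i, emb (Pi.single i (1 : F₀)) = Pi.single i (1 : F) := fun i => funext fun l => by
          show ((Pi.single i (1 : F₀) : ι → F₀) l : F) = _
          rw [Pi.single_apply, Pi.single_apply]
          split_ifs <;> rfl
        have h1 : ∑ i, w i • (Pi.single i (1 : F) : ι → F) = w := (pi_eq_sum_univ' w).symm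
        have h2 : f w (emb e) = ∑ i, w i * f (Pi.single i (1 : F)) (emb e) := by
          conv_lhs => rw [← h1, ← hl_apply D.hf, map_sum]
          simp [D.hf.smul_left]
        rw [h2, Finset.sum_smul]
        simp only [emb_sub, emb_smul, he1, smul_sub, smul_smul, Finset.sum_sub_distrib]
        rw [h1]
        congr 1
        exact Finset.sum_congr rfl fun i _ => by rw [← D.f_emb, he1]
      rw [hsum, hwe, zero_smul, sub_zero]
    rw [hw]
    refine sum_mem fun i _ => hrat _ ?_ _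
    rw [hsub_left D.hf₀, D.hf₀.smul_left, hye, mul_one, sub_self]
  obtain ⟨-, b₀, hb₀, hm⟩ := hwP
  have hd : b - b₀ + σ (b - b₀) = 0 := by rw [map_sub]; linear_combination hb - hb₀
  have h2 := mul_mem hm (hce.2 _ hd)
  rw [← qe_zero_eq_ut D.hf hhe, qe_add D.hf hhe hwe (hzero_left D.hf _), add_zero,
    hzero_left D.hf, sub_zero, add_sub_cancel] at h2
  exact h2


end Cfsg.Agent.SU4Geo98.HermFour
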