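import Cfsg.Agent.UDec18.Six

/-!
Lines in dimension four, `q ≥ 4`: without coordinate images everything is monomial (helper99,
after a plan of helper98).
-/

set_option autoImplicit false
set_option linter.unusedSectionVars false

namespace Cfsg.Agent.SU4Geo98.LinesFour

open Matrix Cfsg.Agent.MaxSub Cfsg.Agent.HermStab Cfsg.Agent.UDec18
open Finset (univ)

variable {F : Type*} [Field F] [Fintype F] {q : ℕ}
variable {σ : F ≃+* F} {f : (Fin 4 → F) → (Fin 4 → F) → F} {M : Subgroup (GL (Fin 4) F)}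

local notation:73 g:74 " ◆ " x:73 => (Units.val g) *ᵥ x

/-- A diagonal map that is monomial in the frame of the columns of `g`. -/
def Rel (g : GL (Fin 4) F) (ν : Fin 4 → F) : Prop :=
  ∃ (p : Equiv.Perm (Fin 4)) (μ : Fin 4 → F), (∀ b, μ b ≠ 0) ∧
    ∀ r b, ν r * (g ◆ e b) r = μ b * (g ◆ e (p b)) r

theorem col_eq_imp {g : GL (Fin 4) F} {α β : F} (hα : α ≠ 0) {c d : Fin 4}
    (h : ∀ r, α * (g ◆ e c) r = β * (g ◆ e d) r) : c = d := by
  by_contra hcd
  have h1 : g ◆ (α • e c) = g ◆ (β • e d) := funext fun r => by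
    rw [mulVec_smul, mulVec_smul]; exact h r
  have := congrFun (mulVec_injective g h1) c
  simp [e, hcd] at this
  exact hα this

theorem perm_three_cycle : ∀ (p : Equiv.Perm (Fin 4)) (i : Fin 4), p i = i →
    (¬ ∀ a, p (p a) = a) → ∀ a, a ≠ i → p a ≠ a := by decide

theorem perm_commute : ∀ p p' : Equiv.Perm (Fin 4), (∀ a, p (p' a) = p' (p a)) →
    (¬ ∀ a, p (p a) = a) → (¬ ∀ a, p' (p' a) = a) → (∀ a, p' a = p a) ∨ ∀ a, p' (p a) = a := by
  decide

/-- Two diagonal maps of this kind, independent enough, cannot both exist. -/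
theorem key {g : GL (Fin 4) F} (hnz : ∀ r b, (g ◆ e b) r ≠ 0) {ν ν' : Fin 4 → F} (h : Rel g ν)
    (h' : Rel g ν') (h1 : ∃ r s, ν r * ν r ≠ ν s * ν s) (h2 : ∃ r s, ν' r * ν' r ≠ ν' s * ν' s)
    (h3 : ∃ r s, ν r * ν' r ≠ ν s * ν' s) (h4 : ∃ r s, ν r * ν' s ≠ ν s * ν' r) : False := by
  obtain ⟨p, μ, hμ, hp⟩ := h
  obtain ⟨p', μ', hμ', hp'⟩ := h'
  have sq : ∀ (ν μ : Fin 4 → F) (p : Equiv.Perm (Fin 4)),
      (∀ r b, ν r * (g ◆ e b) r = μ b * (g ◆ e (p b)) r) →
      (∃ r s, ν r * ν r ≠ ν s * ν s) → ¬ ∀ a, p (p a) = a := by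
    intro ν μ p hp ⟨r, s, hne⟩ hinv
    have hc : ∀ r, ν r * ν r = μ 0 * μ (p 0) := fun r => mul_right_cancel₀ (hnz r 0) (by
      rw [mul_assoc, hp, ← mul_assoc, mul_comm (ν r), mul_assoc, hp, hinv, mul_assoc])
    exact hne (by rw [hc, hc])
  have hcomm : ∀ a, p (p' a) = p' (p a) := fun a =>
    col_eq_imp (g := g) (mul_ne_zero (hμ' a) (hμ (p' a))) (β := μ a * μ' (p a)) fun r => by
      linear_combination -μ' a * hp r (p' a) - ν r * hp' r a + μ a * hp' r (p a) + ν' r * hp r a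
  rcases perm_commute p p' hcomm (sq ν μ p hp h1) (sq ν' μ' p' hp' h2) with he | he
  · obtain ⟨r, s, hne⟩ := h4
    have hc : ∀ r, ν r * μ' 0 = ν' r * μ 0 := fun r => mul_right_cancel₀ (hnz r 0) (by
      rw [mul_comm (ν r), mul_assoc, hp, mul_comm (ν' r), mul_assoc, hp', he]
      ring)
    refine hne (mul_right_cancel₀ (hμ 0) ?_)
    linear_combination ν s * hc r - ν r * hc s
  · obtain ⟨r, s, hne⟩ := h3
    have hc : ∀ r, ν r * ν' r = μ 0 * μ' (p 0) := fun r => mul_right_cancel₀ (hnz r 0) (by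
      rw [mul_comm (ν r), mul_assoc, hp, ← mul_assoc, mul_comm (ν' r), mul_assoc, hp', he,
        mul_assoc])
    exact hne (by rw [hc, hc])

variable (S : Std q σ f)
include S

theorem torus (hH : ∀ h ∈ su f, Mono h → h ∈ M) (ν : Fin 4 → F) (hν : ∀ a, ν a * σ (ν a) = 1)
    (hprod : ∏ a, ν a = 1) : ∃ t ∈ M, ∀ (y : Fin 4 → F) a, (t ◆ y) a = ν a * y a := by
  obtain ⟨t, hti, hte, htd⟩ := S.exists_mono 1 ν hν
  simp only [Equiv.Perm.coe_one, id_eq] at hte
  refine ⟨t, hH t ⟨hti, (mem_special_iff S).mpr (by simpa [hprod] using htd)⟩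
    (mono_of_perm 1 fun a => ⟨_, hte a⟩), fun y a => ?_⟩
  exact mono_ap_coord (π := 1) (fun a => hte a) y a

theorem row_ne (g : GL (Fin 4) F) (l : Fin 4) : ∃ b, (g ◆ e b) l ≠ 0 := by
  by_contra hc
  simp only [not_exists, not_not] at hc
  have h := congrFun (mulVec_inv_mulVec g (e l : Fin 4 → F)) l
  rw [ap_eq_sum g, Finset.sum_apply, Finset.sum_eq_zero fun b _ => by
    rw [Pi.smul_apply, hc, smul_zero]] at h
  simp [e] at h

/-- No column of a non-monomial element has two zeros. -/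
theorem two_zeros (h4 : 4 ≤ q) (hH : ∀ h ∈ su f, Mono h → h ∈ M) (NC : NoCoord M)
    {g : GL (Fin 4) F} (hg : g ∈ M) (hgn : ¬ Mono g) {i l m : Fin 4} (hlm : l ≠ m)
    (hl : (g ◆ e i) l = 0) (hm : (g ◆ e i) m = 0) : False := by
  classical
  obtain ⟨ρ, hρ, hord⟩ := S.exists_gen
  have hρ0 : ρ ≠ 0 := fun h => by simp [h] at hρ
  set ν : Fin 4 → F := Function.update (Function.update 1 l ρ) m ρ⁻¹ with hν
  obtain ⟨t, htM, ht⟩ := torus S hH ν (fun a => by
    by_cases h : a = m
    · subst h; rw [hν, Function.update_self, map_inv₀, ← mul_inv, hρ, inv_one]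
    · by_cases h' : a = l
      · subst h'; simpa [hν, h] using hρ
      · simp [hν, h, h']) (by
    rw [Fintype.prod_eq_mul l m hlm (fun a ha => by simp [hν, ha.1, ha.2]), hν, Function.update_self,
      Function.update_of_ne hlm, Function.update_self, mul_inv_cancel₀ hρ0])
  set x := g⁻¹ * t * g with hx
  have hgx : ∀ y, g ◆ x ◆ y = t ◆ g ◆ y := fun y => by
    rw [hx, ap_mul, ap_mul, mulVec_inv_mulVec]
  have hxi : x ◆ e i = (1 : F) • e i := mulVec_injective g (funext fun a => by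
    show (g ◆ x ◆ e i) a = (g ◆ ((1 : F) • e i)) a
    rw [one_smul, hgx, ht]
    by_cases h : a = m
    · subst h; rw [hm, mul_zero]
    · by_cases h' : a = l
      · subst h'; rw [hl, mul_zero]
      · simp [hν, h, h'])
  obtain ⟨p, μ, hp⟩ :=
    (NC x (mul_mem (mul_mem (inv_mem hg) htM) hg) i i 1 hxi).exists_perm
  have hrel : ∀ r b, ν r * (g ◆ e b) r = μ b * (g ◆ e (p b)) r := fun r b => by
    rw [← ht, ← hgx, (hp b).2, mulVec_smul, Pi.smul_apply, smul_eq_mul]
  have hpi : p i = i ∧ μ i = 1 := by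
    have h := hxi
    rw [(hp i).2, one_smul] at h
    have h' := congrFun h (p i)
    by_cases hh : p i = i
    · refine ⟨hh, ?_⟩
      simpa [e, hh] using h'
    · exact absurd (by simpa [e, hh] using h') (hp i).1
  by_cases hinv : ∀ a, p (p a) = a
  · obtain ⟨b, hb⟩ := row_ne S g l
    refine hgn (NC g hg b l ((g ◆ e b) l) (funext fun r => ?_))
    by_cases hrl : r = l
    · subst hrl; simp [e]
    rw [Pi.smul_apply, show (e l : Fin 4 → F) r = 0 by simp [e, hrl], smul_zero]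
    by_contra hr
    have hc : ∀ r, (g ◆ e b) r ≠ 0 → ν r * ν r = μ b * μ (p b) := fun r hr => mul_right_cancel₀ hr
      (by rw [mul_assoc, hrel, ← mul_assoc, mul_comm (ν r), mul_assoc, hrel, hinv, mul_assoc])
    have h := (hc l hb).trans (hc r hr).symm
    rw [show ν l = ρ by simp [hν, hlm]] at h
    by_cases hrm : r = m
    · rw [show ν r = ρ⁻¹ by simp [hν, hrm]] at h
      field_simp at h
      exact absurd (hord 4 (by norm_num) (by linear_combination h)) (by omega)
    · rw [show ν r = 1 by simp [hν, hrm, hrl], one_mul] at h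
      exact absurd (hord 2 (by norm_num) (by linear_combination h)) (by omega)
  · have hmove := perm_three_cycle p i hpi.1 hinv
    have htrace : Matrix.trace (x : Matrix (Fin 4) (Fin 4) F) =
        Matrix.trace (t : Matrix (Fin 4) (Fin 4) F) := by
      rw [hx, Units.val_mul, Units.val_mul]
      exact Matrix.trace_units_conj' g _
    have ecol : ∀ (u : GL (Fin 4) F) a, (u ◆ e a) a = (u : Matrix (Fin 4) (Fin 4) F) a a :=
      fun u a => by simp [e]
    simp only [Matrix.trace, diag_apply, ← ecol] at htrace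
    rw [Finset.sum_eq_single i (fun a _ ha => by simp [(hp a).2, e, Ne.symm (hmove a ha)])
      (by simp), (hp i).2, hpi.1, hpi.2] at htrace
    simp only [ht] at htrace
    rw [Finset.sum_congr rfl fun a _ => show ν a * (e a : Fin 4 → F) a =
        1 + (if a = l then ρ - 1 else 0) + (if a = m then ρ⁻¹ - 1 else 0) by
      by_cases h : a = m
      · subst h; simp [hν, e, Ne.symm hlm]
      · by_cases h' : a = l
        · subst h'; simp [hν, e, h]
        · simp [hν, e, h, h']] at htrace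
    simp [Finset.sum_add_distrib, e] at htrace
    field_simp at htrace
    exact absurd (hord 3 (by norm_num) (by linear_combination (1 - ρ) * htrace)) (by omega)

/-- A non-monomial element has no zero entries. -/
theorem no_zero (h4 : 4 ≤ q) (hH : ∀ h ∈ su f, Mono h → h ∈ M) (NC : NoCoord M)
    {g : GL (Fin 4) F} (hg : g ∈ M) (hgn : ¬ Mono g) (i l : Fin 4) : (g ◆ e i) l ≠ 0 := by
  classical
  intro hl
  obtain ⟨ρ, hρ, hord⟩ := S.exists_gen
  have hρ0 : ρ ≠ 0 := fun h => by simp [h] at hρ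
  set d := (ρ ^ 3)⁻¹ with hd
  have hdρ : d ≠ ρ := fun h => by
    rw [hd] at h
    field_simp at h
    exact absurd (hord 4 (by norm_num) (by linear_combination -h)) (by omega)
  set ν : Fin 4 → F := Function.update (fun _ => ρ) l d with hν
  obtain ⟨t, htM, ht⟩ := torus S hH ν (fun a => by
    by_cases h : a = l
    · subst h
      rw [hν, Function.update_self, hd, map_inv₀, map_pow, ← mul_inv, ← mul_pow, hρ, one_pow,
        inv_one]
    · simpa [hν, h] using hρ) (by
    rw [hν, Finset.prod_update_of_mem (Finset.mem_univ l), Finset.prod_const, Finset.card_sdiff]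
    simp [hd, hρ0])
  have hty : ∀ y : Fin 4 → F, t ◆ y = ρ • y + ((d - ρ) * y l) • e l := fun y => funext fun a => by
    rw [ht]
    by_cases h : a = l
    · subst h; simp [hν, e]; ring
    · simp [hν, e, h]
  set x := g⁻¹ * t * g with hx
  set w := (g⁻¹ : GL (Fin 4) F) ◆ e l with hw
  have hxy : ∀ y, x ◆ y = ρ • y + ((d - ρ) * (g ◆ y) l) • w := fun y => by
    rw [hx, ap_mul, ap_mul, hty, mulVec_add, mulVec_smul, mulVec_smul, inv_mulVec_mulVec]
  obtain ⟨p, μ, hp⟩ := (NC x (mul_mem (mul_mem (inv_mem hg) htM) hg) i i ρ (by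
    rw [hxy, hl, mul_zero, zero_smul, add_zero])).exists_perm
  by_cases hfix : ∀ a, p a = a
  · obtain ⟨b, hb⟩ := row_ne S g l
    refine hgn (NC g hg b l ((g ◆ e b) l) (funext fun r => ?_))
    by_cases hrl : r = l
    · subst hrl; simp [e]
    rw [Pi.smul_apply, show (e l : Fin 4 → F) r = 0 by simp [e, hrl], smul_zero]
    by_contra hr
    have hc : ∀ r, (g ◆ e b) r ≠ 0 → ν r = μ b := fun r hr => mul_right_cancel₀ hr (by
      rw [← ht, show t ◆ g ◆ e b = g ◆ x ◆ e b by rw [hx, ap_mul, ap_mul, mulVec_inv_mulVec],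
        (hp b).2, hfix, mulVec_smul, Pi.smul_apply, smul_eq_mul])
    refine hdρ ?_
    have h := (hc l hb).trans (hc r hr).symm
    simpa [hν, hrl] using h
  simp only [not_forall] at hfix
  obtain ⟨a, ha⟩ := hfix
  have hxa := (hp a).2.symm.trans (hxy (e a))
  have hs : (d - ρ) * (g ◆ e a) l ≠ 0 := fun h => by
    rw [h, zero_smul, add_zero] at hxa
    have := congrFun hxa (p a)
    simp [e, ha] at this
    exact (hp a).1 this
  have hwr : ∀ r, r ≠ a → r ≠ p a → w r = 0 := fun r h1 h2 => by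
    have := congrFun hxa r
    simp [e, h1, h2] at this
    rcases this with h | h
    · exact absurd h (by simpa [e] using hs)
    · exact h
  obtain ⟨m₁, hm₁, m₂, hm₂, hne⟩ := Finset.one_lt_card.mp
    (show 1 < (univ \ ({a, p a} : Finset (Fin 4))).card by
      have hi : (({a, p a} : Finset (Fin 4)) ∩ univ).card ≤ 2 :=
        (Finset.card_le_card Finset.inter_subset_left).trans Finset.card_le_two
      rw [Finset.card_sdiff, Finset.card_univ, Fintype.card_fin]
      omega)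
  simp only [Finset.mem_sdiff, Finset.mem_univ, true_and, Finset.mem_insert, Finset.mem_singleton,
    not_or] at hm₁ hm₂
  exact two_zeros S h4 hH NC (inv_mem hg) (fun h => hgn (by simpa using h.inv)) hne
    (hwr _ hm₁.1 hm₁.2) (hwr _ hm₂.1 hm₂.2)

/-- Two monomial maps moving the first column to orthogonal vectors give a diagonal relation. -/
theorem rel_of_pair (h4 : 4 ≤ q) (hH : ∀ h ∈ su f, Mono h → h ∈ M) (hMG : M ≤ su f)
    (NC : NoCoord M) {g : GL (Fin 4) F} (hg : g ∈ M) (π : Equiv.Perm (Fin 4))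
    (hsign : Equiv.Perm.sign π = 1) (α α' : Fin 4 → F) (hα : ∀ a, α a * σ (α a) = 1)
    (hα' : ∀ a, α' a * σ (α' a) = 1) (hd : ∏ a, α a = 1) (hd' : ∏ a, α' a = 1)
    (hs : ∑ a, α a * (g ◆ e 0) a * σ ((g ◆ e 0) (π a)) = 0)
    (hs' : ∑ a, α' a * (g ◆ e 0) a * σ ((g ◆ e 0) (π a)) = 0) :
    Rel g (fun r => α' (π.symm r) / α (π.symm r)) := by
  classical
  have mk : ∀ α : Fin 4 → F, (∀ a, α a * σ (α a) = 1) → ∏ a, α a = 1 →
      ∑ a, α a * (g ◆ e 0) a * σ ((g ◆ e 0) (π a)) = 0 →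
      ∃ (P : Equiv.Perm (Fin 4)) (μ : Fin 4 → F), (∀ b, μ b ≠ 0) ∧
        ∀ a b, α a * (g ◆ e b) a = μ b * (g ◆ e (P b)) (π a) := by
    intro α hα hd hs
    obtain ⟨u, hui, hue, hud⟩ := S.exists_mono π (fun i => α (π.symm i)) fun i => hα _
    simp only [Equiv.symm_apply_apply] at hue
    rw [hsign, Equiv.prod_comp π.symm α, hd] at hud
    have huM : u ∈ M := hH u ⟨hui, (mem_special_iff S).mpr (by simpa using hud)⟩
      (mono_of_perm π fun a => ⟨_, hue a⟩)
    have huy : ∀ (y : Fin 4 → F) a, (u ◆ y) (π a) = α a * y a := fun y a =>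
      mono_ap_coord (π := π) hue y a
    set x := g⁻¹ * u * g with hx
    have hxM : x ∈ M := mul_mem (mul_mem (inv_mem hg) huM) hg
    have hgx : ∀ y, g ◆ x ◆ y = u ◆ g ◆ y := fun y => by
      rw [hx, ap_mul, ap_mul, mulVec_inv_mulVec]
    have h0 : (x ◆ e 0) 0 = 0 := by
      rw [← S.f_e (x ◆ e 0) 0, ← mem_isom.mp (hMG hg).1, hgx, S.sum, ← Equiv.sum_comp π]
      simp only [huy]
      exact hs
    obtain ⟨P, μ, hP⟩ :=
      (not_not.mp fun hn => no_zero S h4 hH NC hxM hn 0 0 h0 : Mono x).exists_perm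
    refine ⟨P, μ, fun b => (hP b).1, fun a b => ?_⟩
    rw [← huy, ← hgx, (hP b).2, mulVec_smul, Pi.smul_apply, smul_eq_mul]
  obtain ⟨P, μ, hμ, hP⟩ := mk α hα hd hs
  obtain ⟨P', μ', hμ', hP'⟩ := mk α' hα' hd' hs'
  refine ⟨P.symm.trans P', fun c => μ' (P.symm c) / μ (P.symm c),
    fun c => div_ne_zero (hμ' _) (hμ _), fun r c => ?_⟩
  obtain ⟨a, rfl⟩ := π.surjective r
  obtain ⟨b, rfl⟩ := P.surjective c
  simp only [Equiv.symm_apply_apply, Equiv.trans_apply]
  have hαa : α a ≠ 0 := fun h => by simpa [h] using hα a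
  have hμb := hμ b
  have e1 := hP a b
  have e2 := hP' a b
  rw [div_mul_eq_mul_div, div_mul_eq_mul_div, div_eq_div_iff hαa hμb]
  linear_combination α a * e2 - α' a * e1

end Cfsg.Agent.SU4Geo98.LinesFour
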